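import Cfsg.Agent.H16.Fi24.Frame

/-!
Exactly six characters occur, permuted transitively by the two symmetries.
-/

set_option autoImplicit false
set_option maxRecDepth 100000

namespace H16.Fi24

open Finset

universe u

theorem dot_smul (t : ZMod 3) (l p : Pv) : dot (fun i => t * l i) p = t * dot l p := by
  simp only [dot]; ring

theorem rep_one (c : Pv) : ((c, 1) : P5) ∈ reps := by simp [mem_reps, isRep]

/-- The affine action. -/
def affine {V : Type u} [AddCommGroup V] {act : P5 → V →+ V} {A : Pv → Pv} (X : Sym act A) (c : Pv) :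
    Pv := pull A c + X.l

theorem pull_add {A : Pv → Pv} (c d : Pv) : pull A (c + d) = pull A c + pull A d :=
  funext fun i => by simp only [pull, Pi.add_apply]; ring

/-- `pull` as a homomorphism. -/
def pullHom (A : Pv → Pv) : Pv →+ Pv := AddMonoidHom.mk' (pull A) pull_add

variable {V : Type u} [AddCommGroup V] {act : P5 → V →+ V} {A B : Pv → Pv}

theorem pb_one (X : Sym act A) (c : Pv) : X.pb (c, 1) = (affine X c, 1) :=
  Prod.ext (funext fun i => by simp [Sym.pb, affine]) rfl

theorem affine_iterate (X : Sym act A) (c : Pv) (n : ℕ) :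
    X.pb^[n] (c, 1) = ((affine X)^[n] c, 1) := by
  induction n generalizing c with
  | zero => rfl
  | succ n ih => rw [Function.iterate_succ_apply, pb_one, ih, Function.iterate_succ_apply]

/-- The occurring affine characters. -/
noncomputable def supp1 (act : P5 → V →+ V) : Finset Pv :=
  @Finset.filter Pv (fun c => Supp act (c, 1)) (Classical.decPred _) univ

theorem mem_supp1 {c : Pv} : c ∈ supp1 act ↔ Supp act (c, 1) := by simp [supp1]

variable [Finite V] (H : IsAct act) (hV : Nat.card V = 4096) (X : Sym act A) (Y : Sym act B)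
  (hf : ∀ a, (∀ v, act a v = v) → a = 0) (hR : Reach A B)
include H hV X Y hf hR

omit hV Y hR in
theorem affine_mem {c : Pv} (h : c ∈ supp1 act) : affine X c ∈ supp1 act := by
  rw [mem_supp1] at h ⊢
  exact pb_one X c ▸ X.supp_pb H hf h

omit hV Y hR in
theorem affine_inj : Function.Injective (affine X) := fun c d h => by
  have := X.pb_inj H hf (a₁ := (c, 1)) (a₂ := (d, 1)) (by rw [pb_one, pb_one, h])
  exact congrArg Prod.fst this

omit hV Y hR in
theorem affine_five (c : Pv) : (affine X)^[5] c = c := by
  have := X.pb_five H hf (c, 1)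
  rw [affine_iterate] at this
  exact congrArg Prod.fst this

theorem supp_one_nonempty : (supp1 act).Nonempty := by
  classical
  by_contra hn
  have hno : ∀ χ ∈ reps, ∀ v, proj act χ v = 0 := by
    intro χ hχ v
    by_contra hv
    rcases (show χ.2 = 1 ∨ χ.2 = 0 by
      have h := mem_reps.1 hχ
      simp only [isRep, Bool.or_eq_true, Bool.and_eq_true, beq_iff_eq] at h
      tauto) with h2 | h2
    · exact hn ⟨χ.1, mem_supp1.2 ⟨v, by rwa [← h2]⟩⟩
    · refine not_linear H hV X Y hf hR (c := χ.1) (fun h1 => rep_ne_zero hχ (Prod.ext h1 h2)) ⟨v, ?_⟩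
      rwa [← h2]
  have key := hf (0, 1) fun v => by
    have e := sum_proj H v
    rw [sum_eq_zero fun χ hχ => hno χ hχ v, add_zero] at e
    rw [e, act_pA H]
  exact absurd key (by decide)

theorem supp_eq_one {χ : P5} (hχ : χ ∈ reps) (h : Supp act χ) : χ = (χ.1, 1) := by
  have h' := mem_reps.1 hχ
  simp only [isRep, Bool.or_eq_true, Bool.and_eq_true, beq_iff_eq] at h'
  rcases h' with h2 | ⟨h2, -⟩
  · exact Prod.ext rfl h2
  · exfalso
    have e : χ = (χ.1, 0) := Prod.ext rfl h2
    exact not_linear H hV X Y hf hR (c := χ.1) (fun h1 => rep_ne_zero hχ (Prod.ext h1 h2)) (e ▸ h)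

theorem supp1_card_le : (supp1 act).card ≤ 6 := by
  have h := (supp_bound H hV ((supp1 act).image fun c => ((c, 1) : P5))
    (fun χ hχ => by obtain ⟨c, -, rfl⟩ := mem_image.1 hχ; exact rep_one c)
    (fun χ hχ => by obtain ⟨c, hc, rfl⟩ := mem_image.1 hχ; exact mem_supp1.1 hc)).1
  rwa [card_image_of_injective _ fun a b e => congrArg Prod.fst e] at h

/-- There is no common fixed character. -/
theorem no_fixed {c0 : Pv} (hX : affine X c0 = c0) (hY : affine Y c0 = c0) : False := by
  classical
  have hone : ∀ c ∈ supp1 act, c = c0 := by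
    intro c hc
    by_contra hne
    have hd : c - c0 ≠ 0 := sub_ne_zero.2 hne
    let Q : Pv → Prop := fun d => c0 + d ∈ supp1 act
    have step : ∀ {A : Pv → Pv} (X : Sym act A), affine X c0 = c0 → ∀ d, Q d → Q (pull A d) := by
      intro A X hX d hd
      have h := affine_mem H X hf hd
      have e : affine X (c0 + d) = c0 + pull A d := by
        conv_rhs => rw [← hX]
        simp only [affine, pull_add]; abel
      show c0 + pull A d ∈ supp1 act
      rwa [← e]
    have h0 : Q (c - c0) := by show c0 + (c - c0) ∈ _; rwa [add_sub_cancel]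
    have hsub : (reach A B (c - c0)).toFinset ⊆
        ((supp1 act).image fun x => lineOf (x - c0)) := by
      intro d hd
      rw [List.mem_toFinset] at hd
      refine reach_mem (Q := Q) (P := fun d => d ∈ (supp1 act).image fun x => lineOf (x - c0))
        h0 (step X hX) (step Y hY) (fun e he => mem_image.2 ⟨c0 + e, he, ?_⟩) d hd
      rw [add_sub_cancel_left]
    have h1 := card_le_card hsub
    have h2 := card_image_le (s := supp1 act) (f := fun x => lineOf (x - c0))
    have h3 := supp1_card_le H hV X Y hf hR
    have h4 := hR _ hd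
    rw [List.toFinset_card_of_nodup (show (reach A B (c - c0)).Nodup from List.nodup_dedup _)] at h1
    omega
  have h := hf (Pi.single 0 1, -c0 0) fun v => by
    have e := sum_proj H v
    conv_lhs => rw [e, map_add, map_sum, act_pA H]
    conv_rhs => rw [e]
    congr 1
    refine sum_congr rfl fun χ hχ => ?_
    by_cases hv : proj act χ v = 0
    · rw [hv, map_zero]
    · refine act_proj H ?_ v
      have e1 := supp_eq_one H hV X Y hf hR hχ ⟨v, hv⟩
      have e2 := hone χ.1 (mem_supp1.2 (e1 ▸ ⟨v, hv⟩))
      rw [e1, e2]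
      simp [dt, dot_single]
  exact absurd (congrFun (congrArg Prod.fst h) 0) (by simp)

/-- Closed sets are small only if empty. -/
theorem closed_six {O : Finset Pv} (hO : O ⊆ supp1 act) (hne : O.Nonempty)
    (hX : ∀ c ∈ O, affine X c ∈ O) (hY : ∀ c ∈ O, affine Y c ∈ O) : O.card = 6 := by
  classical
  by_contra h6
  have hle := le_trans (card_le_card hO) (supp1_card_le H hV X Y hf hR)
  have hpos := hne.card_pos
  by_cases h3 : O.card = 3
  · obtain ⟨c0, hc0⟩ := hne
    have fix : ∀ {A : Pv → Pv} (X : Sym act A), (∀ c ∈ O, affine X c ∈ O) → affine X c0 = c0 := by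
      intro A X hX
      let f : ↥O → ↥O := fun c => ⟨affine X c, hX c c.2⟩
      have hfi : Function.Injective f := fun a b e =>
        Subtype.ext (affine_inj H X hf (congrArg Subtype.val e))
      let π : Equiv.Perm ↥O := Equiv.ofBijective f (Finite.injective_iff_bijective.1 hfi)
      have hπ : ∀ (n : ℕ) (c : ↥O), ((π ^ n) c).1 = (affine X)^[n] c.1 := by
        intro n
        induction n with
        | zero => intro c; rfl
        | succ n ih =>
          intro c
          rw [pow_succ, Equiv.Perm.mul_apply, ih, Function.iterate_succ_apply]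
          rfl
      have h5 : π ^ 5 = 1 := Equiv.ext fun c => Subtype.ext (by
        rw [hπ, affine_five H X hf]; rfl)
      have hd : orderOf π ∣ Nat.card (Equiv.Perm ↥O) := orderOf_dvd_natCard π
      rw [Nat.card_perm, Nat.card_eq_finsetCard, h3] at hd
      have h1 : orderOf π = 1 := Nat.eq_one_of_dvd_coprimes
        (show Nat.Coprime 5 (Nat.factorial 3) by decide) (orderOf_dvd_of_pow_eq_one h5) hd
      exact congrArg (fun σ : Equiv.Perm ↥O => (σ ⟨c0, hc0⟩).1) (orderOf_eq_one_iff.1 h1)
    exact no_fixed H hV X Y hf hR (fix X hX) (fix Y hY)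
  · have hn : ((O.card : ℕ) : ZMod 3) * (O.card : ZMod 3) = 1 := by
      have : O.card = 1 ∨ O.card = 2 ∨ O.card = 4 ∨ O.card = 5 := by omega
      rcases this with e | e | e | e <;> rw [e] <;> decide
    set n : ZMod 3 := (O.card : ZMod 3)
    have fix : ∀ {A : Pv → Pv} (X : Sym act A), (∀ c ∈ O, affine X c ∈ O) →
        affine X (n.val • ∑ c ∈ O, c) = n.val • ∑ c ∈ O, c := by
      intro A X hX
      have hbij : ∑ c ∈ O, affine X c = ∑ c ∈ O, c := by
        have hi : O.image (affine X) = O := eq_of_subset_of_card_le (image_subset_iff.2 hX)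
          (by rw [card_image_of_injective _ (affine_inj H X hf)])
        conv_rhs => rw [← hi]
        exact (sum_image (f := fun c : Pv => c) fun a _ b _ e => affine_inj H X hf e).symm
      conv_rhs => rw [← hbij]
      simp only [affine, sum_add_distrib, sum_const, nsmul_add, smul_smul]
      rw [show pull A (n.val • ∑ c ∈ O, c) = n.val • ∑ c ∈ O, pull A c by
        show pullHom A (n.val • ∑ c ∈ O, c) = n.val • ∑ c ∈ O, pullHom A c
        rw [map_nsmul, map_sum]]
      congr 1
      funext i
      rw [Pi.smul_apply, nsmul_eq_mul, Nat.cast_mul, ZMod.natCast_zmod_val, hn, one_mul]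
    exact no_fixed H hV X Y hf hR (fix X hX) (fix Y hY)

theorem supp1_card : (supp1 act).card = 6 :=
  closed_six H hV X Y hf hR Subset.rfl (supp_one_nonempty H hV X Y hf hR)
    (fun _ => affine_mem H X hf) fun _ => affine_mem H Y hf

end H16.Fi24
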