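import Cfsg.Agent.H16.Fi24.Linear

/-!
The stabiliser of a vector of the second singular orbit acts on six letters.
-/

set_option autoImplicit false
set_option maxRecDepth 100000
set_option synthInstance.maxSize 2000

namespace H16.Fi24

/-- The vector of the second orbit. -/
def v3 : W := ![(1, 0), (1, 0), (1, 0), (1, 0), 0, 0]

/-- Thirty vectors attached to it. -/
def om3 (x : W) : Prop := lab x = 2 ∧ lab (x + v3) = 2

instance : DecidablePred om3 := fun _ => inferInstanceAs (Decidable (_ ∧ _))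

/-- Fifteen classes, indexed by the pairs of letters. -/
def cls (k : Fin 15) : W :=
  ![![0, 0, 0, 0, (1, 0), (1, 0)],
    ![0, 0, 0, 0, (0, 1), (1, 1)],
    ![(0, 1), (1, 1), (1, 1), (0, 1), (1, 1), (0, 1)],
    ![(0, 1), (1, 1), (0, 1), (1, 1), (1, 1), (0, 1)],
    ![(0, 1), (0, 1), (1, 1), (1, 1), (1, 1), (0, 1)],
    ![0, 0, 0, 0, (1, 1), (0, 1)],
    ![(0, 1), (1, 1), (1, 1), (0, 1), (0, 1), (1, 1)],
    ![(0, 1), (1, 1), (0, 1), (1, 1), (0, 1), (1, 1)],
    ![(0, 1), (0, 1), (1, 1), (1, 1), (0, 1), (1, 1)],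
    ![(0, 1), (1, 1), (1, 1), (0, 1), (1, 0), (1, 0)],
    ![(0, 1), (1, 1), (0, 1), (1, 1), (1, 0), (1, 0)],
    ![(0, 1), (0, 1), (1, 1), (1, 1), (1, 0), (1, 0)],
    ![0, 0, (1, 0), (1, 0), 0, 0],
    ![0, (1, 0), 0, (1, 0), 0, 0],
    ![0, (1, 0), (1, 0), 0, 0, 0]] k

/-- The pairs of letters. -/
def edge (k : Fin 15) : Fin 6 × Fin 6 :=
  ![(0, 1), (0, 2), (0, 3), (0, 4), (0, 5), (1, 2), (1, 3), (1, 4), (1, 5), (2, 3), (2, 4), (2, 5),
    (3, 4), (3, 5), (4, 5)] k

/-- Incidence. -/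
def inc (i : Fin 6) (k : Fin 15) : Prop := (edge k).1 = i ∨ (edge k).2 = i

instance (i : Fin 6) (k : Fin 15) : Decidable (inc i k) := inferInstanceAs (Decidable (_ ∨ _))

/-- Distinct pairs with a common letter. -/
def share (j k : Fin 15) : Prop :=
  j ≠ k ∧ ((edge j).1 = (edge k).1 ∨ (edge j).1 = (edge k).2 ∨ (edge j).2 = (edge k).1 ∨
    (edge j).2 = (edge k).2)

instance (j k : Fin 15) : Decidable (share j k) := inferInstanceAs (Decidable (_ ∧ _))

/-- A member of a class. -/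
def mem3 (k : Fin 15) (x : W) : Prop := x = cls k ∨ x = cls k + v3

theorem cls_om3 : ∀ k, om3 (cls k) := by decide +kernel

theorem cls_cover : ∀ x : W, om3 x → ∃ k, x = cls k ∨ x = cls k + v3 := forall_W (by decide +kernel)

theorem cls_sep : ∀ j k, cls j = cls k ∨ cls j = cls k + v3 → j = k := by decide +kernel

theorem cls_rel : ∀ j k, (Bf (cls j) (wW (cls k)) = if share j k then 1 else 0) ∧
    Bf (cls j) (cls k) = 0 ∧ Bf (cls j) (wW (cls k + v3)) = Bf (cls j) (wW (cls k)) ∧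
    Bf (cls j + v3) (wW (cls k)) = Bf (cls j) (wW (cls k)) ∧
    Bf (cls j + v3) (wW (cls k + v3)) = Bf (cls j) (wW (cls k)) := by decide +kernel

theorem two_v3 : ∀ x : W, x + v3 + v3 = x := forall_W (by decide +kernel)

/-- The five pairs through a letter. -/
def star (i : Fin 6) (a : Fin 5) : Fin 15 :=
  ![![0, 1, 2, 3, 4], ![0, 5, 6, 7, 8], ![1, 5, 9, 10, 11], ![2, 6, 9, 12, 13], ![3, 7, 10, 12, 14],
    ![4, 8, 11, 13, 14]] i a

theorem star_inc : ∀ i k, inc i k ↔ ∃ a, star i a = k := by decide +kernel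

theorem star_share : ∀ i a b, a ≠ b → share (star i a) (star i b) := by decide +kernel

theorem four_ok : ∀ a b, share a b → ∀ c, share a c → share b c → ∀ d, share a d → share b d →
    share c d → ∃ i, inc i a ∧ inc i b ∧ inc i c ∧ inc i d := by decide +kernel

theorem star_meet : ∀ a b : Fin 15, a ≠ b → ∀ i j, inc i a → inc i b → inc j a → inc j b → i = j := by
  decide +kernel

theorem edge_ext : ∀ j k, (∀ i, inc i k → inc i j) → j = k := by decide +kernel

/-- Symmetries: additive maps fixing the vector, preserving labels and form, semilinear. -/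
structure IsSym3 (g : Equiv.Perm W) : Prop where
  add : ∀ u v, g (u + v) = g u + g v
  lab : ∀ v, lab (g v) = lab v
  q : ∀ v, qf (g v) = qf v
  scal : (∀ v, g (wW v) = wW (g v)) ∨ ∀ v, g (wW v) = wW (wW (g v))
  fix : g v3 = v3

/-- The group of symmetries. -/
def Sym3 : Subgroup (Equiv.Perm W) where
  carrier := {g | IsSym3 g}
  one_mem' := ⟨fun _ _ => rfl, fun _ => rfl, fun _ => rfl, Or.inl fun _ => rfl, rfl⟩
  mul_mem' {a b} ha hb := by
    have h4 : ∀ v : W, wW (wW (wW (wW v))) = wW v := fun v => funext fun i => by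
      have : ∀ c : F4, mu (0, 1) (mu (0, 1) (mu (0, 1) (mu (0, 1) c))) = mu (0, 1) c := by decide
      exact this _
    refine ⟨fun u v => ?_, fun v => ?_, fun v => ?_, ?_, ?_⟩
    · show a (b (u + v)) = a (b u) + a (b v)
      rw [hb.add, ha.add]
    · exact (ha.lab _).trans (hb.lab v)
    · exact (ha.q _).trans (hb.q v)
    · rcases ha.scal with h | h <;> rcases hb.scal with h' | h'
      · exact Or.inl fun v => by show a (b _) = wW (a (b v)); rw [h', h]
      · exact Or.inr fun v => by show a (b _) = wW (wW (a (b v))); rw [h', h, h]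
      · exact Or.inr fun v => by show a (b _) = wW (wW (a (b v))); rw [h', h]
      · exact Or.inl fun v => by show a (b _) = wW (a (b v)); rw [h', h, h, h4]
    · show a (b v3) = v3
      rw [hb.fix, ha.fix]
  inv_mem' {a} ha := by
    have h3 : ∀ v : W, wW (wW (wW v)) = v := fun v => funext fun i => by
      have : ∀ c : F4, mu (0, 1) (mu (0, 1) (mu (0, 1) c)) = c := by decide
      exact this _
    refine ⟨fun u v => a.injective ?_, fun v => ?_, fun v => ?_, ?_, a.injective ?_⟩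
    · rw [ha.add]; simp
    · rw [← ha.lab (a⁻¹ v)]; simp
    · rw [← ha.q (a⁻¹ v)]; simp
    · rcases ha.scal with h | h
      · exact Or.inl fun v => a.injective (by rw [h]; simp)
      · exact Or.inr fun v => a.injective (by rw [h, h]; simp [h3])
    · simp [ha.fix]

theorem mem_sym3 {g : Equiv.Perm W} : g ∈ Sym3 ↔ IsSym3 g := Iff.rfl

theorem sym3_of_K0 {g : Equiv.Perm W} (hg : g ∈ K0) (hv : g v3 = v3) : g ∈ Sym3 :=
  ⟨(isUni_K0 hg).add, lab_K0 hg, (isUni_K0 hg).q, Or.inl (isUni_K0 hg).wcomm, hv⟩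

namespace IsSym3

variable {g : Equiv.Perm W} (hg : IsSym3 g)
include hg

theorem mem_map (k : Fin 15) : ∃ k', mem3 k' (g (cls k)) :=
  cls_cover _ ⟨(hg.lab _).trans (cls_om3 k).1, by
    rw [show g (cls k) + v3 = g (cls k + v3) by rw [hg.add, hg.fix], hg.lab]; exact (cls_om3 k).2⟩

theorem Bf_eq (u v : W) : Bf (g u) (g v) = Bf u v := by simp only [Bf, ← hg.add, hg.q]

/-- The map on pairs. -/
noncomputable def pairMap (k : Fin 15) : Fin 15 := (hg.mem_map k).choose

theorem pairMap_spec (k : Fin 15) : mem3 (hg.pairMap k) (g (cls k)) := (hg.mem_map k).choose_spec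

theorem pairMap_unique {k k' : Fin 15} (h : mem3 k' (g (cls k))) : hg.pairMap k = k' := by
  refine cls_sep _ _ ?_
  rcases hg.pairMap_spec k with e | e <;> rcases h with e' | e' <;> rw [e] at e'
  · exact Or.inl e'
  · exact Or.inr e'
  · exact Or.inr (by rw [← e', two_v3])
  · exact Or.inl (add_right_cancel e')

theorem pairMap_inj : Function.Injective hg.pairMap := by
  intro a b h
  have ha := hg.pairMap_spec a
  rw [h] at ha
  refine cls_sep a b ?_
  rcases hg.pairMap_spec b with e | e <;> rcases ha with e' | e'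
  · exact Or.inl (g.injective (e'.trans e.symm))
  · exact Or.inr (g.injective (by rw [hg.add, hg.fix, e, e']))
  · exact Or.inr (g.injective (by rw [hg.add, hg.fix, e, two_v3, e']))
  · exact Or.inl (g.injective (e'.trans e.symm))

theorem pairMap_share {j k : Fin 15} (h : share j k) : share (hg.pairMap j) (hg.pairMap k) := by
  have key : ∀ (a b : Fin 15) (x y : W), mem3 a x → mem3 b y →
      Bf x (wW y) = Bf (cls a) (wW (cls b)) := by
    intro a b x y hx hy
    obtain ⟨-, -, h1, h2, h3⟩ := cls_rel a b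
    rcases hx with rfl | rfl <;> rcases hy with rfl | rfl
    exacts [rfl, h1, h2, h3]
  have h1 := key _ _ _ _ (hg.pairMap_spec j) (hg.pairMap_spec k)
  rw [(cls_rel (hg.pairMap j) (hg.pairMap k)).1] at h1
  have h2 : Bf (g (cls j)) (wW (g (cls k))) = 1 := by
    have h0 : Bf (cls j) (wW (cls k)) = 1 := by rw [(cls_rel j k).1, if_pos h]
    rcases hg.scal with e | e
    · rw [← e, hg.Bf_eq, h0]
    · have h3 : ∀ v : W, wW (wW (wW (wW v))) = wW v := fun v => funext fun i => by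
        have : ∀ c : F4, mu (0, 1) (mu (0, 1) (mu (0, 1) (mu (0, 1) c))) = mu (0, 1) c := by decide
        exact this _
      have e2 : g (wW (wW (cls k))) = wW (g (cls k)) := by rw [e, e, h3]
      rw [← e2, hg.Bf_eq]
      have hw : ∀ j k : Fin 15, Bf (cls j) (wW (wW (cls k))) = Bf (cls j) (wW (cls k)) := by decide +kernel
      rw [hw, h0]
  by_contra hn
  rw [h2, if_neg hn] at h1
  exact one_ne_zero h1

theorem exists_letter (i : Fin 6) : ∃ j, ∀ k, inc i k → inc j (hg.pairMap k) := by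
  let f : Fin 5 → Fin 15 := fun a => hg.pairMap (star i a)
  have hs : ∀ a b, a ≠ b → share (f a) (f b) := fun a b h => hg.pairMap_share (star_share i a b h)
  obtain ⟨j, h0, h1, h2, h3⟩ := four_ok (f 0) (f 1) (hs _ _ (by decide)) (f 2) (hs _ _ (by decide))
    (hs _ _ (by decide)) (f 3) (hs _ _ (by decide)) (hs _ _ (by decide)) (hs _ _ (by decide))
  obtain ⟨j', h0', h1', -, h4'⟩ := four_ok (f 0) (f 1) (hs _ _ (by decide)) (f 2) (hs _ _ (by decide))
    (hs _ _ (by decide)) (f 4) (hs _ _ (by decide)) (hs _ _ (by decide)) (hs _ _ (by decide))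
  have e := star_meet _ _ (hs 0 1 (by decide)).1 j j' h0 h1 h0' h1'
  subst e
  refine ⟨j, fun k hk => ?_⟩
  obtain ⟨a, rfl⟩ := (star_inc i k).1 hk
  fin_cases a
  exacts [h0, h1, h2, h3, h4']

/-- The map on letters. -/
noncomputable def letMap (i : Fin 6) : Fin 6 := (hg.exists_letter i).choose

theorem letMap_spec (i : Fin 6) : ∀ k, inc i k → inc (hg.letMap i) (hg.pairMap k) :=
  (hg.exists_letter i).choose_spec

theorem letMap_unique {i j : Fin 6} (h : ∀ k, inc i k → inc j (hg.pairMap k)) : hg.letMap i = j := by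
  have h0 : inc i (star i 0) := (star_inc i _).2 ⟨0, rfl⟩
  have h1 : inc i (star i 1) := (star_inc i _).2 ⟨1, rfl⟩
  exact star_meet _ _ (hg.pairMap_inj.ne (star_share i 0 1 (by decide)).1) _ _
    (hg.letMap_spec i _ h0) (hg.letMap_spec i _ h1) (h _ h0) (h _ h1)

end IsSym3

theorem pairMap_mul {a b : Equiv.Perm W} (ha : IsSym3 a) (hb : IsSym3 b) (hab : IsSym3 (a * b))
    (k : Fin 15) : hab.pairMap k = ha.pairMap (hb.pairMap k) := by
  refine hab.pairMap_unique ?_
  rw [Equiv.Perm.mul_apply]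
  rcases hb.pairMap_spec k with e | e <;> rw [e]
  · exact ha.pairMap_spec _
  · rw [ha.add, ha.fix]
    rcases ha.pairMap_spec (hb.pairMap k) with e' | e' <;> rw [e']
    · exact Or.inr rfl
    · exact Or.inl (two_v3 _)

noncomputable instance : MulAction Sym3 (Fin 6) where
  smul g i := IsSym3.letMap g.2 i
  one_smul i := IsSym3.letMap_unique _ fun k hk => by
    show inc i (IsSym3.pairMap (mem_sym3.1 (one_mem Sym3)) k)
    rw [IsSym3.pairMap_unique _ (show mem3 k ((1 : Equiv.Perm W) (cls k)) from Or.inl rfl)]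
    exact hk
  mul_smul a b i := IsSym3.letMap_unique _ fun k hk => by
    have e := pairMap_mul a.2 b.2 (Sym3.mul_mem a.2 b.2) k
    show inc _ (IsSym3.pairMap (Sym3.mul_mem a.2 b.2) k)
    rw [e]
    exact IsSym3.letMap_spec a.2 _ _ (IsSym3.letMap_spec b.2 _ _ hk)

/-- The action on six letters. -/
noncomputable def psi : Sym3 →* Equiv.Perm (Fin 6) := MulAction.toPermHom Sym3 (Fin 6)

theorem psi_apply (g : Sym3) (i : Fin 6) : psi g i = IsSym3.letMap g.2 i := rfl

theorem psi_eq_one {g : Sym3} (h : psi g = 1) (k : Fin 15) : mem3 k (g.1 (cls k)) := by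
  have hk : IsSym3.pairMap g.2 k = k := edge_ext _ _ fun i hi => by
    have := IsSym3.letMap_spec g.2 i k hi
    rwa [show IsSym3.letMap g.2 i = i from congrArg (fun σ : Equiv.Perm (Fin 6) => σ i) h] at this
  conv => arg 1; rw [← hk]
  exact IsSym3.pairMap_spec g.2 k

theorem transvection3_candidates : ∀ y : W, qf y = 1 →
    (∀ a : F4, Bf y (sm a v3) = Bf (bv 0) (sm a v3) ∧ Bf y (sm a (bv 4)) = 0 ∧ Bf y (sm a (bv 5)) = 0 ∧
      Bf y (sm a (cls 12)) = 0 ∧ Bf y (sm a (cls 13)) = Bf (bv 0) (sm a (cls 13))) →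
    y = bv 0 ∨ y = bv 0 + v3 := forall_W (by decide +kernel)

theorem Bf_bv0 : ∀ a : F4, Bf (bv 0) (sm a (bv 4)) = 0 ∧ Bf (bv 0) (sm a (bv 5)) = 0 ∧
    Bf (bv 0) (sm a (cls 12)) = 0 := by decide +kernel

theorem combos : bv 5 = cls 1 + sm (0, 1) (cls 0) ∧ bv 4 = cls 0 + bv 5 ∧
    bv 1 = bv 0 + (v3 + cls 12) ∧ bv 2 = bv 0 + (v3 + cls 13) ∧
    bv 3 = bv 2 + cls 12 ∧ bv 0 + v3 + (v3 + cls 13) + cls 12 + bv 5 = bv 3 + bv 5 + v3 ∧
    lab (bv 3 + bv 5) ≠ lab (bv 3 + bv 5 + v3) := by decide +kernel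

/-- A linear symmetry fixing four class representatives is trivial. -/
theorem fixes_cls {g : Equiv.Perm W} (hg : IsSym3 g) (hw : ∀ v, g (wW v) = wW (g v))
    (h0 : g (cls 0) = cls 0) (h1 : g (cls 1) = cls 1) (h12 : g (cls 12) = cls 12)
    (h13 : g (cls 13) = cls 13) : g = 1 := by
  have hu : IsUni g := ⟨hg.add, hw, hg.q⟩
  obtain ⟨c5, c4, c1, c2, c3, cx, cne⟩ := combos
  have e5 : g (bv 5) = bv 5 := by
    conv_lhs => rw [c5, hg.add, hu.sm_comm, h1, h0, ← c5]
  have e4 : g (bv 4) = bv 4 := by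
    conv_lhs => rw [c4, hg.add, h0, e5, ← c4]
  have hq : qf (g (bv 0)) = 1 := by rw [hg.q]; decide
  have hB : ∀ u : W, g u = u → ∀ a, Bf (g (bv 0)) (sm a u) = Bf (bv 0) (sm a u) := by
    intro u hu' a
    have e := hu.Bf_eq (bv 0) (sm a u)
    rwa [hu.sm_comm, hu'] at e
  rcases transvection3_candidates _ hq (fun a => ⟨hB _ hg.fix a, (hB _ e4 a).trans (Bf_bv0 a).1,
    (hB _ e5 a).trans (Bf_bv0 a).2.1, (hB _ h12 a).trans (Bf_bv0 a).2.2, hB _ h13 a⟩) with e0 | e0
  · refine Equiv.ext (congrFun (hu.ext_basis (h := id) ⟨fun _ _ => rfl, fun _ => rfl, fun _ => rfl⟩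
      fun j => ?_))
    have e2 : g (bv 2) = bv 2 := by
      conv_lhs => rw [c2, hg.add, hg.add, e0, hg.fix, h13, ← c2]
    fin_cases j
    · exact e0
    · show g (bv 1) = bv 1
      conv_lhs => rw [c1, hg.add, hg.add, e0, hg.fix, h12, ← c1]
    · exact e2
    · show g (bv 3) = bv 3
      conv_lhs => rw [c3, hg.add, e2, h12, ← c3]
    · exact e4
    · exact e5
  · exfalso
    refine cne ?_
    have e : g (bv 3 + bv 5) = bv 3 + bv 5 + v3 := by
      rw [hg.add, c3, hg.add, c2, hg.add, hg.add, e0, hg.fix, h13, h12, e5, ← c2, ← c3, cx]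
    rw [← e, hg.lab]

/-- At most sixteen linear symmetries fix all classes. -/
theorem kernel_bound (P : Subgroup (Equiv.Perm W)) (hP : P ≤ Sym3)
    (hw : ∀ g ∈ P, ∀ v, g (wW v) = wW (g v)) (hcls : ∀ g ∈ P, ∀ k, mem3 k (g (cls k))) :
    Nat.card P ≤ 16 := by
  classical
  let b : Fin 4 → Fin 15 := ![0, 1, 12, 13]
  let f : P → (Fin 4 → Bool) := fun g i => decide ((g : Equiv.Perm W) (cls (b i)) = cls (b i))
  have hf : Function.Injective f := by
    intro g h e
    have hfix : ∀ i, (g : Equiv.Perm W) (cls (b i)) = (h : Equiv.Perm W) (cls (b i)) := by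
      intro i
      have e' := congrFun e i
      simp only [f, decide_eq_decide] at e'
      rcases hcls g g.2 (b i) with a | a
      · rw [a, e'.1 a]
      · rcases hcls h h.2 (b i) with c | c
        · rw [c, e'.2 c]
        · rw [a, c]
    have hd : (h : Equiv.Perm W)⁻¹ * g ∈ P := mul_mem (inv_mem h.2) g.2
    have := fixes_cls (hP hd) (hw _ hd) ?_ ?_ ?_ ?_
    · exact Subtype.ext (inv_mul_eq_one.1 this).symm
    all_goals rw [Equiv.Perm.mul_apply, Equiv.Perm.inv_def, Equiv.symm_apply_eq]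
    exacts [hfix 0, hfix 1, hfix 2, hfix 3]
  have := Nat.card_le_card_of_injective f hf
  simpa [Nat.card_eq_fintype_card] using this

/-- Three elements of the stabiliser. -/
def gen3 (n : Fin 3) : Equiv.Perm W :=
  ((![[1, 1, 2, 2, 6, 7], [0, 0, 5, 5, 1, 1, 6, 6], [2, 2, 5, 5, 4, 2, 5, 0, 0]] : Fin 3 → List (Fin 10)) n |>.map gen).prod

/-- Their permutations of the pairs. -/
def pairTab (n : Fin 3) : Fin 15 → Fin 15 :=
  ![![6, 5, 0, 7, 8, 9, 2, 12, 13, 1, 10, 11, 3, 4, 14],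
    ![4, 1, 3, 2, 0, 11, 14, 13, 8, 10, 9, 5, 12, 7, 6],
    ![10, 7, 12, 3, 14, 5, 9, 1, 11, 6, 0, 8, 2, 13, 4]] n

/-- Their permutations of the letters. -/
def letTab (n : Fin 3) : Fin 6 → Fin 6 :=
  ![![1, 3, 2, 0, 4, 5], ![0, 5, 2, 4, 3, 1], ![4, 2, 1, 3, 0, 5]] n

theorem gen3_mem (n : Fin 3) : gen3 n ∈ K0 := by
  refine list_prod_mem fun g hg => ?_
  obtain ⟨k, -, rfl⟩ := List.mem_map.1 hg
  exact gen_mem k

theorem gen3_fix : ∀ n, gen3 n v3 = v3 := by decide +kernel

theorem gen3_pairs : ∀ n k, gen3 n (cls k) = cls (pairTab n k) ∨ gen3 n (cls k) = cls (pairTab n k) + v3 := by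
  decide +kernel

theorem gen3_inc : ∀ n i k, inc i k → inc (letTab n i) (pairTab n k) := by decide +kernel

theorem gen3_sym (n : Fin 3) : gen3 n ∈ Sym3 := sym3_of_K0 (gen3_mem n) (gen3_fix n)

theorem psi_gen3 (n : Fin 3) (i : Fin 6) : psi ⟨gen3 n, gen3_sym n⟩ i = letTab n i := by
  refine IsSym3.letMap_unique _ fun k hk => ?_
  show inc (letTab n i) (IsSym3.pairMap (mem_sym3.1 (gen3_sym n)) k)
  rw [IsSym3.pairMap_unique _ (show mem3 (pairTab n k) (gen3 n (cls k)) from gen3_pairs n k)]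
  exact gen3_inc n i k hk

/-- Inverse tables. -/
def letInv (n : Fin 3) : Fin 6 → Fin 6 :=
  ![![3, 0, 2, 1, 4, 5], ![0, 5, 2, 4, 3, 1], ![4, 2, 1, 3, 0, 5]] n

/-- The letters as permutations. -/
def letPerm (n : Fin 3) : Equiv.Perm (Fin 6) :=
  { toFun := letTab n, invFun := letInv n
    left_inv := by revert n; decide +kernel
    right_inv := by revert n; decide +kernel }

theorem psi_eq_letPerm (n : Fin 3) : psi ⟨gen3 n, gen3_sym n⟩ = letPerm n :=
  Equiv.ext (psi_gen3 n)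

theorem no_normal_involution : ∀ τ : Equiv.Perm (Fin 6), τ * τ = 1 → τ ≠ 1 →
    ∃ n : Fin 3, ∃ i, τ (letTab n (τ (letInv n i))) ≠ letTab n (τ (letInv n (τ i))) := by
  decide +kernel

end H16.Fi24
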