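import Cfsg.Agent.H16.Fi24.Class
import Cfsg.Agent.H16.Fi24.Stab3

/-!
The group attached to a conjugate of the central involution: order 32, acting semilinearly.
-/

set_option autoImplicit false
set_option maxRecDepth 100000

namespace H16.Fi24

open Cfsg

universe u

variable {G : Type u} [Group G] [Finite G] {z : G}
  {Q : Subgroup (Subgroup.centralizer ({z} : Set G))} [Q.Normal]

theorem rep_three : rep 3 = v3 := by decide

theorem rho_Bf (D : Model z Q) (h : Subgroup.centralizer ({z} : Set G)) (u v : W) :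
    Bf (D.ρ h u) (D.ρ h v) = Bf u v := by simp only [Bf, ← D.rho_add, D.rho_qf]

/-- Change of coordinates by an element of `M`. -/
noncomputable def Model.twist (D : Model z Q) (k : Subgroup.centralizer ({z} : Set G)) (hk : k ∈ D.M) :
    Model z Q where
  Φ x := D.Φ (k * x * k⁻¹)
  ρ := D.ρ.comp (MulAut.conj k).toMonoidHom
  map_mul x hx y hy := by
    rw [show k * (x * y) * k⁻¹ = k * x * k⁻¹ * (k * y * k⁻¹) by group]
    exact D.map_mul _ (Subgroup.Normal.conj_mem inferInstance x hx k) _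
      (Subgroup.Normal.conj_mem inferInstance y hy k)
  eq_zero x hx := by
    rw [← D.conj k x hx, ← D.eq_zero x hx]
    exact ⟨fun e => (D.ρ k).injective (e.trans (D.rho_zero k).symm), fun e => e ▸ D.rho_zero k⟩
  surj w := by
    obtain ⟨x, hx, e⟩ := D.surj w
    refine ⟨k⁻¹ * x * k, ?_, ?_⟩
    · simpa using Subgroup.Normal.conj_mem inferInstance x hx k⁻¹
    · rw [show k * (k⁻¹ * x * k) * k⁻¹ = x by group]; exact e
  sq x hx := by rw [← D.conj k x hx, D.rho_qf]; exact D.sq x hx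
  comm x hx y hy := by rw [← D.conj k x hx, ← D.conj k y hy, rho_Bf]; exact D.comm x hx y hy
  conj h x hx := by
    show D.ρ (k * h * k⁻¹) (D.Φ (k * x * k⁻¹)) = D.Φ (k * (h * x * h⁻¹) * k⁻¹)
    rw [D.conj _ _ (Subgroup.Normal.conj_mem inferInstance x hx k)]
    congr 1
    group
  ker := by
    ext h
    rw [MonoidHom.mem_ker]
    show D.ρ (k * h * k⁻¹) = 1 ↔ h ∈ Q
    rw [← MonoidHom.mem_ker, D.ker]
    exact ⟨fun e => by simpa [mul_assoc] using Subgroup.Normal.conj_mem inferInstance _ e k⁻¹,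
      fun e => Subgroup.Normal.conj_mem inferInstance h e k⟩
  M := D.M
  index_M := D.index_M
  Q_le := D.Q_le
  map_M := by
    have := Subgroup.normal_of_index_eq_two D.index_M
    rw [← Subgroup.map_map]
    conv_rhs => rw [← D.map_M]
    congr 1
    ext h
    refine ⟨fun ⟨m, hm, e⟩ => e ▸ this.conj_mem m hm k, fun hh => ⟨k⁻¹ * h * k, ?_, ?_⟩⟩
    · simpa using this.conj_mem h hh k⁻¹
    · show k * (k⁻¹ * h * k) * k⁻¹ = h
      group
  omega := by
    obtain ⟨ω, hω, e⟩ := D.omega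
    refine ⟨ω, hω, funext fun v => ?_⟩
    show D.ρ (k * ω * k⁻¹) v = wW v
    rw [_root_.map_mul, _root_.map_mul, Equiv.Perm.mul_apply, Equiv.Perm.mul_apply, e,
      (isUni_K0 (D.rho_mem k hk)).wcomm, map_inv]
    simp
  scal h := D.scal (k * h * k⁻¹)
  card_K0 := D.card_K0

theorem Model.exists_twist_apply (D : Model z Q) {s : Subgroup.centralizer ({z} : Set G)} (hs : s ∈ Q)
    (hl : lab (D.Φ s) = 3) : ∃ k, ∃ hk : k ∈ D.M, (D.twist k hk).Φ s = v3 := by
  obtain ⟨g, hg, e⟩ := exists_to_rep (D.Φ s) (by omega)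
  obtain ⟨k, hk, rfl⟩ := D.exists_rho hg
  refine ⟨k, hk, ?_⟩
  show D.Φ (k * s * k⁻¹) = v3
  rw [← D.conj k s hs, e, hl, rep_three]

/-- The linear maps. -/
def linW : Subgroup (Equiv.Perm W) where
  carrier := {g | ∀ v, g (wW v) = wW (g v)}
  one_mem' _ := rfl
  mul_mem' {a b} ha hb v := by
    show a (b (wW v)) = wW (a (b v))
    rw [hb, ha]
  inv_mem' {a} ha v := a.injective (by rw [ha]; simp)

theorem wW_twice_ne : ∀ v : W, v ≠ 0 → wW (wW v) ≠ wW v := forall_W (by decide +kernel)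

omit [Finite G] in
theorem Model.sym3_of_fix (D : Model z Q) {g : Equiv.Perm W} (hg : g ∈ D.ρ.range) (hv : g v3 = v3) :
    g ∈ Sym3 := by
  obtain ⟨h, rfl⟩ := hg
  exact ⟨D.rho_add h, D.rho_lab h, D.rho_qf h, D.scal h, hv⟩

omit [Finite G] in
theorem Model.lin_of_K0 {g : Equiv.Perm W} (hg : g ∈ K0) : g ∈ linW :=
  (isUni_K0 hg).wcomm

section

variable {s : Subgroup.centralizer ({z} : Set G)} {g : G}

/-- The involutions in the image fix every class. -/
theorem Fused.psi_image (hA : Fused z Q s g) (D : Model z Q) (hs : s ∈ Q) (hv : D.Φ s = v3)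
    {e : Equiv.Perm W} (he : e ∈ (att Q g).map D.ρ) (hsym : e ∈ Sym3) : psi ⟨e, hsym⟩ = 1 := by
  by_contra hne
  set τ := psi ⟨e, hsym⟩ with hτ
  have hsq : τ * τ = 1 := by
    rw [hτ, ← _root_.map_mul, ← map_one psi]
    exact congrArg psi (Subtype.ext (hA.image_sq D e he))
  obtain ⟨n, i, hi⟩ := no_normal_involution τ hsq hne
  refine hi ?_
  have hr : gen3 n ∈ D.ρ.range := by
    obtain ⟨m, -, e'⟩ := D.exists_rho (gen3_mem n)
    exact ⟨m, e'⟩
  have hconj := hA.image_norm D hs (by rw [hv]; decide) hr (hv ▸ gen3_fix n) he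
  have hcomm := hA.image_comm D he hconj
  let a : Sym3 := ⟨gen3 n, gen3_sym n⟩
  let x : Sym3 := ⟨e, hsym⟩
  have hc : x * (a * x * a⁻¹) = a * x * a⁻¹ * x := Subtype.ext hcomm
  have h := congrArg psi hc
  simp only [_root_.map_mul, map_inv, a, psi_eq_letPerm, x, ← hτ] at h
  exact congrArg (fun σ : Equiv.Perm (Fin 6) => σ i) h

/-- The structure of the image for a conjugate in standard position. -/
theorem Fused.image_struct (hA : Fused z Q s g) (D : Model z Q) (hs : s ∈ Q) (hv : D.Φ s = v3) :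
    Nat.card ((att Q g).map D.ρ) = 32 ∧ Nat.card ↥((att Q g).map D.ρ ⊓ K0) = 16 ∧
      Nat.card ↥(up Q ⊓ (up Q).map (MulAut.conj g).toMonoidHom) = 2 ^ 7 ∧
      ¬ (att Q g).map D.ρ ≤ linW := by
  set EI := (att Q g).map D.ρ with hEI
  have hr : EI ≤ D.ρ.range := by rintro - ⟨x, -, rfl⟩; exact ⟨x, rfl⟩
  have hsym : EI ≤ Sym3 := fun e he => D.sym3_of_fix (hr he) (hv ▸ hA.image_fix D hs e he)
  have hcls : ∀ e ∈ EI, ∀ k, mem3 k (e (cls k)) := fun e he k =>
    psi_eq_one (hA.psi_image D hs hv he (hsym he)) k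
  have h16 : ∀ L : Subgroup (Equiv.Perm W), L ≤ linW → Nat.card ↥(EI ⊓ L) ≤ 16 := fun L hL =>
    kernel_bound _ (inf_le_left.trans hsym) (fun e he => hL he.2) fun e he => hcls e he.1
  have h32 : 32 ≤ Nat.card EI := hA.image_ge D
  have h2 := D.card_le_two_mul EI hr
  have hK := h16 K0 fun e he => Model.lin_of_K0 he
  have hc : Nat.card EI * Nat.card ↥(up Q ⊓ (up Q).map (MulAut.conj g).toMonoidHom) = 2 ^ 12 :=
    hA.card_image D
  have e32 : Nat.card EI = 32 := by omega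
  refine ⟨e32, by omega, by rw [e32] at hc; omega, fun hle => ?_⟩
  have := h16 linW le_rfl
  rw [inf_eq_left.2 hle] at this
  omega

end

/-- Elements outside `M` act semilinearly. -/
theorem anti (hF : IsOfLargeFischerTypeAt z Q) (D : Model z Q)
    (h : Subgroup.centralizer ({z} : Set G)) (hh : h ∉ D.M) :
    ∀ v, D.ρ h (wW v) = wW (wW (D.ρ h v)) := by
  obtain ⟨s, hs, hc, hs1⟩ := exists_conjugate hF
  obtain ⟨g, hg⟩ := exists_g_of_isConj hc
  obtain ⟨k, hk, hv⟩ := D.exists_twist_apply hs (lab_of_conj_eq hF D hs hg hs1)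
  obtain ⟨e, he, hel⟩ := SetLike.not_le_iff_exists.1 ((fused hF hs hg hs1).image_struct _ hs hv).2.2.2
  obtain ⟨h0, -, rfl⟩ := he
  set h1 := k * h0 * k⁻¹
  have hel' : ¬ ∀ v, D.ρ h1 (wW v) = wW (D.ρ h1 v) := hel
  have h1s := (D.scal h1).resolve_left hel'
  have h1M : h1 ∉ D.M := fun hm => hel' (isUni_K0 (D.rho_mem h1 hm)).wcomm
  have hq : h * h1⁻¹ ∈ D.M :=
    (Subgroup.mul_mem_iff_of_index_two D.index_M).2 (iff_of_false hh (fun e => h1M (inv_mem_iff.1 e)))
  have hlin := (isUni_K0 (D.rho_mem _ hq)).wcomm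
  intro v
  have e : ∀ w, D.ρ h w = D.ρ (h * h1⁻¹) (D.ρ h1 w) := fun w => by
    rw [← Equiv.Perm.mul_apply, ← _root_.map_mul, inv_mul_cancel_right]
  rw [e, h1s, hlin, hlin, ← e]

end H16.Fi24
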