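import Cfsg.Agent.H81.U43.Cover

/-!
Certificate in `PSU₄(3)`: two elementary abelian subgroups of order 81 generating the group, and two
elements of order five normalising both, with few fixed characters.
-/

set_option autoImplicit false
set_option maxRecDepth 100000

namespace H16.Fi24

open H81.U43 Matrix
open H94.U43 (ad9 mu9 cj9 C4 ofRows mm4 scal meq4 isU det4')
open Cfsg

universe u

/-- Parameters of the radical. -/
abbrev Pv : Type := Fin 4 → ZMod 3

/-- The conjugating matrix. -/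
def mw : C4 := ofRows ![6, 0, 5, 3] ![0, 3, 8, 2] ![6, 1, 5, 0] ![8, 7, 3, 4]
/-- Its inverse. -/
def mwi : C4 := ofRows ![3, 0, 3, 5] ![0, 6, 1, 4] ![8, 5, 8, 6] ![6, 2, 0, 7]
/-- First element of order five. -/
def mx : C4 := ofRows ![7, 3, 7, 7] ![5, 6, 4, 8] ![3, 8, 8, 7] ![7, 0, 3, 2]
/-- Second element of order five. -/
def my : C4 := ofRows ![1, 1, 1, 1] ![1, 0, 8, 3] ![6, 1, 5, 0] ![1, 8, 7, 8]
/-- First element of order five, pulled back. -/
def mx' : C4 := ofRows ![3, 0, 1, 8] ![1, 1, 2, 6] ![1, 3, 0, 5] ![3, 7, 5, 7]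
/-- Second element of order five, pulled back. -/
def my' : C4 := ofRows ![3, 0, 8, 3] ![1, 1, 6, 6] ![6, 2, 6, 1] ![2, 7, 0, 1]

/-- A basis of the radical and of its conjugate. -/
def rb (i : Nat) : C4 :=
  ([ofRows ![1, 0, 0, 0] ![0, 1, 0, 0] ![0, 0, 4, 4] ![0, 0, 5, 7], ofRows ![1, 0, 1, 7] ![0, 1, 4, 2] ![2, 5, 1, 0] ![8, 1, 0, 1], ofRows ![1, 0, 3, 4] ![0, 1, 5, 6] ![3, 4, 1, 0] ![5, 6, 0, 1], ofRows ![4, 4, 0, 0] ![5, 7, 0, 0] ![0, 0, 1, 0] ![0, 0, 0, 1], ofRows ![7, 2, 3, 0] ![1, 7, 2, 0] ![3, 1, 7, 0] ![0, 0, 0, 1], ofRows ![4, 7, 7, 1] ![8, 4, 7, 3] ![8, 8, 4, 2] ![2, 3, 1, 1], ofRows ![7, 1, 0, 6] ![2, 1, 2, 1] ![0, 1, 4, 3] ![6, 2, 3, 1], ofRows ![4, 8, 1, 4] ![7, 7, 8, 3] ![2, 7, 4, 5] ![5, 3, 4, 7]] : List C4).getD i (scal 1)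

/-- The action of `x`. -/
def Ax (p : Pv) : Pv := ![2 * p 0 + p 1 + 2 * p 2 + p 3, p 0 + 2 * p 1, p 0 + p 2, p 0]
/-- The action of `y`. -/
def Ay (p : Pv) : Pv := ![2 * p 0 + p 1 + p 2 + p 3, 2 * p 2 + 2 * p 3, 2 * p 0 + 2 * p 1 + p 2 + 2 * p 3, 2 * p 0 + p 2 + 2 * p 3]
/-- The action of the pulled back `x`. -/
def Bx (p : Pv) : Pv := ![p 0 + 2 * p 1 + p 3, 2 * p 0 + 2 * p 1, p 0 + 2 * p 1 + p 2 + p 3, 2 * p 0 + 2 * p 1 + 2 * p 2 + p 3]
/-- The action of the pulled back `y`. -/
def By (p : Pv) : Pv := ![p 0 + 2 * p 1 + p 2 + 2 * p 3, p 1 + p 3, p 0 + 2 * p 1 + 2 * p 2 + p 3, p 0 + 2 * p 1 + p 3]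

/-- Generators as words in the two bases. -/
def wordsTab : List (List C4) :=
  [[rb 4, rb 3, rb 6, rb 6, rb 3, rb 3, rb 4, rb 4],
   [rb 0],
   [rb 6, rb 1, rb 1, rb 4, rb 5, rb 5, rb 6, rb 6, rb 1, rb 6, rb 6],
   [rb 0, rb 0, rb 5, rb 5, rb 1, rb 4, rb 1, rb 1, rb 5],
   [rb 4, rb 3, rb 6, rb 6, rb 3, rb 3, rb 4, rb 4],
   [rb 1],
   [rb 7, rb 3, rb 6, rb 5, rb 5, rb 3, rb 3, rb 7, rb 7],
   [rb 1, rb 2],
   [rb 0, rb 2, rb 6, rb 0, rb 1, rb 4, rb 5, rb 5],
   [rb 0, rb 4, rb 0, rb 0, rb 5, rb 6, rb 6, rb 0, rb 4, rb 4],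
   [rb 1, rb 4, rb 7, rb 7, rb 1, rb 1, rb 7, rb 4, rb 4, rb 1, rb 1],
   [rb 4, rb 0, rb 0, rb 5, rb 5, rb 0, rb 4, rb 4]]

variable {F : Type u} [Field F] [Fintype F] (hF : Fintype.card F = 9) (c : Coord F)

include hF in
theorem closure_liftM : Subgroup.closure (Set.range fun k : Fin 12 => c.el hF (liftM k)) = ⊤ := by
  classical
  have hF2 : Fintype.card F = 3 ^ 2 := Coord.card_sq hF
  set H := Subgroup.closure (Set.range fun k : Fin 12 => c.el hF (liftM k)) with hH
  have hgen : ∀ k < 12, c.el hF (liftM k) ∈ H := fun k hk =>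
    Subgroup.subset_closure ⟨⟨k, hk⟩, rfl⟩
  have hmeq : ∀ {A B : C4}, meq4 A B = true → A = B := fun {A B} h => by
    simp only [meq4, List.all_eq_true, List.mem_finRange, true_implies, beq_iff_eq] at h
    exact funext fun i => funext fun j => h i j
  have hokT : ∀ k < 12, okM (liftM k) = true := by decide +kernel
  have hmv : ∀ (k : ℕ), k < 12 → ∀ v : Fin 4 → Fin 9,
      H50.suMat (c.el hF (liftM k)) *ᵥ (fun i => c.φ (v i)) = fun i => c.φ (mvC (liftM k) v i) := by
    intro k hk v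
    rw [c.el_coe hF (hokT k hk)]
    ext i
    simp [Matrix.mulVec, dotProduct, Coord.up, mvC, c.add, c.mul, Fin.sum_univ_four]
    ring
  let v0 : Fin 4 → F := fun i => c.φ (baseV i)
  have ht := tree_ok
  simp only [treeOK, Bool.and_eq_true, List.all_eq_true, List.mem_finRange, true_implies,
    List.mem_range, beq_iff_eq, Bool.or_eq_true, Nat.blt_eq, bne_iff_ne, ne_eq] at ht
  have horb : ∀ k < 280, ∃ g ∈ H, ∃ l : F,
      (fun i => c.φ (isoV k i)) = l • (H50.suMat g *ᵥ v0) := by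
    intro k
    induction k using Nat.strong_induction_on with
    | _ k ih =>
      intro hk
      rcases ht.2 k hk with rfl | ⟨⟨hlt, -⟩, he⟩
      · refine ⟨1, one_mem _, 1, ?_⟩
        rw [one_smul, H50.suMat_one, Matrix.one_mulVec]
        ext i
        rw [← ht.1 i, c.mul, c.one, one_mul]
      · obtain ⟨g, hg, l, hl⟩ := ih _ hlt (lt_trans hlt hk)
        set j := fld treeN 15 k / 512 % 4
        set l' : Fin 9 := ⟨fld treeN 15 k / 2048 % 9, Nat.mod_lt _ (by norm_num)⟩
        have hj : j < 12 := by omega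
        refine ⟨c.el hF (liftM j) * g, mul_mem (hgen j hj) hg, c.φ l' * l, ?_⟩
        rw [H50.suMat_mulVec_mul, ← smul_smul, ← Matrix.mulVec_smul, ← hl, hmv j hj]
        ext i
        rw [Pi.smul_apply, smul_eq_mul, ← c.mul, he i]
  rw [eq_top_iff, ← H50.transSub_eq_top hF2 4 (by norm_num) (by norm_num), H50.transSub,
    Subgroup.closure_le]
  rintro A ⟨v, a, hv, hA⟩
  rcases eq_or_ne v 0 with rfl | hv0
  · have : A = 1 := H50.SU_ext (by
      show H50.suMat A = H50.suMat (1 : SU 4 F 3)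
      rw [hA, H50.suMat_one]
      ext i j
      simp [Cfsg.unitaryTransvection, Matrix.vecMulVec])
    rw [this]; exact one_mem H
  -- the point of `v` is in the list
  choose ψ hψ using c.bij.2
  let w : Fin 4 → Fin 9 := fun i => ψ (v i)
  let N : ℕ := (w 0).val + 9 * (w 1).val + 81 * (w 2).val + 729 * (w 3).val
  have hdig : ∀ i : Fin 4, dig N i.val = w i := by
    intro i
    have h0 := (w 0).isLt; have h1 := (w 1).isLt; have h2 := (w 2).isLt; have h3 := (w 3).isLt
    refine Fin.ext ?_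
    fin_cases i <;> simp only [dig, N, Fin.val_zero, Fin.val_one, Fin.val_two, pow_zero, pow_one,
      Nat.div_one, Fin.isValue, show ((3 : Fin 4) : ℕ) = 3 from rfl, Fin.zero_eta, Fin.mk_one,
      Fin.reduceFinMk] <;> omega
  have hN : N < 6561 := by
    have h0 := (w 0).isLt; have h1 := (w 1).isLt; have h2 := (w 2).isLt; have h3 := (w 3).isLt
    omega
  have hc := cover_ok
  simp only [coverOK, List.all_eq_true, List.mem_range, Bool.or_eq_true, bne_iff_ne, ne_eq,
    beq_iff_eq, Bool.and_eq_true, Nat.blt_eq, List.mem_finRange, true_implies] at hc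
  have hw : (fun i => c.φ (w i)) = v := funext fun i => hψ _
  obtain ⟨⟨hl0, hklt⟩, hk⟩ : (leadInv (fun i => dig N i.val) ≠ 0 ∧ _) ∧ _ := by
    rcases hc N hN with (h | h) | h
    · exfalso
      refine h (c.bij.1 ?_)
      simp only [hdig, c.add, c.mul, c.cj hF, c.zero, hψ, w]
      simp only [Cfsg.hermForm, Fin.sum_univ_four] at hv
      linear_combination hv
    · exfalso
      refine hv0 (funext fun i => ?_)
      have : w i = 0 := by
        rw [← hdig i, h]
        exact Fin.ext (by simp [dig])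
      rw [← hψ (v i)]
      show c.φ (w i) = 0
      rw [this, c.zero]
    · exact h
  obtain ⟨g, hg, l, hl⟩ := horb _ hklt
  have hl0' : c.φ (leadInv fun i => dig N i.val) ≠ 0 := fun h => hl0 (c.bij.1 (by rw [h, c.zero]))
  have hvg : v = ((c.φ (leadInv fun i => dig N i.val))⁻¹ * l) • (H50.suMat g *ᵥ v0) := by
    rw [← smul_smul, ← hl, eq_inv_smul_iff₀ hl0']
    ext i
    rw [Pi.smul_apply, smul_eq_mul, ← hk i, c.mul, hdig i, hψ]
  set μ := (c.φ (leadInv fun i => dig N i.val))⁻¹ * l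
  -- pull back to the base vector
  have hut : ∀ (x : Fin 4 → F) (μ a : F),
      unitaryTransvection 4 3 (μ • x) a = unitaryTransvection 4 3 x (a * μ ^ 4) := by
    intro x μ a
    ext i j
    simp only [Cfsg.unitaryTransvection, Matrix.add_apply, Matrix.smul_apply, Matrix.vecMulVec_apply,
      Pi.smul_apply, smul_eq_mul]
    ring
  have hT : H50.suMat (g⁻¹ * A * g) = unitaryTransvection 4 3 v0 (a * μ ^ 4) := by
    rw [H50.suMat_mul, H50.suMat_mul, hA, hvg, hut, mul_assoc,
      ← H50.iso_mul_ut (H50.SU_isIso g), ← mul_assoc, ← H50.suMat_mul, inv_mul_cancel,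
      H50.suMat_one, one_mul]
  have hv00 : v0 ≠ 0 := fun h => by
    have := congrFun h 2
    simp only [v0, baseV, Pi.zero_apply] at this
    simp [c.one] at this
  have hiso : hermForm 4 F 3 v0 v0 = 0 := by
    simp only [Cfsg.hermForm, Fin.sum_univ_four, v0]
    rw [← c.cj hF, ← c.cj hF, ← c.cj hF, ← c.cj hF, ← c.mul, ← c.mul, ← c.mul, ← c.mul, ← c.add,
      ← c.add, ← c.add, ← c.zero]
    exact congrArg c.φ (by decide)
  have hTi : H50.IsIso 3 (H50.suMat (g⁻¹ * A * g)) := H50.SU_isIso _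
  rw [hT] at hTi
  have hcond := (H50.ut_isIso_iff hF2 hv00).1 hTi
  rw [hiso, mul_zero, add_zero] at hcond
  obtain ⟨x, hx⟩ := c.bij.2 (a * μ ^ 4)
  rw [← hx, ← c.cj hF, ← c.add, ← c.zero] at hcond
  have hb := base_ok
  simp only [baseOK, List.all_eq_true, List.mem_finRange, true_implies, Bool.or_eq_true,
    bne_iff_ne, ne_eq, List.any_eq_true] at hb
  obtain ⟨s, -, hs⟩ := (hb x).resolve_left (fun h => h (c.bij.1 hcond))
  have hB1 : liftM 1 = cB 1 := by
    have := layout_ok
    simp only [layoutOK, Bool.and_eq_true] at this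
    exact hmeq this.1.1.1.1.1.1.1
  have hBs : ∀ s : ZMod 3, c.el hF (cB s) ∈ H := by
    intro s
    have h1 : c.el hF (cB 1) ∈ H := hB1 ▸ hgen 1 (by norm_num)
    have h2 : c.el hF (cB 2) ∈ H := by
      have := c.el_eq hF (l := [cB 2]) (r := [cB 1, cB 1]) (by decide +kernel)
      simp at this
      rw [this]; exact mul_mem h1 h1
    have h0 : c.el hF (cB 0) ∈ H := by
      have := c.el_eq hF (l := [cB 0]) (r := [cB 1, cB 2]) (by decide +kernel)
      simp at this
      rw [this]; exact mul_mem h1 h2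
    fin_cases s
    exacts [h0, h1, h2]
  have hokB : ∀ s : ZMod 3, okM (cB s) = true := by decide +kernel
  have hTe : g⁻¹ * A * g = c.el hF (cB s) := by
    refine H50.SU_ext ?_
    show H50.suMat (g⁻¹ * A * g) = H50.suMat (c.el hF (cB s))
    rw [hT, ← hx]
    rw [c.el_coe hF (hokB s), ← hmeq hs]
    ext i j
    simp only [Cfsg.unitaryTransvection, Matrix.add_apply, Matrix.smul_apply, Matrix.vecMulVec_apply,
      smul_eq_mul, Coord.up, utC, Matrix.of_apply, c.add, c.mul, c.cj hF, v0]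
    rcases eq_or_ne i j with h | h
    · subst h; simp [scal, c.one]; ring
    · simp [scal, h, c.zero]; ring
  have : A = g * c.el hF (cB s) * g⁻¹ := by rw [← hTe]; group
  rw [this]
  exact mul_mem (mul_mem hg (hBs s)) (inv_mem hg)



/-- The code of a radical element. -/
def rc (p : Pv) : List C4 := [cB (p 0), cE (p 1, p 2), cC (p 3)]

theorem cert_ok :
    (okM mw && okM mwi && okM mx && okM my && okM mx' && okM my' &&
      eqW [mw, mwi] [] &&
      eqW [mx, mx, mx, mx, mx] [] && eqW [my, my, my, my, my] [] &&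
      eqW [mx, mw] [mw, mx'] && eqW [my, mw] [mw, my'] &&
      ((List.finRange 4).all fun i =>
        let b : Pv := Pi.single i 1
        eqW (mx :: rc b) (rc (Ax b) ++ [mx]) && eqW (my :: rc b) (rc (Ay b) ++ [my]) &&
        eqW (mx' :: rc b) (rc (Bx b) ++ [mx']) && eqW (my' :: rc b) (rc (By b) ++ [my']) &&
        eqW [rb i.val] (rc b) && eqW [rb (i.val + 4)] ([mw] ++ rc b ++ [mwi])) &&
      ((List.range 12).all fun k => eqW [liftM k] (wordsTab.getD k []))) = true := by
  decide +kernel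

theorem words_ok : (wordsTab.all fun l => l.all fun A => (List.range 8).any fun j => meq4 A (rb j)) = true := by
  decide +kernel

theorem rc_inj : ∀ p : Pv, (rc p).all okM = true ∧
    ∀ z : Fin 9, meq4 (word (rc p)) (scal z) = true → p = 0 := by
  decide +kernel

theorem moved_ok : ((([mw, rb 0, mwi].all okM)) = true) ∧
    ∀ (p : Pv) (z : Fin 9), meq4 (word ([mw, rb 0, mwi] ++ rc p)) (scal z) = false := by
  decide +kernel

theorem order_ok : ∀ z : Fin 9, meq4 mx (scal z) = false ∧ meq4 my (scal z) = false := by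
  decide +kernel

/-- The element of a parameter. -/
noncomputable def rP (p : Pv) : PSU 4 F 3 := ((rc p).map (c.pel hF)).prod

theorem rP_add (p q : Pv) : rP hF c (p + q) = rP hF c p * rP hF c q := by
  have hB := (calc43 hF c).B_add
  have hE := (calc43 hF c).E_add
  have hC := (calc43 hF c).C_add
  have h1 := (calc43 hF c).comm_BE (q 0) (p 1, p 2)
  have h2 := (calc43 hF c).comm_BC (q 0) (p 3)
  have h3 := (calc43 hF c).comm_EC (q 1, q 2) (p 3)
  simp only [calc43] at hB hE hC h1 h2 h3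
  simp only [rP, rc, List.map_cons, List.map_nil, List.prod_cons, List.prod_nil, mul_one,
    Pi.add_apply]
  rw [show ((p 1 + q 1, p 2 + q 2) : V) = (p 1, p 2) + (q 1, q 2) from rfl, hB, hE, hC]
  simp only [mul_assoc]
  congr 1
  rw [← mul_assoc (c.pel hF (cB (q 0))), h1, mul_assoc]
  congr 1
  rw [← mul_assoc (c.pel hF (cC (p 3))), ← h2, mul_assoc]
  congr 1
  rw [← mul_assoc, ← mul_assoc, h3]

/-- The radical as a homomorphism. -/
noncomputable def rHom : Multiplicative Pv →* PSU 4 F 3 :=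
  MonoidHom.mk' (fun p => rP hF c p.toAdd) fun p q => rP_add hF c p.toAdd q.toAdd

theorem rP_inj : Function.Injective (rP hF c) := by
  have key : ∀ p, rP hF c p = 1 → p = 0 := fun p h => by
    obtain ⟨z, hz⟩ := c.scalar_of_pel hF (l := rc p) (fun A hA => List.all_eq_true.1 (rc_inj p).1 A hA) h
    exact (rc_inj p).2 z hz
  intro p q h
  rw [← sub_eq_zero]
  refine key _ ?_
  have e := rP_add hF c (p - q) q
  rw [sub_add_cancel, h] at e
  exact right_eq_mul.mp e

theorem conj_all {x : PSU 4 F 3} {A : Pv → Pv} (hA : ∀ p q, A (p + q) = A p + A q)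
    (hb : ∀ i : Fin 4, x * rP hF c (Pi.single i 1) * x⁻¹ = rP hF c (A (Pi.single i 1))) (p : Pv) :
    x * rP hF c p * x⁻¹ = rP hF c (A p) := by
  let f : Pv →+ Additive (PSU 4 F 3) := AddMonoidHom.mk' (fun p => Additive.ofMul (x * rP hF c p * x⁻¹))
    fun p q => by
      show x * rP hF c (p + q) * x⁻¹ = x * rP hF c p * x⁻¹ * (x * rP hF c q * x⁻¹)
      rw [rP_add]; group
  let g : Pv →+ Additive (PSU 4 F 3) := AddMonoidHom.mk' (fun p => Additive.ofMul (rP hF c (A p)))
    fun p q => by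
      show rP hF c (A (p + q)) = rP hF c (A p) * rP hF c (A q)
      rw [hA, rP_add]
  have hsum : ∀ p : Pv, p = (p 0).val • (Pi.single 0 1 : Pv) + (p 1).val • Pi.single 1 1 +
      (p 2).val • Pi.single 2 1 + (p 3).val • Pi.single 3 1 := by decide +kernel
  have e : ∀ i, f (Pi.single i 1) = g (Pi.single i 1) := hb
  show f p = g p
  rw [hsum p]
  simp only [map_add, map_nsmul, e]

/-- The certificate. -/
structure Cert (P : Type u) [Group P] where
  r : Pv → P
  add : ∀ p q, r (p + q) = r p * r q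
  inj : Function.Injective r
  w : P
  x : P
  y : P
  x5 : x ^ 5 = 1
  y5 : y ^ 5 = 1
  x1 : x ≠ 1
  y1 : y ≠ 1
  ax : ∀ p, x * r p * x⁻¹ = r (Ax p)
  ay : ∀ p, y * r p * y⁻¹ = r (Ay p)
  bx : ∀ p, w⁻¹ * x * w * r p * (w⁻¹ * x * w)⁻¹ = r (Bx p)
  ay' : ∀ p, w⁻¹ * y * w * r p * (w⁻¹ * y * w)⁻¹ = r (By p)
  ne : ∃ p, ∀ q, w * r p * w⁻¹ ≠ r q
  gen : Subgroup.closure (Set.range r ∪ Set.range fun p => w * r p * w⁻¹) = ⊤

include hF c in
theorem nonempty_cert : Nonempty (Cert (PSU 4 F 3)) := by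
  have h := cert_ok
  simp only [Bool.and_eq_true, List.all_eq_true, List.mem_finRange, true_implies, List.mem_range] at h
  obtain ⟨⟨⟨⟨⟨⟨⟨⟨⟨⟨⟨⟨hw, hwi⟩, hx⟩, hy⟩, hx'⟩, hy'⟩, hwwi⟩, hx5⟩, hy5⟩, hxw⟩, hyw⟩, hb⟩, hk⟩ := h
  let π := c.pel hF
  have ew : π mwi = (π mw)⁻¹ := eq_inv_of_mul_eq_one_right (by simpa [π] using c.pel_eq hF hwwi)
  have conj : ∀ {m : C4} {b a : Pv}, eqW (m :: rc b) (rc a ++ [m]) = true →
      π m * rP hF c b * (π m)⁻¹ = rP hF c a := by
    intro m b a h
    have := c.pel_eq hF h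
    rw [List.map_cons, List.prod_cons, List.map_append, List.prod_append, List.map_cons,
      List.map_nil, List.prod_singleton] at this
    exact mul_inv_eq_of_eq_mul this
  have ex : (π mw)⁻¹ * π mx * π mw = π mx' := by
    rw [mul_assoc, inv_mul_eq_iff_eq_mul]; exact H81.U43.pel_swap hF c hxw
  have ey : (π mw)⁻¹ * π my * π mw = π my' := by
    rw [mul_assoc, inv_mul_eq_iff_eq_mul]; exact H81.U43.pel_swap hF c hyw
  have hp5 : ∀ a : C4, eqW [a, a, a, a, a] [] = true → π a ^ 5 = 1 := fun a h => by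
    have := c.pel_eq hF h
    simpa [π, pow_succ, mul_assoc] using this
  have hne : ∀ a : C4, okM a = true → (∀ z, meq4 a (scal z) = false) → π a ≠ 1 := by
    intro a ha hz e
    obtain ⟨z, h⟩ := c.scalar_of_pel hF (l := [a]) (by simpa using ha) (by simpa using e)
    have hw1 : word [a] = mm4 a (scal 1) := rfl
    have hmm : ∀ A : C4, mm4 A (scal 1) = A := fun A => c.up_inj (by
      rw [c.up_mm, c.up_scal, c.one, one_smul, mul_one])
    rw [hw1, hmm, hz z] at h
    exact Bool.noConfusion h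
  refine ⟨{ r := rP hF c, add := rP_add hF c, inj := rP_inj hF c
            w := π mw, x := π mx, y := π my
            x5 := hp5 _ hx5, y5 := hp5 _ hy5
            x1 := hne _ hx fun z => (order_ok z).1
            y1 := hne _ hy fun z => (order_ok z).2
            ax := conj_all hF c (by decide +kernel) fun i => conj (hb i).1.1.1.1.1
            ay := conj_all hF c (by decide +kernel) fun i => conj (hb i).1.1.1.1.2
            bx := fun p => by
              rw [ex]; exact conj_all hF c (by decide +kernel) (fun i => conj (hb i).1.1.1.2) p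
            ay' := fun p => by
              rw [ey]; exact conj_all hF c (by decide +kernel) (fun i => conj (hb i).1.1.2) p
            ne := ?_, gen := ?_ }⟩
  · refine ⟨Pi.single 0 1, fun q e => ?_⟩
    have h0 : π (rb 0) = rP hF c (Pi.single 0 1) := by simpa [rP, π] using c.pel_eq hF (hb 0).1.2
    obtain ⟨z, hz⟩ := c.scalar_of_pel hF (l := [mw, rb 0, mwi] ++ rc (-q))
      (fun A hA => by
        rcases List.mem_append.1 hA with h | h
        · exact List.all_eq_true.1 moved_ok.1 A h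
        · exact List.all_eq_true.1 (rc_inj (-q)).1 A h) (by
        rw [List.map_append, List.prod_append]
        show π mw * (π (rb 0) * (π mwi * 1)) * rP hF c (-q) = 1
        rw [mul_one, ew, h0, ← mul_assoc, e, ← rP_add, add_neg_cancel]
        exact (rHom hF c).map_one)
    rw [moved_ok.2 (-q) z] at hz
    exact Bool.noConfusion hz
  · set S := Subgroup.closure (Set.range (rP hF c) ∪ Set.range fun p => π mw * rP hF c p * (π mw)⁻¹)
    have hrb : ∀ j < 8, π (rb j) ∈ S := by
      intro j hj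
      rcases lt_or_ge j 4 with h4 | h4
      · refine Subgroup.subset_closure (Or.inl ⟨Pi.single ⟨j, h4⟩ 1, ?_⟩)
        simpa [rP, π] using (c.pel_eq hF (hb ⟨j, h4⟩).1.2).symm
      · refine Subgroup.subset_closure (Or.inr ⟨Pi.single ⟨j - 4, by omega⟩ 1, ?_⟩)
        have := c.pel_eq hF (hb ⟨j - 4, by omega⟩).2
        simp only [List.map_cons, List.map_append, List.prod_cons, List.prod_append,
          List.map_nil, List.prod_nil, mul_one, show j - 4 + 4 = j by omega] at this
        show π mw * rP hF c _ * (π mw)⁻¹ = π (rb j)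
        rw [← ew]
        exact this.symm
    have hmeq : ∀ {A B : C4}, meq4 A B = true → A = B := fun {A B} h => by
      simp only [meq4, List.all_eq_true, List.mem_finRange, true_implies, beq_iff_eq] at h
      exact funext fun i => funext fun j => h i j
    have hgen : ∀ k < 12, π (liftM k) ∈ S := by
      intro k hk'
      have := c.pel_eq hF (hk k hk')
      rw [List.map_cons, List.map_nil, List.prod_singleton] at this
      rw [show π (liftM k) = _ from this]
      refine list_prod_mem fun g hg => ?_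
      obtain ⟨A, hA, rfl⟩ := List.mem_map.1 hg
      have hl : k < wordsTab.length := by simpa [wordsTab] using hk'
      rw [List.getD_eq_getElem _ _ hl] at hA
      have hw := words_ok
      simp only [List.all_eq_true, List.any_eq_true, List.mem_range] at hw
      obtain ⟨j, hj, hj'⟩ := hw _ (List.getElem_mem hl) A hA
      rw [hmeq hj']
      exact hrb j hj
    rw [eq_top_iff, ← Subgroup.map_top_of_surjective (QuotientGroup.mk' (Subgroup.center (SU 4 F 3)))
      (QuotientGroup.mk'_surjective _), ← closure_liftM hF c, MonoidHom.map_closure,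
      Subgroup.closure_le]
    rintro - ⟨-, ⟨k, rfl⟩, rfl⟩
    exact hgen k k.2

include hF in
theorem exists_cert : Nonempty (Cert (PSU 4 F 3)) := by
  obtain ⟨c⟩ := exists_coord hF
  exact nonempty_cert hF c

/-- Lines of functionals. -/
def lineOf (v : Pv) : Pv :=
  if (v 0 == 1) || (v 0 == 0 && (v 1 == 1 || (v 1 == 0 && (v 2 == 1 || (v 2 == 0 && v 3 == 1)))))
  then v else -v

/-- Composition of a functional with a map. -/
def pull (A : Pv → Pv) (v : Pv) : Pv := fun i => v 0 * A (Pi.single i 1) 0 + v 1 * A (Pi.single i 1) 1 +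
  v 2 * A (Pi.single i 1) 2 + v 3 * A (Pi.single i 1) 3

/-- Invariant alternating forms vanish. -/
theorem forms_zero : ∀ f : Fin 6 → ZMod 3,
    (let b := fun p q : Pv => f 0 * (p 0 * q 1 - p 1 * q 0) + f 1 * (p 0 * q 2 - p 2 * q 0) +
      f 2 * (p 0 * q 3 - p 3 * q 0) + f 3 * (p 1 * q 2 - p 2 * q 1) +
      f 4 * (p 1 * q 3 - p 3 * q 1) + f 5 * (p 2 * q 3 - p 3 * q 2)
     ∀ i j : Fin 4, b (Ax (Pi.single i 1)) (Ax (Pi.single j 1)) = b (Pi.single i 1) (Pi.single j 1) ∧
       b (Ay (Pi.single i 1)) (Ay (Pi.single j 1)) = b (Pi.single i 1) (Pi.single j 1)) → f = 0 := by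
  decide +kernel

/-- All lines reached in three steps. -/
def reach (A B : Pv → Pv) (v : Pv) : List Pv :=
  let s0 := [v]
  let s1 := s0.map (pull A) ++ s0.map (pull B)
  let s2 := s1.map (pull A) ++ s1.map (pull B)
  let s3 := s2.map (pull A) ++ s2.map (pull B)
  ((s0 ++ s1 ++ s2 ++ s3).map lineOf).dedup

theorem reach_ok : ∀ v : Pv, v ≠ 0 → 7 ≤ (reach Ax Ay v).length ∧ 7 ≤ (reach Bx By v).length := by
  decide +kernel

end H16.Fi24
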