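import Cfsg.Agent.H16.Fi24.Model

/-!
Involutions with the same label are conjugate.
-/

set_option autoImplicit false
set_option maxRecDepth 100000

namespace H16.Fi24

universe u

variable {G : Type u} [Group G] {z : G} {Q : Subgroup (Subgroup.centralizer ({z} : Set G))}
  [Q.Normal] (D : Model z Q)

/-- The element `z` of its centraliser. -/
def zc (z : G) : Subgroup.centralizer ({z} : Set G) :=
  ⟨z, Subgroup.mem_centralizer_singleton_iff.2 rfl⟩

theorem zc_comm (h : Subgroup.centralizer ({z} : Set G)) : h * zc z = zc z * h :=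
  Subtype.ext (Subgroup.mem_centralizer_singleton_iff.1 h.2)

include D in
theorem Model.zc_mem : zc z ∈ Q := by
  rw [← D.ker, MonoidHom.mem_ker]
  refine Equiv.ext fun w => ?_
  obtain ⟨x, hx, rfl⟩ := D.surj w
  rw [D.conj _ x hx, ← zc_comm, mul_inv_cancel_right]
  rfl

theorem Model.rho_Q {h : Subgroup.centralizer ({z} : Set G)} (hh : h ∈ Q) : D.ρ h = 1 := by
  rwa [← D.ker, MonoidHom.mem_ker] at hh

/-- A noncentral element is conjugate to its product with `z`. -/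
theorem Model.conj_mul_z {x : Subgroup.centralizer ({z} : Set G)} (hx : x ∈ Q) (h : D.Φ x ≠ 0) :
    ∃ y ∈ Q, y * x * y⁻¹ = x * zc z := by
  obtain ⟨y, hy, hne⟩ := D.exists_move hx h
  refine ⟨y, hy, ?_⟩
  have e : D.Φ (y * x * y⁻¹) = D.Φ x := by
    rw [← D.conj y x hx, D.rho_Q hy]
    rfl
  rcases D.eq_or_mul (Subgroup.Normal.conj_mem inferInstance x hx y) hx e with h' | h'
  · exact absurd (mul_inv_eq_iff_eq_mul.1 (Subtype.ext h')).symm hne
  · exact Subtype.ext h'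

/-- Conjugacy by the group is equality of labels. -/
theorem Model.conj_of_lab {x y : Subgroup.centralizer ({z} : Set G)} (hx : x ∈ Q) (hy : y ∈ Q)
    (h : 2 ≤ lab (D.Φ x)) (e : lab (D.Φ y) = lab (D.Φ x)) : ∃ h, h * x * h⁻¹ = y := by
  obtain ⟨g, hg, hgx⟩ := exists_of_lab h e
  obtain ⟨k, -, rfl⟩ := D.exists_rho hg
  rw [D.conj k x hx] at hgx
  have hkx : k * x * k⁻¹ ∈ Q := Subgroup.Normal.conj_mem inferInstance x hx k
  rcases D.eq_or_mul hy hkx hgx.symm with h' | h'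
  · exact ⟨k, (Subtype.ext h').symm⟩
  · have hne : D.Φ (k * x * k⁻¹) ≠ 0 := fun h0 => by
      have := (lab_cases (D.Φ (k * x * k⁻¹))).1.2 h0
      rw [← D.conj k x hx, D.rho_lab] at this
      omega
    obtain ⟨w, -, hw⟩ := D.conj_mul_z hkx hne
    refine ⟨w * k, ?_⟩
    rw [show y = k * x * k⁻¹ * zc z from Subtype.ext h', ← hw]
    group

theorem Model.lab_conj {x : Subgroup.centralizer ({z} : Set G)} (hx : x ∈ Q)
    (h : Subgroup.centralizer ({z} : Set G)) : lab (D.Φ (h * x * h⁻¹)) = lab (D.Φ x) := by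
  rw [← D.conj h x hx, D.rho_lab]

theorem rep_facts : ∀ k < 4, 2 ≤ k → qf (rep k) = 0 ∧ rep k ≠ 0 ∧ lab (rep k) = k := by
  decide +kernel

theorem Model.exists_rep {k : ℕ} (h2 : 2 ≤ k) (hk : k < 4) :
    ∃ x : Subgroup.centralizer ({z} : Set G), x ∈ Q ∧ D.Φ x = rep k ∧ orderOf x = 2 ∧ (x : G) ≠ z := by
  obtain ⟨hq, hne, -⟩ := rep_facts k hk h2
  obtain ⟨x, hx, e⟩ := D.surj (rep k)
  have h1 : x * x = 1 := (D.sq x hx).2 (e.symm ▸ hq)
  have hx1 : x ≠ 1 := fun h => hne (e.symm.trans ((D.eq_zero x hx).2 (Or.inl (by rw [h]; rfl))))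
  have := Fact.mk Nat.prime_two
  exact ⟨x, hx, e, orderOf_eq_prime (by rw [pow_two, h1]) hx1,
    fun h => hne (e.symm.trans ((D.eq_zero x hx).2 (Or.inr h)))⟩

end H16.Fi24
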