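import Cfsg.Prelude.Def_MonsterType
import Cfsg.Agent.H69.Setting
import Cfsg.Agent.H30.Extraspecial
import Cfsg.Agent.H68.ExtraComm
import Cfsg.Agent.H16.Fi24.Orbits

/-!
A conjugate of the central involution in the extraspecial subgroup and the attached group.
-/

set_option autoImplicit false
set_option maxRecDepth 100000

namespace H16.Fi24

open Cfsg

universe u

variable {G : Type u} [Group G] {z : G}

/-- The subgroup `Q` inside the group. -/
abbrev up (Q : Subgroup (Subgroup.centralizer ({z} : Set G))) : Subgroup G :=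
  Q.map (Subgroup.centralizer ({z} : Set G)).subtype

/-- The part of a conjugate of `Q` centralising `z`, inside the centraliser. -/
abbrev att (Q : Subgroup (Subgroup.centralizer ({z} : Set G))) (g : G) :
    Subgroup (Subgroup.centralizer ({z} : Set G)) :=
  ((up Q).map (MulAut.conj g).toMonoidHom ⊓ Subgroup.centralizer ({z} : Set G)).subgroupOf
    (Subgroup.centralizer ({z} : Set G))

theorem mem_up {Q : Subgroup (Subgroup.centralizer ({z} : Set G))}
    {x : Subgroup.centralizer ({z} : Set G)} : (x : G) ∈ up Q ↔ x ∈ Q :=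
  ⟨fun ⟨y, hy, e⟩ => (Subtype.ext e : y = x) ▸ hy, fun h => ⟨x, h, rfl⟩⟩

variable [Finite G] {Q : Subgroup (Subgroup.centralizer ({z} : Set G))} [Q.Normal]

/-- The facts about a conjugate of `z` in `Q`. -/
structure Fused (z : G) (Q : Subgroup (Subgroup.centralizer ({z} : Set G)))
    (s : Subgroup.centralizer ({z} : Set G)) (g : G) : Prop where
  z_mem : z ∈ (up Q).map (MulAut.conj g).toMonoidHom
  inv : orderOf s = 2
  att_card : Nat.card (att Q g) = 2 ^ 12
  inf_elem : IsElementaryAbelian 2 (up Q ⊓ (up Q).map (MulAut.conj g).toMonoidHom)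
  inf_le : Nat.card ↥(up Q ⊓ (up Q).map (MulAut.conj g).toMonoidHom) ≤ 2 ^ 7
  sq_mem : ∀ x ∈ att Q g, x * x ∈ Q
  comm_s : ∀ x ∈ att Q g, x * s * x⁻¹ = s
  normal : ∀ h, h * s * h⁻¹ = s → ∀ x ∈ att Q g, h * x * h⁻¹ ∈ att Q g

theorem card_le_of_sq {A : Type u} [Group A] [Finite A] (hQ : IsExtraspecial 2 A) (B : Subgroup A)
    (hB : IsMulCommutative B) (hA : Nat.card A = 2 ^ 13) : Nat.card B ≤ 2 ^ 7 := by
  have := Fact.mk Nat.prime_two
  have h := H30.extraspecial_center_map_le hB hQ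
  rw [hA] at h
  by_contra hn
  have : (2 ^ 7 + 1) ^ 2 ≤ Nat.card B ^ 2 := Nat.pow_le_pow_left (by omega) 2
  norm_num at this h
  omega

theorem fused (hF : IsOfLargeFischerTypeAt z Q) {s : Subgroup.centralizer ({z} : Set G)}
    (hs : s ∈ Q) {g : G} (hg : g * z * g⁻¹ = (s : G)) (hs1 : (s : G) ≠ z) : Fused z Q s g := by
  classical
  obtain ⟨⟨hz, hFit, hE, hcard, -⟩, -⟩ := hF
  have hQC : up Q ≤ Subgroup.centralizer ({z} : Set G) := Subgroup.map_subtype_le _
  have hEu : IsExtraspecial 2 ↥(up Q) := H68.isExtraspecial_of_equiv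
    (Subgroup.equivMapOfInjective Q _ (Subgroup.centralizer ({z} : Set G)).subtype_injective) hE
  have hcu : Nat.card (up Q) = 2 ^ 13 := by
    rw [Subgroup.card_map_of_injective (Subgroup.subtype_injective _), hcard]
  obtain ⟨hpre, hZ, -⟩ := H69.fstar_setting hz hQC (by rw [hFit]) hEu
  have P := H69.pair_of_preLarge hpre hZ hz g (fun h => hs1 (by
    rw [← hg, Subgroup.mem_centralizer_singleton_iff.1 h, mul_inv_cancel_right]))
    (by rw [hg]; exact mem_up.2 hs)
  have hFz := H69.lxQ_base hpre hZ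
  have hFs := H69.lxQ_self hpre hZ g
  rw [hg] at P hFs
  generalize H69.lxQ (up Q) z = F at P hFz hFs
  rw [← hFz] at hcu hEu
  have hhalf : ∀ x : Subgroup.centralizer ({z} : Set G), x ∈ att Q g ↔
      (x : G) ∈ H69.Pair.half F (s : G) z := by
    intro x
    rw [att, Subgroup.mem_subgroupOf, ← hFs]
  have hcs : Nat.card (F (s : G)) = 2 ^ 13 := by
    rw [hFs, Subgroup.card_map_of_injective (MulAut.conj g).injective, ← hFz]; exact hcu
  have hidx : ((H69.Pair.half F (s : G) z).subgroupOf (F (s : G))).index = 2 := by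
    obtain ⟨q, hq, hqz⟩ := P.symm.exists_mover
    have hnq := P.symm.mover_not_comm hqz
    rw [Subgroup.index_eq_two_iff]
    refine ⟨⟨q, hq⟩, fun b => ?_⟩
    simp only [Subgroup.mem_subgroupOf, Subgroup.coe_mul, H69.Pair.mem_half]
    by_cases hb : (b : G) * z = z * b
    · refine Or.inr ⟨⟨b.2, hb⟩, fun ⟨_, h⟩ => hnq ?_⟩
      have := (show Commute ((b : G) * q) z from h)
      have h2 := (show Commute (b : G) z from hb).inv_left.mul_left this
      rwa [inv_mul_cancel_left] at h2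
    · exact Or.inl ⟨H69.Pair.mem_half.1 (P.symm.mul_half b.2 hq hb hnq), fun h => hb h.2⟩
  have hhc : Nat.card (H69.Pair.half F (s : G) z) = 2 ^ 12 := by
    have h := ((H69.Pair.half F (s : G) z).subgroupOf (F (s : G))).card_mul_index
    rw [hidx, hcs, Nat.card_congr (Subgroup.subgroupOfEquivOfLe inf_le_left).toEquiv] at h
    simp only [Nat.reducePow, H69.Pair.half] at h ⊢
    omega
  have helem : IsElementaryAbelian 2 (F z ⊓ F (s : G)) :=
    ⟨⟨⟨fun a b => Subtype.ext (P.inf_comm a.2 b.2)⟩⟩, fun a ha => by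
      rw [pow_two]; exact P.inf_sq ha⟩
  refine ⟨?_, ?_, ?_, ?_, ?_, fun x hx => ?_, fun x hx => ?_, fun h hh x hx => ?_⟩
  · rw [← hFs]; exact P.vu
  · rw [← Subgroup.orderOf_coe, ← hg, ← hz]
    exact orderOf_injective (MulAut.conj g).toMonoidHom (MulAut.conj g).injective z
  · rw [att, Nat.card_congr (Subgroup.subgroupOfEquivOfLe inf_le_right).toEquiv, ← hhc, ← hFs]
  · rw [← hFs, ← hFz]; exact helem
  · rw [← hFs, ← hFz]
    have h2 := card_le_of_sq hEu ((F z ⊓ F (s : G)).subgroupOf (F z))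
      ⟨⟨fun a b => Subtype.ext (Subtype.ext (P.inf_comm a.2 b.2))⟩⟩ hcu
    rwa [Nat.card_congr (Subgroup.subgroupOfEquivOfLe inf_le_left).toEquiv] at h2
  · rw [← mem_up, ← hFz, Subgroup.coe_mul]
    rcases P.L.mul_self_cases P.sv (H69.Pair.mem_half.1 ((hhalf x).1 hx)).1 with h | h <;> rw [h]
    exacts [one_mem _, P.uv]
  · exact Subtype.ext (mul_inv_eq_of_eq_mul (P.symm.cu (H69.Pair.mem_half.1 ((hhalf x).1 hx)).1))
  · rw [hhalf] at hx ⊢
    rw [H69.Pair.mem_half] at hx ⊢
    refine ⟨P.L.conj_mem hx.1 ?_, Subgroup.mem_centralizer_singleton_iff.1 (h * x * h⁻¹).2⟩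
    exact congrArg Subtype.val (mul_inv_eq_iff_eq_mul.1 hh)

variable {s : Subgroup.centralizer ({z} : Set G)} {g : G} (hA : Fused z Q s g) (D : Model z Q)
include hA

/-- The image of the attached group. -/
theorem Fused.image_sq (e : Equiv.Perm W) (he : e ∈ (att Q g).map D.ρ) : e * e = 1 := by
  obtain ⟨x, hx, rfl⟩ := he
  rw [← _root_.map_mul, D.rho_Q (hA.sq_mem x hx)]

theorem Fused.image_comm {a b : Equiv.Perm W} (ha : a ∈ (att Q g).map D.ρ)
    (hb : b ∈ (att Q g).map D.ρ) : a * b = b * a := by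
  have h1 := hA.image_sq D a ha
  have h2 := hA.image_sq D b hb
  have h3 := hA.image_sq D _ (mul_mem ha hb)
  calc a * b = a * (a * b * (a * b)) * b := by rw [h3, mul_one]
    _ = (a * a) * (b * a) * (b * b) := by group
    _ = b * a := by rw [h1, h2, one_mul, mul_one]

theorem Fused.image_fix (hs : s ∈ Q) (e : Equiv.Perm W) (he : e ∈ (att Q g).map D.ρ) :
    e (D.Φ s) = D.Φ s := by
  obtain ⟨x, hx, rfl⟩ := he
  rw [D.conj x s hs, hA.comm_s x hx]

theorem Fused.card_image : Nat.card ((att Q g).map D.ρ) *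
    Nat.card ↥(up Q ⊓ (up Q).map (MulAut.conj g).toMonoidHom) = 2 ^ 12 := by
  let φ : att Q g →* Equiv.Perm W := D.ρ.comp (att Q g).subtype
  have hr : φ.range = (att Q g).map D.ρ := by rw [MonoidHom.range_comp, Subgroup.range_subtype]
  have h := φ.ker.card_mul_index
  rw [Subgroup.index_ker, hA.att_card, hr] at h
  have hk : Nat.card φ.ker = Nat.card ↥(up Q ⊓ (up Q).map (MulAut.conj g).toMonoidHom) := by
    refine Nat.card_congr (Equiv.ofBijective (fun x =>
      (⟨((x.1 : att Q g).1 : G), mem_up.2 (D.ker.le x.2), ((Subgroup.mem_subgroupOf.1 x.1.2)).1⟩ :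
        ↥(up Q ⊓ (up Q).map (MulAut.conj g).toMonoidHom))) ⟨fun a b e => ?_, fun y => ?_⟩)
    · exact Subtype.ext (Subtype.ext (Subtype.ext (congrArg Subtype.val e :)))
    · obtain ⟨x, hx, e⟩ := y.2.1
      have hxa : x ∈ att Q g :=
        Subgroup.mem_subgroupOf.2 ⟨(show (x : G) = y.1 from e) ▸ y.2.2, x.2⟩
      exact ⟨⟨⟨x, hxa⟩, MonoidHom.mem_ker.2 (D.rho_Q hx)⟩, Subtype.ext e⟩
  rw [hk, mul_comm] at h
  exact h

theorem Fused.image_ge : 32 ≤ Nat.card ((att Q g).map D.ρ) := by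
  have h := hA.card_image D
  have h2 := hA.inf_le
  by_contra hn
  have := Nat.mul_le_mul (show Nat.card ((att Q g).map D.ρ) ≤ 31 by omega) h2
  norm_num at this h
  omega

/-- Elements fixing the vector normalise the image. -/
theorem Fused.image_norm (hs : s ∈ Q) (hne : D.Φ s ≠ 0) {k : Equiv.Perm W} (hk : k ∈ D.ρ.range)
    (hfix : k (D.Φ s) = D.Φ s) {e : Equiv.Perm W} (he : e ∈ (att Q g).map D.ρ) :
    k * e * k⁻¹ ∈ (att Q g).map D.ρ := by
  obtain ⟨h, rfl⟩ := hk
  obtain ⟨x, hx, rfl⟩ := he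
  rw [D.conj h s hs] at hfix
  have hh : h * s * h⁻¹ ∈ Q := Subgroup.Normal.conj_mem inferInstance s hs h
  obtain ⟨y, hy, hys⟩ : ∃ y ∈ Q, (y * h) * s * (y * h)⁻¹ = s := by
    rcases D.eq_or_mul hh hs hfix with e | e
    · exact ⟨1, one_mem _, by rw [one_mul]; exact Subtype.ext e⟩
    · obtain ⟨y, hy, hys⟩ := D.conj_mul_z hh (hfix.symm ▸ hne)
      refine ⟨y, hy, ?_⟩
      rw [show y * h * s * (y * h)⁻¹ = y * (h * s * h⁻¹) * y⁻¹ by group, hys]
      refine Subtype.ext ?_
      rw [Subgroup.coe_mul, e]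
      have hzz : z * z = 1 := by
        have h2 : zc z * zc z = 1 := (D.sq _ D.zc_mem).2 (by
          rw [(D.eq_zero _ D.zc_mem).2 (Or.inr rfl)]; rfl)
        exact congrArg Subtype.val h2
      show (s : G) * z * z = s
      rw [mul_assoc, hzz, mul_one]
  refine ⟨_, hA.normal (y * h) hys x hx, ?_⟩
  rw [_root_.map_mul, _root_.map_mul, map_inv, _root_.map_mul, D.rho_Q hy, one_mul]

omit hA in
/-- A subgroup outside of which there is a single coset. -/
theorem Model.card_le_two_mul (E : Subgroup (Equiv.Perm W)) (hE : E ≤ D.ρ.range) :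
    Nat.card E ≤ 2 * Nat.card ↥(E ⊓ K0) := by
  classical
  have hmem : ∀ h, D.ρ h ∈ K0 ↔ h ∈ D.M := by
    intro h
    refine ⟨fun hh => ?_, D.rho_mem h⟩
    obtain ⟨m, hm, e⟩ := D.exists_rho hh
    have : m⁻¹ * h ∈ Q := by rw [← D.ker, MonoidHom.mem_ker, _root_.map_mul, map_inv, e, inv_mul_cancel]
    simpa using mul_mem hm (D.Q_le this)
  have hpair : ∀ a ∈ E, ∀ b ∈ E, a ∉ K0 → b ∉ K0 → a * b ∈ K0 := by
    intro a ha b hb ha' hb'
    obtain ⟨x, rfl⟩ := hE ha
    obtain ⟨y, rfl⟩ := hE hb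
    rw [hmem] at ha' hb'
    rw [← _root_.map_mul, hmem]
    exact (Subgroup.mul_mem_iff_of_index_two D.index_M).2 (iff_of_false ha' hb')
  by_cases h : E ≤ K0
  · rw [inf_eq_left.2 h]; omega
  · obtain ⟨e0, he0, he0'⟩ := SetLike.not_le_iff_exists.1 h
    let f : E → Bool × ↥(E ⊓ K0) := fun a =>
      if ha : a.1 ∈ K0 then (true, ⟨a, a.2, ha⟩)
      else (false, ⟨a.1 * e0, mul_mem a.2 he0, hpair _ a.2 _ he0 ha he0'⟩)
    have hf : Function.Injective f := by
      intro a b e
      simp only [f] at e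
      split at e <;> split at e
      · exact Subtype.ext (congrArg (fun x : Bool × ↥(E ⊓ K0) => (x.2 : Equiv.Perm W)) e)
      · exact absurd (congrArg Prod.fst e) (by simp)
      · exact absurd (congrArg Prod.fst e) (by simp)
      · exact Subtype.ext (mul_right_cancel
          (congrArg (fun x : Bool × ↥(E ⊓ K0) => (x.2 : Equiv.Perm W)) e))
    have := Nat.card_le_card_of_injective f hf
    rwa [Nat.card_prod, Nat.card_eq_fintype_card (α := Bool), Fintype.card_bool] at this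

end H16.Fi24
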