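import Cfsg.Agent.H16.Fi24.Exists
import Cfsg.Agent.H16.Fi24.Fusion
import Cfsg.Agent.H16.Fi24.Stab2

/-!
Conjugates of the central involution in the extraspecial subgroup lie in the second orbit.
-/

set_option autoImplicit false
set_option maxRecDepth 100000

namespace H16.Fi24

open Cfsg

universe u

variable {G : Type u} [Group G] [Finite G] {z : G}
  {Q : Subgroup (Subgroup.centralizer ({z} : Set G))} [Q.Normal]

theorem rep_two : rep 2 = v2 := by decide

/-- The class of the conjugates. -/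
theorem lab_of_conj_eq (hF : IsOfLargeFischerTypeAt z Q) (D : Model z Q)
    {s : Subgroup.centralizer ({z} : Set G)} (hs : s ∈ Q) {g : G} (hg : g * z * g⁻¹ = (s : G))
    (hs1 : (s : G) ≠ z) : lab (D.Φ s) = 3 := by
  have h2 := D.lab_involution hs (fused hF hs hg hs1).inv hs1
  have h3 := (lab_cases (D.Φ s)).2.1
  by_contra hne
  have hl : lab (D.Φ s) = 2 := by omega
  obtain ⟨k0, hk0, hk⟩ := exists_to_rep (D.Φ s) h2
  obtain ⟨h, -, rfl⟩ := D.exists_rho hk0
  rw [hl, D.conj h s hs, rep_two] at hk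
  have ht : h * s * h⁻¹ ∈ Q := Subgroup.Normal.conj_mem inferInstance s hs h
  have htg : ((h : G) * g) * z * ((h : G) * g)⁻¹ = ((h * s * h⁻¹ : _) : G) := by
    rw [Subgroup.coe_mul, Subgroup.coe_mul, Subgroup.coe_inv, ← hg]; group
  have ht1 : ((h * s * h⁻¹ : _) : G) ≠ z := fun e => by
    have h0 := (D.eq_zero _ ht).2 (Or.inr e)
    rw [hk] at h0
    exact absurd h0 (by decide)
  have hA := fused hF ht htg ht1
  set EI := (att Q ((h : G) * g)).map D.ρ with hEI
  have hfix : ∀ p ∈ EI ⊓ K0, p v2 = v2 := fun p hp => hk ▸ hA.image_fix D ht p hp.1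
  have hcard : Nat.card ↥(EI ⊓ K0) ≤ 2 := by
    refine two_group_two _ ?_ inf_le_right hfix fun k p hp => ⟨?_, ?_⟩
    · intro a
      exact ⟨1, Subtype.ext (by rw [Subgroup.coe_pow, pow_one, pow_two]; exact hA.image_sq D a.1 a.2.1)⟩
    · refine hA.image_norm D ht (by rw [hk]; decide) ?_ (hk ▸ gen2_fix k) hp.1
      obtain ⟨m, -, e⟩ := D.exists_rho (gen2_mem k)
      exact ⟨m, e⟩
    · exact K0.mul_mem (K0.mul_mem (gen2_mem k) hp.2) (K0.inv_mem (gen2_mem k))
  have h32 : 32 ≤ Nat.card EI := hA.image_ge D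
  have := D.card_le_two_mul EI (by rintro - ⟨x, -, rfl⟩; exact ⟨x, rfl⟩)
  omega

theorem exists_g_of_isConj {s : G} (h : IsConj z s) : ∃ g, g * z * g⁻¹ = s := isConj_iff.1 h

/-- Conjugates of `z` in `Q` lie in the second orbit. -/
theorem lab_of_isConj (hF : IsOfLargeFischerTypeAt z Q) (D : Model z Q)
    {s : Subgroup.centralizer ({z} : Set G)} (hs : s ∈ Q) (hc : IsConj z (s : G)) (hs1 : (s : G) ≠ z) :
    lab (D.Φ s) = 3 := by
  obtain ⟨g, hg⟩ := exists_g_of_isConj hc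
  exact lab_of_conj_eq hF D hs hg hs1

/-- Some conjugate of `z` lies in `Q` and differs from `z`. -/
theorem exists_conjugate (hF : IsOfLargeFischerTypeAt z Q) :
    ∃ s : Subgroup.centralizer ({z} : Set G), s ∈ Q ∧ IsConj z (s : G) ∧ (s : G) ≠ z := by
  obtain ⟨⟨-, -, -, -, g, ⟨hq, hm⟩, hne⟩, -⟩ := hF
  exact ⟨⟨_, hq⟩, hm, isConj_iff.2 ⟨g, rfl⟩, hne⟩

/-- Involutions of the second orbit are conjugates of `z`. -/
theorem isConj_iff_lab (hF : IsOfLargeFischerTypeAt z Q) (D : Model z Q)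
    {x : Subgroup.centralizer ({z} : Set G)} (hx : x ∈ Q) (hx1 : (x : G) ≠ z) :
    IsConj z (x : G) ↔ lab (D.Φ x) = 3 := by
  refine ⟨fun h => lab_of_isConj hF D hx h hx1, fun h => ?_⟩
  obtain ⟨s, hs, hc, hs1⟩ := exists_conjugate hF
  have hl := lab_of_isConj hF D hs hc hs1
  obtain ⟨k, rfl⟩ := D.conj_of_lab hs hx (by omega) (h.trans hl.symm)
  refine hc.trans (isConj_iff.2 ⟨(k : G), ?_⟩)
  simp

end H16.Fi24
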