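import Cfsg.Agent.H16.Fi24.Affine

/-!
Coordinates over the field with four elements from the six lines.
-/

set_option autoImplicit false
set_option maxRecDepth 100000

namespace H16.Fi24

open Finset

universe u

variable {V : Type u} [AddCommGroup V] {act : P5 → V →+ V} {A B : Pv → Pv}

/-- An invariant form. -/
structure IsForm (act : P5 → V →+ V) (q : V → ZMod 2) (b : V → V → ZMod 2) : Prop where
  polar : ∀ x y, q (x + y) = q x + q y + b x y
  add_left : ∀ x x' y, b (x + x') y = b x y + b x' y
  inv : ∀ a v, q (act a v) = q v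
  nondeg : ∀ x, (∀ y, b x y = 0) → x = 0

/-- Coordinates. -/
structure Coords (act : P5 → V →+ V) (q : V → ZMod 2) (X : Sym act A) (Y : Sym act B) where
  e : W ≃+ V
  c : Fin 6 → Pv
  act_eq : ∀ p s a, act (p, s) (e a) = e (mono 1 (fun i => dot (c i) p + s) a)
  q_eq : ∀ a, q (e a) = qf a
  σX : Equiv.Perm (Fin 6)
  dX : Fin 6 → ZMod 3
  X_eq : ∀ a, X.g (e a) = e (mono σX dX a)
  σY : Equiv.Perm (Fin 6)
  dY : Fin 6 → ZMod 3
  Y_eq : ∀ a, Y.g (e a) = e (mono σY dY a)
  closed : ∀ O : Finset (Fin 6), O.Nonempty → (∀ i ∈ O, σX i ∈ O) → (∀ i ∈ O, σY i ∈ O) → O = univ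
  sum_c : ∑ i, c i = 0

theorem mem_of_symm {σ : Equiv.Perm (Fin 6)} {O : Finset (Fin 6)} (h : ∀ i ∈ O, σ i ∈ O) :
    ∀ i ∈ O, σ.symm i ∈ O := by
  intro i hi
  have e : O.image σ = O := eq_of_subset_of_card_le (image_subset_iff.2 h)
    (by rw [card_image_of_injective _ σ.injective])
  rw [← e] at hi
  obtain ⟨j, hj, rfl⟩ := mem_image.1 hi
  rwa [σ.symm_apply_apply]

theorem one_or_zero (x : ZMod 2) : x = 0 ∨ x = 1 := by revert x; decide

variable [Finite V] (H : IsAct act) (hV : Nat.card V = 4096) (X : Sym act A) (Y : Sym act B)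
  (hf : ∀ a, (∀ v, act a v = v) → a = 0) (hR : Reach A B) {q : V → ZMod 2} {b : V → V → ZMod 2}
  (hq : IsForm act q b)
include H hV X Y hf hR hq

theorem nonempty_coords : Nonempty (Coords act q X Y) := by
  classical
  have h2 := H.two
  have hcard := supp1_card H hV X Y hf hR
  let E : Fin 6 ≃ ↥(supp1 act) := (Finset.equivFinOfCardEq hcard).symm
  let c : Fin 6 → Pv := fun i => (E i).1
  have hcinj : Function.Injective c := fun i j h => E.injective (Subtype.ext h)
  have hsupp : ∀ i, Supp act (c i, 1) := fun i => mem_supp1.1 (E i).2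
  set T := (supp1 act).image fun c => ((c, 1) : P5) with hT
  have hTr : T ⊆ reps := fun χ hχ => by obtain ⟨c, -, rfl⟩ := mem_image.1 hχ; exact rep_one c
  have hTc : T.card = 6 := by rw [card_image_of_injective _ fun a b e => congrArg Prod.fst e, hcard]
  obtain ⟨hU, -⟩ := (supp_bound H hV T hTr fun χ hχ => by
    obtain ⟨c, hc, rfl⟩ := mem_image.1 hχ; exact mem_supp1.1 hc).2 hTc
  choose v hv using hsupp
  let u : Fin 6 → V := fun i => proj act (c i, 1) (v i)
  have hu0 : ∀ i, u i ≠ 0 := hv
  have hufix : ∀ i, proj act (c i, 1) (u i) = u i := fun i => proj_proj H _ _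
  have huact : ∀ i p s, act (p, s) (u i) = act (0, dot (c i) p + s) (u i) := by
    intro i p s
    have h : dt (c i, 1) (p, -dot (c i) p) = 0 := by simp [dt]
    have e : ((p, s) : P5) = (0, dot (c i) p + s) + (p, -dot (c i) p) :=
      Prod.ext (zero_add p).symm (by show s = dot (c i) p + s + -dot (c i) p; ring)
    rw [e, H.add, show act (p, -dot (c i) p) (u i) = u i from act_proj H h _]
  let lin : Fin 6 → F4 →+ V := fun i => AddMonoidHom.mk'
    (fun a => a.1.val • u i + a.2.val • act (0, 1) (u i)) (fun a a' => by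
      have hv2 : ∀ x y : ZMod 2, (x + y).val = (x.val + y.val) % 2 := by decide
      show (a + a').1.val • u i + (a + a').2.val • act (0, 1) (u i) = _
      rw [Prod.fst_add, Prod.snd_add, hv2, hv2, ← nsmul_eq_mod H, ← nsmul_eq_mod H, add_nsmul,
        add_nsmul]
      abel)
  have hs : ∀ i, u i + act (0, 1) (u i) = act (0, 2) (u i) := by
    intro i
    set w := act (0, 1) (u i) with hw
    set w2 := act (0, 2) (u i) with hw2
    have e : act (0, 1) (u i + w + w2) = u i + w + w2 := by
      rw [map_add, map_add, hw, hw2, ← H.add, ← H.add,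
        show ((0, 1) : P5) + (0, 1) = (0, 2) by decide, show ((0, 1) : P5) + (0, 2) = 0 by decide,
        H.zero]
      abel
    have hfx : proj act (c i, 1) (u i + w + w2) = u i + w + w2 := by
      rw [map_add, map_add, hw, hw2, ← act_proj_comm H, ← act_proj_comm H, hufix]
    by_contra hne
    refine moved H hfx (fun h0 => hne ?_) (a := (0, 1)) (by simp [dt, dot]) e
    rw [show w2 = -(u i + w) from eq_neg_of_add_eq_zero_right h0]
    exact (neg_eq_of_add_eq_zero_left (h2 _)).symm
  have hpw : ∀ i k, lin i (pw k) = act (0, k) (u i) := by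
    intro i k
    show (pw k).1.val • u i + (pw k).2.val • act (0, 1) (u i) = _
    rcases (show k = 0 ∨ k = 1 ∨ k = 2 by revert k; decide) with rfl | rfl | rfl
    · simp only [pw_zero]; rw [show ((0, 0) : P5) = 0 from rfl, H.zero]; simp [ZMod.val_one]
    · simp [pw, ZMod.val_one]
    · simp only [pw, show (2 : ZMod 3) ≠ 0 by decide, show (2 : ZMod 3) ≠ 1 by decide, if_false,
        ZMod.val_one, one_nsmul, hs]
  have hlin0 : ∀ i a, lin i a = 0 → a = 0 := by
    intro i a h
    by_contra ha
    obtain ⟨k, rfl⟩ := exists_pw a ha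
    rw [hpw] at h
    refine hu0 i ?_
    have := congrArg (act (0, -k)) h
    rwa [← H.add, map_zero, show ((0, -k) : P5) + (0, k) = 0 from Prod.ext (add_zero 0) (neg_add_cancel k),
      H.zero] at this
  have hactlin : ∀ i p s a, act (p, s) (lin i a) = lin i (mu (pw (dot (c i) p + s)) a) := by
    intro i p s a
    rcases eq_or_ne a 0 with rfl | ha
    · rw [mu_zero, map_zero, map_zero]
    · obtain ⟨k, rfl⟩ := exists_pw a ha
      rw [← pw_add, hpw, hpw, act_comm H, huact, ← H.add]
      congr 1
      refine congrArg act (Prod.ext (add_zero 0) ?_)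
      show k + (dot (c i) p + s) = dot (c i) p + s + k
      ring
  have hproj : ∀ i a, proj act (c i, 1) (lin i a) = lin i a := by
    intro i a
    show proj act (c i, 1) (a.1.val • u i + a.2.val • act (0, 1) (u i)) = _
    rw [map_add, map_nsmul, map_nsmul, ← act_proj_comm H, hufix]
    rfl
  let f : W →+ V := ∑ i, (lin i).comp (Pi.evalAddMonoidHom (fun _ => F4) i)
  have hfa : ∀ a : W, f a = ∑ i, lin i (a i) := fun a => by
    simp [f, AddMonoidHom.finsetSum_apply]
  have hpick : ∀ a i, proj act (c i, 1) (f a) = lin i (a i) := by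
    intro a i
    rw [hfa, map_sum, sum_eq_single i]
    · exact hproj i _
    · intro j _ hne
      rw [← hproj j]
      exact proj_other H (rep_one _) (rep_one _) (fun e => hne (hcinj (congrArg Prod.fst e)).symm) _
    · simp
  have hfinj : Function.Injective f := by
    rw [injective_iff_map_eq_zero]
    intro a ha
    funext i
    refine hlin0 i _ ?_
    rw [← hpick, ha, map_zero]
  have hcW : Nat.card W = 4096 := by simp [Nat.card_eq_fintype_card]
  let e : W ≃+ V := AddEquiv.ofBijective f
    ((Nat.bijective_iff_injective_and_card f).2 ⟨hfinj, by rw [hcW, hV]⟩)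
  -- the form
  have bzero : ∀ y, b 0 y = 0 := fun y => by
    have := hq.add_left 0 0 y
    rw [add_zero] at this
    exact left_eq_add.mp this
  have q0 : q 0 = 0 := by
    have := hq.polar 0 0
    rw [add_zero, bzero, add_zero] at this
    exact left_eq_add.mp this
  have bsymm : ∀ x y, b x y = b y x := fun x y => by
    have h1 := hq.polar x y
    have h3 := hq.polar y x
    rw [add_comm y x, h1, add_comm (q y) (q x)] at h3
    exact add_left_cancel h3
  have binv : ∀ a x y, b (act a x) (act a y) = b x y := fun a x y => by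
    have h1 := hq.polar (act a x) (act a y)
    rw [← map_add, hq.inv, hq.inv, hq.inv, hq.polar] at h1
    exact (add_left_cancel h1).symm
  let bl : V → V →+ ZMod 2 := fun y => AddMonoidHom.mk' (fun x => b x y) fun x x' => hq.add_left x x' y
  have bsum : ∀ (s : Finset P5) (g : P5 → V) y, b (∑ a ∈ s, g a) y = ∑ a ∈ s, b (g a) y :=
    fun s g y => map_sum (bl y) g s
  have bsum' : ∀ (s : Finset P5) (g : P5 → V) y, b y (∑ a ∈ s, g a) = ∑ a ∈ s, b y (g a) :=
    fun s g y => by rw [bsymm, bsum]; exact sum_congr rfl fun a _ => bsymm _ _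
  have adj : ∀ a x y, b (act a x) y = b x (act (-a) y) := fun a x y => by
    conv_rhs => rw [← binv a, ← H.add, add_neg_cancel, H.zero]
  have badd : ∀ x y y', b x (y + y') = b x y + b x y' := fun x y y' => by
    rw [bsymm, hq.add_left, bsymm y, bsymm y']
  have key : ∀ (s : Finset P5), (∀ a, a ∈ s ↔ -a ∈ s) → ∀ x y,
      b (∑ a ∈ s, act a x) y = b x (∑ a ∈ s, act a y) := by
    intro s hs x y
    refine (bsum s (fun a => act a x) y).trans (Eq.trans ?_ (bsum' s (fun a => act a y) x).symm)
    exact sum_equiv (Equiv.neg P5) (fun a => hs a) fun a _ => adj a x y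
  have padj : ∀ χ x y, b (proj act χ x) y = b x (proj act χ y) := by
    intro χ x y
    simp only [proj, pK, pA, AddMonoidHom.add_apply, AddMonoidHom.finsetSum_apply]
    refine (hq.add_left _ _ _).trans (Eq.trans ?_ (badd _ _ _).symm)
    refine congrArg₂ (· + ·) (key (kr χ) (fun a => ?_) x y)
      (key univ (fun a => ⟨fun _ => mem_univ _, fun _ => mem_univ _⟩) x y)
    rw [mem_kr, mem_kr]
    show dt χ a = 0 ↔ dtHom χ (-a) = 0
    rw [map_neg, neg_eq_zero]
    exact Iff.rfl
  have orth : ∀ i j, i ≠ j → ∀ a a', b (lin i a) (lin j a') = 0 := by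
    intro i j hij a a'
    rw [← hproj i a, padj, ← hproj j a',
      proj_other H (rep_one _) (rep_one _) (fun e => hij (hcinj (congrArg Prod.fst e))), bsymm, bzero]
  have qu : ∀ i, q (u i) = 1 := by
    intro i
    refine (one_or_zero _).resolve_left fun h0 => hu0 i (hq.nondeg _ fun y => ?_)
    obtain ⟨a, rfl⟩ := e.surjective y
    show b (u i) (f a) = 0
    rw [hfa, bsymm, ← show lin i (pw 0) = u i by
      rw [hpw, show ((0, 0) : P5) = 0 from rfl, H.zero]]
    rw [show b (∑ j, lin j (a j)) (lin i (pw 0)) = ∑ j, b (lin j (a j)) (lin i (pw 0)) from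
      map_sum (bl _) _ _]
    refine sum_eq_zero fun j _ => ?_
    rcases eq_or_ne j i with rfl | hne
    · rcases eq_or_ne (a j) 0 with hz | hz
      · rw [hz, map_zero, bzero]
      obtain ⟨k, hk⟩ := exists_pw _ hz
      have h1 := hq.polar (lin j (a j)) (lin j (pw 0))
      have hqall : ∀ x : F4, q (lin j x) = 0 := fun x => by
        rcases eq_or_ne x 0 with rfl | hx
        · rw [map_zero, q0]
        · obtain ⟨k, rfl⟩ := exists_pw x hx
          rw [hpw, hq.inv, h0]
      rw [← map_add, hqall, hqall, hqall, zero_add, zero_add] at h1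
      exact h1.symm
    · exact orth j i hne _ _
  have qlin : ∀ i a, q (lin i a) = (nz a : ZMod 2) := by
    intro i a
    rcases eq_or_ne a 0 with rfl | ha
    · rw [map_zero, q0]; rfl
    · obtain ⟨k, rfl⟩ := exists_pw a ha
      rw [hpw, hq.inv, qu, nz, if_neg (pw_ne_zero k), Nat.cast_one]
  have qe : ∀ a, q (e a) = qf a := by
    intro a
    show q (f a) = qf a
    rw [hfa]
    have key : ∀ s : Finset (Fin 6), q (∑ i ∈ s, lin i (a i)) = ∑ i ∈ s, (nz (a i) : ZMod 2) := by
      intro s
      induction s using Finset.induction_on with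
      | empty => rw [sum_empty, sum_empty, q0]
      | insert j s hj ih =>
        rw [sum_insert hj, sum_insert hj, hq.polar, qlin, ih, bsymm,
          show b (∑ i ∈ s, lin i (a i)) (lin j (a j)) = ∑ i ∈ s, b (lin i (a i)) (lin j (a j)) from
            map_sum (bl _) _ _,
          sum_eq_zero fun i hi => orth i j (fun h => hj (by rwa [← h])) _ _, add_zero]
    rw [key, qf, cnt, ← Nat.cast_sum, Fin.sum_univ_six]
  -- the symmetries
  have sym : ∀ {A : Pv → Pv} (X : Sym act A), ∃ (σ : Equiv.Perm (Fin 6)) (d : Fin 6 → ZMod 3),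
      (∀ i, affine X (c i) = c (σ.symm i)) ∧ ∀ a, X.g (e a) = e (mono σ d a) := by
    intro A X
    let τ : Fin 6 → Fin 6 := fun i => E.symm ⟨affine X (c i), affine_mem H X hf (E i).2⟩
    have hτ : ∀ i, c (τ i) = affine X (c i) := fun i => by simp [τ, c]
    have hτb : Function.Bijective τ := Finite.injective_iff_bijective.1 fun i j h =>
      hcinj (affine_inj H X hf (by rw [← hτ, ← hτ, h]))
    have hgu : ∀ i, ∃ k, X.g (u (τ i)) = act (0, k) (u i) := by
      intro i
      have hmem : X.g (u (τ i)) ∈ (proj act (c i, 1)).range := by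
        refine ⟨X.g (u (τ i)), ?_⟩
        rw [← proj_transport (X.α_bij H hf) (X.dt_pb (c i, 1)) X.conj', pb_one, ← hτ, hufix]
      have h4 := hU (c i, 1) (mem_image_of_mem _ (E i).2)
      let g : F4 → (proj act (c i, 1)).range := fun a => ⟨lin i a, lin i a, hproj i a⟩
      have hg : Function.Injective g := fun a a' h => by
        refine sub_eq_zero.1 (hlin0 i _ ?_)
        rw [map_sub, show lin i a = lin i a' from congrArg Subtype.val h, sub_self]
      obtain ⟨a, ha⟩ := ((Nat.bijective_iff_injective_and_card g).2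
        ⟨hg, by rw [h4]; simp [Nat.card_eq_fintype_card]⟩).2 ⟨_, hmem⟩
      have ha' : lin i a = X.g (u (τ i)) := congrArg Subtype.val ha
      obtain ⟨k, rfl⟩ := exists_pw a (by
        rintro rfl
        rw [map_zero, ← map_zero X.g] at ha'
        exact hu0 _ (X.g_inj ha').symm)
      exact ⟨k, by rw [← ha', hpw]⟩
    choose k hk using hgu
    refine ⟨(Equiv.ofBijective τ hτb).symm, k, fun i => (hτ i).symm, fun a => ?_⟩
    show X.g (f a) = f _
    rw [hfa, hfa, map_sum, ← (Equiv.ofBijective τ hτb).sum_comp]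
    refine sum_congr rfl fun i _ => ?_
    show X.g (lin (τ i) (a (τ i))) = lin i (mu (pw (k i)) (a (τ i)))
    rcases eq_or_ne (a (τ i)) 0 with hz | hz
    · rw [hz, mu_zero, map_zero, map_zero, map_zero]
    · obtain ⟨j, hj⟩ := exists_pw _ hz
      rw [← hj, ← pw_add, hpw, hpw, X.g_scalar, hk, ← H.add]
      congr 1
      exact congrArg act (Prod.ext (add_zero 0) (add_comm j (k i)))
  obtain ⟨σX, dX, hσX, hXe⟩ := sym X
  obtain ⟨σY, dY, hσY, hYe⟩ := sym Y
  have hcsum : ∑ i, c i = 0 := by
    by_contra hne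
    have fix : ∀ {A : Pv → Pv} (X : Sym act A) (σ : Equiv.Perm (Fin 6)),
        (∀ i, affine X (c i) = c (σ.symm i)) → pull A (∑ i, c i) = ∑ i, c i := by
      intro A X σ hσ
      have e1 : ∑ i, affine X (c i) = ∑ i, c i := by simp only [hσ]; exact σ.symm.sum_comp c
      simp only [affine, sum_add_distrib, sum_const, card_univ, Fintype.card_fin] at e1
      have h6 : (6 : ℕ) • X.l = 0 := funext fun i => by
        rw [Pi.smul_apply, nsmul_eq_mul, show ((6 : ℕ) : ZMod 3) = 0 from by decide, zero_mul]
        rfl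
      rw [h6, add_zero] at e1
      exact (map_sum (pullHom A) c univ).trans e1
    have hA := fix X σX hσX
    have hB := fix Y σY hσY
    have h := reach_mem (P := fun d => d = lineOf (∑ i, c i)) (Q := fun d => d = ∑ i, c i)
      (A := A) (B := B) rfl (fun d h => by subst h; exact hA) (fun d h => by subst h; exact hB)
      (fun d h => by rw [h])
    have hsub : (reach A B (∑ i, c i)).toFinset ⊆ {lineOf (∑ i, c i)} := fun d hd => by
      rw [mem_singleton]; exact h d (List.mem_toFinset.1 hd)
    have h1 := card_le_card hsub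
    rw [List.toFinset_card_of_nodup (show (reach A B (∑ i, c i)).Nodup from List.nodup_dedup _),
      card_singleton] at h1
    have := hR _ hne
    omega
  refine ⟨⟨e, c, fun p s a => ?_, qe, σX, dX, hXe, σY, dY, hYe, fun O hO hX' hY' => ?_, hcsum⟩⟩
  · show act (p, s) (f a) = f _
    rw [hfa, hfa, map_sum]
    exact sum_congr rfl fun i _ => hactlin i p s _
  · have hX'' : ∀ x ∈ O.image c, affine X x ∈ O.image c := by
      intro x hx
      obtain ⟨i, hi, rfl⟩ := mem_image.1 hx
      exact hσX i ▸ mem_image_of_mem _ (mem_of_symm hX' i hi)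
    have hY'' : ∀ x ∈ O.image c, affine Y x ∈ O.image c := by
      intro x hx
      obtain ⟨i, hi, rfl⟩ := mem_image.1 hx
      exact hσY i ▸ mem_image_of_mem _ (mem_of_symm hY' i hi)
    have h6 := closed_six H hV X Y hf hR (O := O.image c)
      (fun x hx => by obtain ⟨i, -, rfl⟩ := mem_image.1 hx; exact (E i).2) (hO.image c) hX'' hY''
    rw [card_image_of_injective _ hcinj] at h6
    exact eq_univ_of_card O (by simp [h6])

end H16.Fi24
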