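import Mathlib

/-!
An elementary abelian group of order 243 acting on an elementary abelian two-group: the projections
onto the fixed spaces of its maximal subgroups.
-/

set_option autoImplicit false
set_option maxRecDepth 100000

namespace H16.Fi24

open Finset

universe u

/-- Parameters of the group. -/
abbrev P5 : Type := (Fin 4 → ZMod 3) × ZMod 3

/-- The pairing on four coordinates. -/
def dot (c p : Fin 4 → ZMod 3) : ZMod 3 := c 0 * p 0 + c 1 * p 1 + c 2 * p 2 + c 3 * p 3

/-- The pairing. -/
def dt (χ a : P5) : ZMod 3 := dot χ.1 a.1 + χ.2 * a.2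

theorem dot_add (c p q : Fin 4 → ZMod 3) : dot c (p + q) = dot c p + dot c q := by
  simp only [dot, Pi.add_apply]; ring

theorem dot_add_left (c d p : Fin 4 → ZMod 3) : dot (c + d) p = dot c p + dot d p := by
  simp only [dot, Pi.add_apply]; ring

theorem dot_neg_left (c p : Fin 4 → ZMod 3) : dot (-c) p = -dot c p := by
  simp only [dot, Pi.neg_apply]; ring

theorem dt_add (χ a b : P5) : dt χ (a + b) = dt χ a + dt χ b := by
  simp only [dt, Prod.fst_add, Prod.snd_add, dot_add]; ring

theorem dt_neg (χ a : P5) : dt (-χ) a = -dt χ a := by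
  simp only [dt, Prod.fst_neg, Prod.snd_neg, dot_neg_left]; ring

/-- The pairing as a homomorphism. -/
def dtHom (χ : P5) : P5 →+ ZMod 3 := AddMonoidHom.mk' (dt χ) (dt_add χ)

theorem dt_nsmul (χ a : P5) (n : ℕ) : dt χ (n • a) = (n : ZMod 3) * dt χ a := by
  rw [← nsmul_eq_mul]; exact map_nsmul (dtHom χ) n a

theorem eq_zero_of_dt {χ : P5} (h : ∀ a, dt χ a = 0) : χ = 0 := by
  refine Prod.ext (funext fun i => ?_) ?_
  · have := h (Pi.single i 1, 0)
    fin_cases i <;> simpa [dt, dot] using this
  · simpa [dt, dot] using h (0, 1)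

theorem dt_one {χ : P5} (h : χ ≠ 0) : ∃ a, dt χ a = 1 := by
  by_contra hn
  push Not at hn
  refine h (eq_zero_of_dt fun a => ?_)
  have h1 := hn a
  have h2 : dt χ (a + a) ≠ 1 := hn _
  rw [dt_add] at h2
  revert h1 h2
  generalize dt χ a = x
  revert x
  decide

theorem dt_zero_arg (χ : P5) : dt χ 0 = 0 := map_zero (dtHom χ)

/-- The kernel. -/
def kr (χ : P5) : Finset P5 := univ.filter fun a => dt χ a = 0

theorem mem_kr {χ a : P5} : a ∈ kr χ ↔ dt χ a = 0 := by simp [kr]

theorem kr_neg (χ : P5) : kr (-χ) = kr χ := by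
  ext a; rw [mem_kr, mem_kr, dt_neg, neg_eq_zero]

/-- The chosen representatives. -/
def isRep (χ : P5) : Bool :=
  (χ.2 == 1) || (χ.2 == 0 && ((χ.1 0 == 1) || (χ.1 0 == 0 && (χ.1 1 == 1 || (χ.1 1 == 0 &&
    (χ.1 2 == 1 || (χ.1 2 == 0 && χ.1 3 == 1)))))))

/-- All representatives. -/
def reps : Finset P5 := univ.filter fun χ => isRep χ = true

theorem mem_reps {χ : P5} : χ ∈ reps ↔ isRep χ = true := by simp [reps]

theorem rep_ne_zero {χ : P5} (h : χ ∈ reps) : χ ≠ 0 := by
  rintro rfl
  exact absurd (mem_reps.1 h) (by decide)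

theorem rep_neg : ∀ χ : P5, χ ≠ 0 → isRep χ = true ∨ isRep (-χ) = true := by decide +kernel

theorem rep_neg_not : ∀ χ : P5, isRep χ = true → isRep (-χ) = false := by decide +kernel

theorem card_reps : reps.card % 2 = 1 := by decide +kernel

theorem count_kr : ∀ a : P5, (reps.filter fun χ => dt χ a = 0).card % 2 = if a = 0 then 1 else 0 := by
  decide +kernel

/-- Two kernels generate when neither character is a multiple of the other. -/
theorem exists_move {χ χ' : P5} (h : χ ∈ reps) (h' : χ' ∈ reps) (hne : χ ≠ χ') :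
    ∃ b, dt χ' b = 0 ∧ dt χ b ≠ 0 := by
  by_contra hn
  push Not at hn
  obtain ⟨a0, ha0⟩ := dt_one (rep_ne_zero h')
  have key : ∀ a, dt χ a = dt χ' a * dt χ a0 := by
    intro a
    have e := hn (a + (2 * dt χ' a).val • a0) (by
      rw [dt_add, dt_nsmul, ha0, ZMod.natCast_zmod_val]
      generalize dt χ' a = x
      revert x; decide)
    rw [dt_add, dt_nsmul, ZMod.natCast_zmod_val] at e
    revert e
    generalize dt χ a = x
    generalize dt χ' a = y
    generalize dt χ a0 = l
    revert x y l
    decide
  have hl : dt χ a0 = 0 ∨ dt χ a0 = 1 ∨ dt χ a0 = -1 := by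
    generalize dt χ a0 = l; revert l; decide
  rcases hl with hl | hl | hl <;> simp only [hl, mul_zero, mul_one, mul_neg] at key
  · exact rep_ne_zero h (eq_zero_of_dt key)
  · refine hne (sub_eq_zero.1 (eq_zero_of_dt fun a => ?_))
    have : dt (χ - χ') a = dt χ a + dt (-χ') a := by
      simp only [dt, sub_eq_add_neg, Prod.fst_add, Prod.snd_add, dot_add_left]; ring
    rw [this, dt_neg, key, add_neg_cancel]
  · have e : χ = -χ' := sub_eq_zero.1 (eq_zero_of_dt fun a => by
      have : dt (χ - -χ') a = dt χ a + dt χ' a := by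
        simp only [dt, sub_neg_eq_add, Prod.fst_add, Prod.snd_add, dot_add_left]; ring
      rw [this, key, neg_add_cancel])
    rw [mem_reps] at h h'
    rw [e, rep_neg_not _ h'] at h
    exact Bool.noConfusion h

section

variable {V : Type u} [AddCommGroup V] {act : P5 → V →+ V}

/-- The conditions for an action. -/
structure IsAct (act : P5 → V →+ V) : Prop where
  two : ∀ v : V, v + v = 0
  add : ∀ a b v, act (a + b) v = act a (act b v)
  zero : ∀ v, act 0 v = v

variable (act) in
/-- The sum over a kernel. -/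
def pK (χ : P5) : V →+ V := ∑ a ∈ kr χ, act a

variable (act) in
/-- The sum over the group. -/
def pA : V →+ V := ∑ a : P5, act a

variable (act) in
/-- The projection belonging to a character. -/
def proj (χ : P5) : V →+ V := pK act χ + pA act

theorem proj_neg (χ : P5) : proj act (-χ) = proj act χ := by rw [proj, proj, pK, pK, kr_neg]

variable (H : IsAct act)
include H

theorem nsmul_eq_mod (v : V) (n : ℕ) : n • v = (n % 2) • v := by
  conv_lhs => rw [← Nat.mod_add_div n 2, add_nsmul, mul_nsmul]
  rw [two_nsmul, H.two, smul_zero, add_zero]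

theorem nsmul_odd (v : V) {n : ℕ} (hn : n % 2 = 1) : n • v = v := by
  rw [nsmul_eq_mod H, hn, one_nsmul]

theorem act_pA (b : P5) (v : V) : act b (pA act v) = pA act v := by
  simp only [pA, AddMonoidHom.finsetSum_apply, map_sum, ← H.add]
  exact Fintype.sum_equiv (Equiv.addLeft b) _ _ fun a => rfl

theorem pA_act (b : P5) (v : V) : pA act (act b v) = pA act v := by
  simp only [pA, AddMonoidHom.finsetSum_apply, ← H.add]
  exact Fintype.sum_equiv (Equiv.addRight b) _ _ fun a => rfl

theorem act_comm (a b : P5) (v : V) : act a (act b v) = act b (act a v) := by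
  rw [← H.add, ← H.add, add_comm]

theorem act_pK_comm (b χ : P5) (v : V) : act b (pK act χ v) = pK act χ (act b v) := by
  simp only [pK, AddMonoidHom.finsetSum_apply, map_sum]
  exact sum_congr rfl fun a _ => act_comm H b a v

theorem act_pK {b χ : P5} (hb : dt χ b = 0) (v : V) : act b (pK act χ v) = pK act χ v := by
  simp only [pK, AddMonoidHom.finsetSum_apply, map_sum, ← H.add]
  refine sum_equiv (Equiv.addLeft b) (fun a => ?_) fun a _ => rfl
  rw [mem_kr, mem_kr, Equiv.coe_addLeft, dt_add, hb, zero_add]

theorem odd_card_kr (χ : P5) : (kr χ).card % 2 = 1 := by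
  let S : AddSubgroup P5 := (dtHom χ).ker
  have hS : Nat.card S = (kr χ).card := Nat.subtype_card (kr χ) fun a => mem_kr
  have h : Nat.card S ∣ 243 := by
    have := AddSubgroup.card_addSubgroup_dvd_card S
    simpa [Nat.card_eq_fintype_card] using this
  rw [← hS]
  obtain ⟨m, hm⟩ := h
  rcases Nat.mod_two_eq_zero_or_one (Nat.card S) with h0 | h0
  · exfalso
    have : 243 % 2 = 0 := by rw [hm, Nat.mul_mod, h0]; simp
    omega
  · exact h0

theorem pK_fixed {χ : P5} {v : V} (h : ∀ a ∈ kr χ, act a v = v) : pK act χ v = v := by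
  rw [pK, AddMonoidHom.finsetSum_apply, sum_congr rfl h, sum_const, nsmul_odd H _ (odd_card_kr H χ)]

theorem pA_fixed {v : V} (h : ∀ a, act a v = v) : pA act v = v := by
  rw [pA, AddMonoidHom.finsetSum_apply, sum_congr rfl fun a _ => h a, sum_const,
    nsmul_odd H _ (by decide +kernel)]

theorem pA_pK (χ : P5) (v : V) : pA act (pK act χ v) = pA act v := by
  rw [pK, AddMonoidHom.finsetSum_apply, map_sum, sum_congr rfl fun a _ => pA_act H a v, sum_const,
    nsmul_odd H _ (odd_card_kr H χ)]

theorem pA_pA (v : V) : pA act (pA act v) = pA act v := pA_fixed H fun a => act_pA H a v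

theorem pK_pA (χ : P5) (v : V) : pK act χ (pA act v) = pA act v :=
  pK_fixed H fun a _ => act_pA H a v

theorem pK_pK (χ : P5) (v : V) : pK act χ (pK act χ v) = pK act χ v :=
  pK_fixed H fun _ ha => act_pK H (mem_kr.1 ha) v

theorem act_proj {b χ : P5} (hb : dt χ b = 0) (v : V) : act b (proj act χ v) = proj act χ v := by
  simp only [proj, AddMonoidHom.add_apply, map_add, act_pK H hb, act_pA H]

theorem act_proj_comm (b χ : P5) (v : V) : act b (proj act χ v) = proj act χ (act b v) := by
  simp only [proj, AddMonoidHom.add_apply, map_add, act_pK_comm H, act_pA H, pA_act H]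

theorem pA_proj (χ : P5) (v : V) : pA act (proj act χ v) = 0 := by
  simp only [proj, AddMonoidHom.add_apply, map_add, pA_pK H, pA_pA H, H.two]

theorem proj_pA (χ : P5) (v : V) : proj act χ (pA act v) = 0 := by
  simp only [proj, AddMonoidHom.add_apply, pK_pA H, pA_pA H, H.two]

theorem proj_proj (χ : P5) (v : V) : proj act χ (proj act χ v) = proj act χ v := by
  conv_lhs => rw [proj, AddMonoidHom.add_apply, ← proj, pA_proj H, add_zero]
  simp only [proj, AddMonoidHom.add_apply, map_add, pK_pK H, pK_pA H]

theorem proj_other {χ χ' : P5} (h : χ ∈ reps) (h' : χ' ∈ reps) (hne : χ ≠ χ') (v : V) :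
    proj act χ (proj act χ' v) = 0 := by
  obtain ⟨b, hb', hb⟩ := exists_move h h' hne
  have fixK : ∀ a, dt χ a = 0 → ∀ w, act a (pK act χ w) = pK act χ w := fun a ha => act_pK H ha
  set y := pK act χ (proj act χ' v) with hy
  have hyb : act b y = y := by rw [hy, act_pK_comm H, act_proj H hb']
  have hall : ∀ a, act a y = y := by
    intro a
    have hn : ∀ n : ℕ, act (n • b) y = y := by
      intro n
      induction n with
      | zero => rw [zero_nsmul, H.zero]
      | succ n ih => rw [succ_nsmul, H.add, hyb, ih]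
    obtain ⟨k, n, hk, rfl⟩ : ∃ k, ∃ n : ℕ, dt χ k = 0 ∧ a = k + n • b := by
      refine ⟨a - (dt χ a * dt χ b).val • b, _, ?_, (sub_add_cancel a _).symm⟩
      have e := dt_add χ (a - (dt χ a * dt χ b).val • b) ((dt χ a * dt χ b).val • b)
      rw [sub_add_cancel, dt_nsmul, ZMod.natCast_zmod_val] at e
      revert e hb
      generalize dt χ (a - (dt χ a * dt χ b).val • b) = x
      generalize dt χ a = t
      generalize dt χ b = z
      revert x t z
      decide
    rw [H.add, hn, fixK k hk]
  have e : y = 0 := by rw [← pA_fixed H hall, hy, pA_pK H, pA_proj H]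
  show pK act χ (proj act χ' v) + pA act (proj act χ' v) = 0
  rw [← hy, e, pA_proj H, add_zero]

theorem sum_proj (v : V) : v = pA act v + ∑ χ ∈ reps, proj act χ v := by
  have h1 : ∑ χ ∈ reps, pK act χ v = v := by
    simp only [pK, AddMonoidHom.finsetSum_apply, kr]
    simp only [sum_filter]
    rw [sum_comm]
    have : ∀ a : P5, (∑ χ ∈ reps, if dt χ a = 0 then act a v else 0) = if a = 0 then v else 0 := by
      intro a
      rw [← sum_filter, sum_const, nsmul_eq_mod H, count_kr]
      split
      · next h => rw [one_nsmul, h, H.zero]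
      · rw [zero_nsmul]
    rw [sum_congr rfl fun a _ => this a, sum_ite_eq', if_pos (mem_univ _)]
  simp only [proj, AddMonoidHom.add_apply, sum_add_distrib, h1, sum_const, nsmul_odd H _ card_reps]
  rw [add_left_comm, H.two, add_zero]

omit H in
theorem proj_transport {g : V →+ V} {α : P5 → P5} (hα : Function.Bijective α) {χ χ' : P5}
    (hχ : ∀ a, dt χ' a = dt χ (α a)) (hg : ∀ a v, g (act a v) = act (α a) (g v)) (v : V) :
    g (proj act χ' v) = proj act χ (g v) := by
  simp only [proj, pK, pA, AddMonoidHom.add_apply, AddMonoidHom.finsetSum_apply, map_add, map_sum, hg]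
  congr 1
  · refine sum_equiv (Equiv.ofBijective α hα) (fun a => ?_) fun a _ => rfl
    rw [mem_kr, mem_kr, Equiv.ofBijective_apply, hχ]
  · exact Fintype.sum_equiv (Equiv.ofBijective α hα) _ _ fun a => rfl

end

end H16.Fi24
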