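import Cfsg.Agent.H16.Fi24.Frame

/-!
The preimage of the elementary abelian subgroup in a central extension by a group of order three.
-/

set_option autoImplicit false
set_option maxRecDepth 100000

namespace H16.Fi24

open Finset

universe u v

theorem pv_sum : ∀ p : Pv, p = (p 0).val • (Pi.single 0 1 : Pv) + (p 1).val • Pi.single 1 1 +
    (p 2).val • Pi.single 2 1 + (p 3).val • Pi.single 3 1 := by decide +kernel

theorem exists_dot (f : Pv → ZMod 3) (hf : ∀ p q, f (p + q) = f p + f q) :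
    ∃ c, ∀ p, dot c p = f p := by
  refine ⟨fun i => f (Pi.single i 1), fun p => ?_⟩
  let f' : Pv →+ ZMod 3 := AddMonoidHom.mk' f hf
  show _ = f' p
  conv_rhs => rw [pv_sum p]
  simp only [map_add, map_nsmul]
  simp only [nsmul_eq_mul, ZMod.natCast_zmod_val, dot]
  show _ = p 0 * f (Pi.single 0 1) + p 1 * f (Pi.single 1 1) + p 2 * f (Pi.single 2 1) +
    p 3 * f (Pi.single 3 1)
  ring

variable {Γ : Type u} [Group Γ] [Finite Γ] {P : Type v} [Group P]

/-- A central extension with kernel of order three. -/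
structure Ext3 (π : Γ →* P) (ω : Γ) : Prop where
  surj : Function.Surjective π
  order : orderOf ω = 3
  ker : π.ker = Subgroup.zpowers ω
  cent : ∀ g, g * ω = ω * g

/-- Powers. -/
def wp (ω : Γ) (k : ZMod 3) : Γ := ω ^ k.val

namespace Ext3

variable {π : Γ →* P} {ω : Γ} (X : Ext3 π ω)
include X

omit [Finite Γ] in
theorem pow_three : ω ^ 3 = 1 := X.order ▸ pow_orderOf_eq_one ω

omit [Finite Γ] in
theorem wp_add (a b : ZMod 3) : wp ω (a + b) = wp ω a * wp ω b := by
  rw [wp, wp, wp, ← pow_add, ZMod.val_add]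
  exact (pow_eq_pow_mod _ X.pow_three).symm

omit [Finite Γ] in
theorem wp_inj {a b : ZMod 3} (h : wp ω a = wp ω b) : a = b := by
  refine ZMod.val_injective 3 (pow_injOn_Iio_orderOf ?_ ?_ h) <;>
    · rw [Set.mem_Iio, X.order]; exact ZMod.val_lt _

omit [Finite Γ] in
theorem pi_wp (a : ZMod 3) : π (wp ω a) = 1 := by
  rw [← MonoidHom.mem_ker, X.ker]
  exact pow_mem (Subgroup.mem_zpowers ω) _

omit [Finite Γ] in
theorem wp_comm (a : ZMod 3) (g : Γ) : g * wp ω a = wp ω a * g :=
  (show Commute g ω from X.cent g).pow_right _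

theorem exists_wp {g h : Γ} (e : π g = π h) : ∃ k, g = h * wp ω k := by
  classical
  have : h⁻¹ * g ∈ π.ker := by rw [MonoidHom.mem_ker, map_mul, map_inv, e, inv_mul_cancel]
  rw [X.ker, mem_zpowers_iff_mem_range_orderOf, X.order] at this
  obtain ⟨n, hn, e'⟩ := mem_image.1 this
  refine ⟨(n : ZMod 3), ?_⟩
  rw [wp, ZMod.val_natCast, Nat.mod_eq_of_lt (mem_range.1 hn), e', mul_inv_cancel_left]

variable (C : Cert P)

theorem beta_exists : ∃ β : Pv → Pv → ZMod 3, ∀ g h p q, π g = C.r p → π h = C.r q →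
    g * h = wp ω (β p q) * (h * g) := by
  have key : ∀ p q, ∃ k, ∀ g h, π g = C.r p → π h = C.r q → g * h = wp ω k * (h * g) := by
    intro p q
    obtain ⟨g0, hg0⟩ := X.surj (C.r p)
    obtain ⟨h0, hh0⟩ := X.surj (C.r q)
    obtain ⟨k, hk⟩ := X.exists_wp (show π (g0 * h0) = π (h0 * g0) by
      rw [map_mul, map_mul, hg0, hh0, ← C.add, ← C.add, add_comm])
    refine ⟨k, fun g h hg hh => ?_⟩
    obtain ⟨i, rfl⟩ := X.exists_wp (hg.trans hg0.symm)
    obtain ⟨j, rfl⟩ := X.exists_wp (hh.trans hh0.symm)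
    calc g0 * wp ω i * (h0 * wp ω j) = g0 * h0 * (wp ω i * wp ω j) := by
          rw [mul_assoc, ← mul_assoc (wp ω i), ← X.wp_comm i h0]; group
      _ = h0 * g0 * (wp ω i * wp ω j) * wp ω k := by
          rw [hk, mul_assoc _ (wp ω k), ← X.wp_comm k (wp ω i * wp ω j), ← mul_assoc]
      _ = h0 * wp ω j * (g0 * wp ω i) * wp ω k := by
          rw [← X.wp_add, add_comm, X.wp_add, mul_assoc h0 (wp ω j), ← mul_assoc (wp ω j),
            ← X.wp_comm j g0]
          group
      _ = wp ω k * (h0 * wp ω j * (g0 * wp ω i)) := X.wp_comm k _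
  choose β hβ using key
  exact ⟨β, fun g h p q => hβ p q g h⟩

omit [Finite Γ] in
theorem conj_r {g x : Γ} {A : Pv → Pv} {p : Pv}
    (hA : ∀ p, π x * C.r p * (π x)⁻¹ = C.r (A p)) (hg : π g = C.r p) :
    π (x * g * x⁻¹) = C.r (A p) := by
  rw [map_mul, map_mul, map_inv, hg, hA]

omit [Finite Γ] in
theorem pi_one {g : Γ} (h : π g = 1) : π g = C.r 0 := by
  rw [h]
  have e := C.add 0 0
  rw [add_zero] at e
  exact (left_eq_mul.mp e).symm

/-- Elements over the abelian subgroup commute and have order dividing three. -/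
theorem elementary (hR : Reach Ax Ay) : (∀ g h p q, π g = C.r p → π h = C.r q → g * h = h * g) ∧
    ∀ g p, π g = C.r p → g ^ 3 = 1 := by
  obtain ⟨β, hβ⟩ := X.beta_exists C
  choose L hL using fun p => X.surj (C.r p)
  obtain ⟨x, hx⟩ := X.surj C.x
  obtain ⟨y, hy⟩ := X.surj C.y
  have hAx : ∀ p, π x * C.r p * (π x)⁻¹ = C.r (Ax p) := fun p => hx ▸ C.ax p
  have hAy : ∀ p, π y * C.r p * (π y)⁻¹ = C.r (Ay p) := fun p => hy ▸ C.ay p
  have uniq : ∀ {g : Γ} {a b : ZMod 3}, wp ω a * g = wp ω b * g → a = b := fun h =>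
    X.wp_inj (mul_right_cancel h)
  have add_left : ∀ p p' q, β (p + p') q = β p q + β p' q := by
    intro p p' q
    refine uniq (g := L q * (L p * L p')) ?_
    rw [← hβ (L p * L p') (L q) (p + p') q (by rw [map_mul, hL, hL, C.add]) (hL q), X.wp_add,
      mul_assoc (L p), hβ (L p') (L q) p' q (hL p') (hL q), ← mul_assoc (L p), X.wp_comm,
      mul_assoc (wp ω (β p' q)), ← mul_assoc (L p), hβ (L p) (L q) p q (hL p) (hL q),
      ← X.wp_add, add_comm (β p q), X.wp_add]
    simp only [mul_assoc]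
  have anti : ∀ p q, β p q + β q p = 0 := by
    intro p q
    have h1 := hβ (L p) (L q) p q (hL p) (hL q)
    have h2 := hβ (L q) (L p) q p (hL q) (hL p)
    rw [h2, ← mul_assoc, ← X.wp_add] at h1
    refine uniq (g := L p * L q) ?_
    rw [← h1, show wp ω 0 = 1 from pow_zero ω, one_mul]
  have alt : ∀ p, β p p = 0 := fun p => by
    have := anti p p
    revert this
    generalize β p p = t
    revert t; decide
  have inv : ∀ {x : Γ} {A : Pv → Pv}, (∀ p, π x * C.r p * (π x)⁻¹ = C.r (A p)) →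
      ∀ p q, β (A p) (A q) = β p q := by
    intro x A hA p q
    refine uniq (g := x * L q * x⁻¹ * (x * L p * x⁻¹)) ?_
    rw [← hβ _ _ (A p) (A q) (X.conj_r C hA (hL p)) (X.conj_r C hA (hL q))]
    calc x * L p * x⁻¹ * (x * L q * x⁻¹) = x * (L p * L q) * x⁻¹ := by group
      _ = x * wp ω (β p q) * (L q * L p) * x⁻¹ := by
          rw [hβ (L p) (L q) p q (hL p) (hL q)]; group
      _ = _ := by rw [X.wp_comm]; group
  have add_right : ∀ p q q', β p (q + q') = β p q + β p q' := fun p q q' => by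
    have e : ∀ a b, β a b = -β b a := fun a b => eq_neg_of_add_eq_zero_left (anti a b)
    rw [e, add_left, e q, e q']; ring
  let f : Fin 6 → ZMod 3 := ![β (Pi.single 0 1) (Pi.single 1 1), β (Pi.single 0 1) (Pi.single 2 1),
    β (Pi.single 0 1) (Pi.single 3 1), β (Pi.single 1 1) (Pi.single 2 1),
    β (Pi.single 1 1) (Pi.single 3 1), β (Pi.single 2 1) (Pi.single 3 1)]
  have form : ∀ p q, β p q = f 0 * (p 0 * q 1 - p 1 * q 0) + f 1 * (p 0 * q 2 - p 2 * q 0) +
      f 2 * (p 0 * q 3 - p 3 * q 0) + f 3 * (p 1 * q 2 - p 2 * q 1) +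
      f 4 * (p 1 * q 3 - p 3 * q 1) + f 5 * (p 2 * q 3 - p 3 * q 2) := by
    intro p q
    let l : Pv → Pv →+ ZMod 3 := fun q => AddMonoidHom.mk' (fun p => β p q) fun a b => add_left a b q
    let r : Pv → Pv →+ ZMod 3 := fun p => AddMonoidHom.mk' (fun q => β p q) (add_right p)
    have er : ∀ i : Fin 4, β (Pi.single i 1) q = q 0 * β (Pi.single i 1) (Pi.single 0 1) +
        q 1 * β (Pi.single i 1) (Pi.single 1 1) + q 2 * β (Pi.single i 1) (Pi.single 2 1) +
        q 3 * β (Pi.single i 1) (Pi.single 3 1) := by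
      intro i
      show r (Pi.single i 1) q = _
      conv_lhs => rw [pv_sum q]
      simp only [map_add, map_nsmul]
      simp only [nsmul_eq_mul, ZMod.natCast_zmod_val]
      rfl
    show l q p = _
    conv_lhs => rw [pv_sum p]
    simp only [map_add, map_nsmul]
    simp only [nsmul_eq_mul, ZMod.natCast_zmod_val]
    show p 0 * β (Pi.single 0 1) q + p 1 * β (Pi.single 1 1) q + p 2 * β (Pi.single 2 1) q +
      p 3 * β (Pi.single 3 1) q = _
    have a10 := eq_neg_of_add_eq_zero_left (anti (Pi.single 1 1) (Pi.single 0 1))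
    have a20 := eq_neg_of_add_eq_zero_left (anti (Pi.single 2 1) (Pi.single 0 1))
    have a30 := eq_neg_of_add_eq_zero_left (anti (Pi.single 3 1) (Pi.single 0 1))
    have a21 := eq_neg_of_add_eq_zero_left (anti (Pi.single 2 1) (Pi.single 1 1))
    have a31 := eq_neg_of_add_eq_zero_left (anti (Pi.single 3 1) (Pi.single 1 1))
    have a32 := eq_neg_of_add_eq_zero_left (anti (Pi.single 3 1) (Pi.single 2 1))
    simp only [er, alt, a10, a20, a30, a21, a31, a32, f, Matrix.cons_val_zero, Matrix.cons_val_one,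
      Matrix.cons_val, Fin.isValue]
    ring
  have hf0 : f = 0 := by
    refine forms_zero f ?_
    intro b i j
    show b _ _ = b _ _ ∧ b _ _ = b _ _
    simp only [b, ← form]
    exact ⟨inv hAx _ _, inv hAy _ _⟩
  have comm : ∀ g h p q, π g = C.r p → π h = C.r q → g * h = h * g := by
    intro g h p q hg hh
    rw [hβ g h p q hg hh, show β p q = 0 by rw [form, hf0]; simp,
      show wp ω 0 = 1 from pow_zero ω, one_mul]
  refine ⟨comm, ?_⟩
  have cube : ∀ p, ∃ k, L p ^ 3 = wp ω k := fun p => by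
    obtain ⟨k, hk⟩ := X.exists_wp (g := L p ^ 3) (h := 1) (by
      rw [map_pow, hL, map_one, pow_succ, pow_two, ← C.add, ← C.add,
        show p + p + p = 0 by
          funext i; simp only [Pi.add_apply, Pi.zero_apply]
          generalize p i = t; revert t; decide,
        ← X.pi_one C (map_one π), map_one])
    exact ⟨k, by rw [hk, one_mul]⟩
  choose μ hμ using cube
  have cubeAll : ∀ g p, π g = C.r p → g ^ 3 = wp ω (μ p) := by
    intro g p hg
    obtain ⟨k, rfl⟩ := X.exists_wp (hg.trans (hL p).symm)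
    rw [(show Commute (L p) (wp ω k) from X.wp_comm k _).mul_pow, hμ, wp, wp, ← pow_mul,
      mul_comm k.val 3, pow_mul, X.pow_three, one_pow, mul_one]
  have μ_add : ∀ p q, μ (p + q) = μ p + μ q := fun p q => X.wp_inj (by
    rw [← cubeAll (L p * L q) (p + q) (by rw [map_mul, hL, hL, C.add]),
      (show Commute (L p) (L q) from comm _ _ p q (hL p) (hL q)).mul_pow, hμ, hμ, X.wp_add])
  obtain ⟨c, hc⟩ := exists_dot μ μ_add
  have fixed : ∀ {x : Γ} {A : Pv → Pv}, (∀ p, π x * C.r p * (π x)⁻¹ = C.r (A p)) →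
      (∀ p q, A (p + q) = A p + A q) → pull A c = c := by
    intro x A hA hadd
    funext i
    rw [← dot_single (pull A c) i, ← dot_single c i, dot_pull hadd, hc, hc]
    refine X.wp_inj ?_
    rw [← cubeAll _ _ (X.conj_r C hA (hL _)), conj_pow, hμ, X.wp_comm, mul_inv_cancel_right]
  have hadd : ∀ {x : P} {A : Pv → Pv}, (∀ p, x * C.r p * x⁻¹ = C.r (A p)) →
      ∀ p q, A (p + q) = A p + A q := fun {x A} hA p q => C.inj (by
    rw [← hA, C.add, C.add, ← hA, ← hA]; group)
  have hA := fixed hAx (hadd C.ax)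
  have hB := fixed hAy (hadd C.ay)
  have c0 : c = 0 := by
    by_contra hne
    have h := reach_mem (P := fun d => d = lineOf c) (Q := fun d => d = c)
      (A := Ax) (B := Ay) rfl (fun d h => by subst h; exact hA) (fun d h => by subst h; exact hB)
      (fun d h => by rw [h])
    have hsub : (reach Ax Ay c).toFinset ⊆ {lineOf c} := fun d hd => by
      rw [mem_singleton]; exact h d (List.mem_toFinset.1 hd)
    have h1 := card_le_card hsub
    rw [List.toFinset_card_of_nodup (show (reach Ax Ay c).Nodup from List.nodup_dedup _),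
      card_singleton] at h1
    have := hR _ hne
    omega
  intro g p hg
  rw [cubeAll g p hg, ← hc, c0, show dot 0 p = 0 by simp [dot]]
  exact pow_zero ω

/-- A parametrisation of the preimage. -/
theorem exists_param (hR : Reach Ax Ay) : ∃ ι : P5 → Γ, (∀ a b, ι (a + b) = ι a * ι b) ∧
    (∀ p s, π (ι (p, s)) = C.r p) ∧ Function.Injective ι ∧ ι (0, 1) = ω ∧
    ∀ g p, π g = C.r p → ∃ s, g = ι (p, s) := by
  obtain ⟨comm, cube⟩ := X.elementary C hR
  choose a ha using fun i : Fin 4 => X.surj (C.r (Pi.single i 1))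
  have a3 : ∀ i, a i ^ 3 = 1 := fun i => cube _ _ (ha i)
  have hpow : ∀ i (k l : ZMod 3), a i ^ (k + l).val = a i ^ k.val * a i ^ l.val := fun i k l => by
    rw [← pow_add, ZMod.val_add, ← pow_eq_pow_mod _ (a3 i)]
  let pr : Pv → Γ := fun p => a 0 ^ (p 0).val * a 1 ^ (p 1).val * a 2 ^ (p 2).val * a 3 ^ (p 3).val
  have rpow : ∀ (n : ℕ) p, C.r p ^ n = C.r (n • p) := by
    intro n p
    induction n with
    | zero => rw [pow_zero, zero_nsmul, ← X.pi_one C (map_one π), map_one]
    | succ n ih => rw [pow_succ, ih, succ_nsmul, C.add]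
  have hpr : ∀ p, π (pr p) = C.r p := fun p => by
    simp only [pr, map_mul, map_pow, ha, rpow, ← C.add, ← pv_sum]
  have inR : ∀ i (n : ℕ), π (a i ^ n) = C.r (n • Pi.single i 1) := fun i n => by
    rw [map_pow, ha, rpow]
  have cm : ∀ g h p q, π g = C.r p → π h = C.r q → Commute g h := comm
  have pr_add : ∀ p q, pr (p + q) = pr p * pr q := by
    intro p q
    have e : ∀ {x y : Γ} {p q : Pv}, π x = C.r p → π y = C.r q → π (x * y) = C.r (p + q) :=
      fun hx hy => by rw [map_mul, hx, hy, C.add]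
    simp only [pr, Pi.add_apply, hpow]
    have h1 : Commute (a 1 ^ (p 1).val) (a 0 ^ (q 0).val) := cm _ _ _ _ (inR 1 _) (inR 0 _)
    have h2 : Commute (a 2 ^ (p 2).val) (a 0 ^ (q 0).val * a 1 ^ (q 1).val) :=
      cm _ _ _ _ (inR 2 _) (e (inR 0 _) (inR 1 _))
    have h3 : Commute (a 3 ^ (p 3).val) (a 0 ^ (q 0).val * a 1 ^ (q 1).val * a 2 ^ (q 2).val) :=
      cm _ _ _ _ (inR 3 _) (e (e (inR 0 _) (inR 1 _)) (inR 2 _))
    rw [h3.mul_mul_mul_comm, h2.mul_mul_mul_comm, h1.mul_mul_mul_comm]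
  refine ⟨fun x => pr x.1 * wp ω x.2, fun x y => ?_, fun p s => ?_, fun x y h => ?_, ?_, fun g p hg => ?_⟩
  · show pr (x.1 + y.1) * wp ω (x.2 + y.2) = _
    rw [pr_add, X.wp_add]
    exact (show Commute (wp ω x.2) (pr y.1) from (X.wp_comm _ _).symm).mul_mul_mul_comm _ _ |>.symm
  · rw [map_mul, hpr, X.pi_wp, mul_one]
  · have h1 : x.1 = y.1 := by
      have := congrArg π h
      simp only [map_mul, hpr, X.pi_wp, mul_one] at this
      exact C.inj this
    refine Prod.ext h1 (X.wp_inj ?_)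
    simp only [h1] at h
    exact mul_left_cancel h
  · simp [pr, wp, ZMod.val_one]
  · obtain ⟨k, hk⟩ := X.exists_wp (hg.trans (hpr p).symm)
    exact ⟨k, hk⟩

/-- An element of order five over a given one. -/
theorem exists_five {x : P} (hx : x ^ 5 = 1) : ∃ g, π g = x ∧ g ^ 5 = 1 := by
  obtain ⟨a, ha⟩ := X.surj x
  obtain ⟨k, hk⟩ := X.exists_wp (g := a ^ 5) (h := 1) (by rw [map_pow, ha, hx, map_one])
  refine ⟨a ^ 6, by rw [map_pow, ha, pow_succ, hx, one_mul], ?_⟩
  rw [← pow_mul, show 6 * 5 = 5 * 6 from rfl, pow_mul, hk, one_mul, wp, ← pow_mul,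
    show k.val * 6 = 3 * (2 * k.val) by omega, pow_mul, X.pow_three, one_pow]

end Ext3

end H16.Fi24
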