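import Cfsg.Agent.H16.Fi24.Base

/-!
Two frames permuted by the same pair of monomial maps, one of order five: in suitable coordinates the
second frame consists of the vectors with one zero entry and all others equal.
-/

set_option autoImplicit false
set_option maxRecDepth 100000
set_option synthInstance.maxSize 2000

namespace H16.Fi24

open Finset

/-- A basis vector. -/
def bv (j : Fin 6) : W := Pi.single j (1, 0)

/-- The standard five-cycle. -/
def cyc : Equiv.Perm (Fin 6) where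
  toFun := ![1, 2, 3, 4, 0, 5]
  invFun := ![4, 0, 1, 2, 3, 5]
  left_inv := by decide
  right_inv := by decide

theorem mu_zero_left : ∀ a : F4, mu 0 a = 0 := by decide

theorem sm_zero (v : W) : sm 0 v = 0 := funext fun i => mu_zero_left _

theorem sm_sm (a b : F4) (v : W) : sm a (sm b v) = sm (mu a b) v :=
  funext fun i => (mu_assoc _ _ _).symm

theorem sm_one (v : W) : sm (1, 0) v = v := funext fun i => mu_one _

theorem sm_single (a : F4) (j : Fin 6) : sm a (bv j) = Pi.single j a := by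
  funext i
  rcases eq_or_ne i j with rfl | h
  · simp only [sm, bv, Pi.single_eq_same]; rw [mu_comm, mu_one]
  · simp [sm, bv, h, mu_zero]

theorem cnt_eq_sum (v : W) : cnt v = ∑ i, nz (v i) := by simp only [cnt, Fin.sum_univ_six]

theorem cnt_mono (σ : Equiv.Perm (Fin 6)) (d : Fin 6 → ZMod 3) (v : W) : cnt (mono σ d v) = cnt v := by
  have hnz : ∀ (k : ZMod 3) (a : F4), nz (mu (pw k) a) = nz a := by decide
  rw [cnt_eq_sum, cnt_eq_sum]
  simp only [mono_apply, hnz]
  exact Equiv.sum_comp σ.symm fun i => nz (v i)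

theorem cnt_sm (k : ZMod 3) (v : W) : cnt (sm (pw k) v) = cnt v := cnt_mono 1 (fun _ => k) v

namespace IsUni

variable {g : W → W} (hg : IsUni g)
include hg

theorem map_zero' : g 0 = 0 := by
  have := hg.add 0 0
  rw [add_zero] at this
  exact left_eq_add.mp this

theorem sm_comm (a : F4) (v : W) : g (sm a v) = sm a (g v) := by
  have h1 : ∀ v, g (sm (0, 1) v) = sm (0, 1) (g v) := hg.wcomm
  rcases eq_or_ne a 0 with rfl | ha
  · rw [sm_zero, sm_zero, hg.map_zero']
  · obtain ⟨k, rfl⟩ := exists_pw a ha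
    rcases (show k = 0 ∨ k = 1 ∨ k = 2 by revert k; decide) with rfl | rfl | rfl
    · rw [pw_zero, sm_one, sm_one]
    · exact h1 v
    · rw [show pw 2 = mu (0, 1) (0, 1) by decide, ← sm_sm, ← sm_sm, h1, h1]

theorem Bf_eq (u v : W) : Bf (g u) (g v) = Bf u v := by simp only [Bf, ← hg.add, hg.q]

theorem ext_basis {h : W → W} (hh : IsUni h) (e : ∀ j, g (bv j) = h (bv j)) : g = h := by
  let g' : W →+ W := AddMonoidHom.mk' g hg.add
  let h' : W →+ W := AddMonoidHom.mk' h hh.add
  have : g' = h' := AddMonoidHom.functions_ext W g' h' fun i a => by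
    show g (Pi.single i a) = h (Pi.single i a)
    rw [← sm_single, hg.sm_comm, hh.sm_comm, e]
  exact congrArg (fun f : W →+ W => (f : W → W)) this

end IsUni

theorem IsUni.inv {g : Equiv.Perm W} (hg : IsUni g) : IsUni ⇑g⁻¹ where
  add u v := g.injective (by rw [hg.add]; simp)
  wcomm v := g.injective (by rw [hg.wcomm]; simp)
  q v := by
    show qf (g.symm v) = qf v
    conv_rhs => rw [← g.apply_symm_apply v, hg.q]

theorem mono_bv (σ : Equiv.Perm (Fin 6)) (d : Fin 6 → ZMod 3) (j : Fin 6) :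
    mono σ d (bv j) = sm (pw (d (σ j))) (bv (σ j)) := by
  funext i
  rw [mono_apply]
  rcases eq_or_ne i (σ j) with rfl | h
  · simp [bv, sm, σ.symm_apply_apply]
  · have h' : σ.symm i ≠ j := fun e => h (by rw [← e, σ.apply_symm_apply])
    simp [bv, sm, h, h', mu_zero]

theorem mono_eq_one {σ : Equiv.Perm (Fin 6)} {d : Fin 6 → ZMod 3} (h : mono σ d = 1) :
    σ = 1 ∧ d = 0 := by
  have e : ∀ j i, mu (pw (d i)) (bv j (σ.symm i)) = bv j i := fun j i => by
    conv_rhs => rw [show bv j = (mono σ d) (bv j) by rw [h]; rfl]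
    rfl
  have hs : ∀ i, σ.symm i = i := fun i => by
    by_contra hne
    have := e i i
    simp [bv, hne, mu_zero] at this
    exact absurd this (by decide)
  refine ⟨Equiv.ext fun j => ?_, funext fun i => pw_inj _ _ ?_⟩
  · conv_lhs => rw [← hs j]
    exact σ.apply_symm_apply j
  · have := e i i
    rw [hs, bv, Pi.single_eq_same, mu_comm, mu_one] at this
    rw [this, Pi.zero_apply, pw_zero]

theorem mono_pow_five (σ : Equiv.Perm (Fin 6)) (d : Fin 6 → ZMod 3) :
    mono σ d ^ 5 = mono (σ ^ 5) (fun i => d i + d (σ.symm i) + d (σ.symm (σ.symm i)) +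
      d (σ.symm (σ.symm (σ.symm i))) + d (σ.symm (σ.symm (σ.symm (σ.symm i))))) := by
  simp only [pow_succ, pow_zero, one_mul, mono_mul]
  congr 1

theorem mono_inv (σ : Equiv.Perm (Fin 6)) (d : Fin 6 → ZMod 3) :
    (mono σ d)⁻¹ = mono σ⁻¹ (fun i => -d (σ i)) := Equiv.ext fun _ => rfl

theorem five_shape : ∀ π : Equiv.Perm (Fin 6), π ^ 5 = 1 → π ≠ 1 → ∀ i, π i ≠ i →
    ∃ j, π j = j ∧ Function.Injective ![i, π i, π (π i), π (π (π i)), π (π (π (π i))), j] := by
  decide +kernel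

theorem five_fix : ∀ π : Equiv.Perm (Fin 6), π ^ 5 = 1 → ∃ j, π j = j := by decide +kernel

/-- A monomial map of order five is conjugate to the five-cycle by a monomial map. -/
theorem exists_standard {σ : Equiv.Perm (Fin 6)} {d : Fin 6 → ZMod 3} (h5 : mono σ d ^ 5 = 1)
    (h1 : mono σ d ≠ 1) : ∃ τ δ, mono σ d * mono τ δ = mono τ δ * mono cyc 0 := by
  rw [mono_pow_five] at h5
  obtain ⟨hσ, hd⟩ := mono_eq_one h5
  have hd' := congrFun hd
  have hσ1 : σ ≠ 1 := by
    rintro rfl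
    refine h1 ?_
    have : d = 0 := funext fun i => by
      show d i = 0
      have := hd' i
      simp only [Equiv.Perm.one_symm, Equiv.Perm.one_apply, Pi.zero_apply] at this
      revert this
      generalize d i = x
      revert x; decide
    rw [this, mono_one]
  obtain ⟨i, hi⟩ : ∃ i, σ i ≠ i := by
    by_contra hn
    push Not at hn
    exact hσ1 (Equiv.ext hn)
  obtain ⟨j, hj, hinj⟩ := five_shape σ hσ hσ1 i hi
  set t := ![i, σ i, σ (σ i), σ (σ (σ i)), σ (σ (σ (σ i))), j] with ht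
  let τ : Equiv.Perm (Fin 6) := Equiv.ofBijective t (Finite.injective_iff_bijective.1 hinj)
  have hτ : ∀ k, τ k = t k := fun k => rfl
  have h5i : σ (σ (σ (σ (σ i)))) = i := by
    have := congrArg (fun π : Equiv.Perm (Fin 6) => π i) hσ
    simpa [pow_succ] using this
  have hsc : ∀ k, σ (τ k) = τ (cyc k) := by
    intro k
    rw [hτ, hτ]
    fin_cases k <;> first | rfl | exact h5i | exact hj
  have htot : d (t 0) + d (t 4) + d (t 3) + d (t 2) + d (t 1) = 0 := by
    have e := hd' (t 0)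
    have s4 : σ.symm (t 0) = t 4 := σ.symm_apply_eq.2 h5i.symm
    have s3 : σ.symm (t 4) = t 3 := σ.symm_apply_eq.2 rfl
    have s2 : σ.symm (t 3) = t 2 := σ.symm_apply_eq.2 rfl
    have s1 : σ.symm (t 2) = t 1 := σ.symm_apply_eq.2 rfl
    simp only [s4, s3, s2, s1, Pi.zero_apply] at e
    exact e
  have hdj : d j = 0 := by
    have e := hd' j
    have sj : σ.symm j = j := σ.symm_apply_eq.2 hj.symm
    simp only [sj, Pi.zero_apply] at e
    revert e
    generalize d j = x
    revert x; decide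
  let S : Fin 6 → ZMod 3 := ![0, d (t 1), d (t 1) + d (t 2), d (t 1) + d (t 2) + d (t 3),
    d (t 1) + d (t 2) + d (t 3) + d (t 4), 0]
  refine ⟨τ, fun l => S (τ.symm l), ?_⟩
  rw [mono_mul, mono_mul]
  have hperm : σ * τ = τ * cyc := Equiv.ext hsc
  rw [hperm]
  congr 1
  funext l
  obtain ⟨k, rfl⟩ := τ.surjective l
  simp only [Pi.add_apply, Function.comp_apply, Pi.zero_apply, add_zero, τ.symm_apply_apply]
  have hk : τ.symm (σ.symm (τ k)) = cyc.symm k := by
    rw [τ.symm_apply_eq, σ.symm_apply_eq, hsc, cyc.apply_symm_apply]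
  rw [hk, hτ]
  fin_cases k
  · show d (t 0) + (d (t 1) + d (t 2) + d (t 3) + d (t 4)) = 0
    rw [← htot]; ring
  · show d (t 1) + 0 = d (t 1)
    ring
  · show d (t 2) + d (t 1) = d (t 1) + d (t 2)
    ring
  · show d (t 3) + (d (t 1) + d (t 2)) = _
    exact add_comm _ _
  · show d (t 4) + (d (t 1) + d (t 2) + d (t 3)) = _
    exact add_comm _ _
  · show d j + 0 = 0
    rw [hdj, add_zero]

theorem mem_E1_conj {σ : Equiv.Perm (Fin 6)} {d : Fin 6 → ZMod 3} :
    E1.map (MulAut.conj (mono σ d)).toMonoidHom = E1 := by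
  have key : ∀ σ d, E1.map (MulAut.conj (mono σ d)).toMonoidHom ≤ E1 := by
    rintro σ d - ⟨g, hg, rfl⟩
    obtain ⟨a, ha, rfl⟩ := mem_E1.1 hg
    refine mem_E1.2 ⟨a ∘ σ.symm, by rw [← ha]; exact Equiv.sum_comp σ.symm a, ?_⟩
    rw [MulEquiv.coe_toMonoidHom, MulAut.conj_apply, eq_mul_inv_iff_mul_eq, mono_mul, mono_mul,
      one_mul, mul_one]
    congr 1
    funext i
    exact add_comm _ _
  refine le_antisymm (key σ d) fun g hg => ?_
  refine ⟨(mono σ d)⁻¹ * g * mono σ d, ?_, by simp [mul_assoc]⟩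
  have := key σ⁻¹ (fun i => -d (σ i)) ⟨g, hg, rfl⟩
  rw [MulEquiv.coe_toMonoidHom, MulAut.conj_apply, ← mono_inv, inv_inv] at this
  exact this

theorem solve_entries : ∀ a b c d u : F4, a ≠ 0 → b ≠ 0 → c ≠ 0 → d ≠ 0 → u ≠ 0 →
    (∀ s : F4, Bf ![0, a, b, c, d, u] (sm s ![d, 0, a, b, c, u]) = 0 ∧
      Bf ![0, a, b, c, d, u] (sm s ![c, d, 0, a, b, u]) = 0 ∧
      Bf ![0, a, b, c, d, u] (sm s ![(1, 0), (1, 0), (1, 0), (1, 0), (1, 0), 0]) = 0) →
    a = b ∧ b = c ∧ c = d := by decide +kernel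

theorem Bf_basis : ∀ (i j : Fin 6), i ≠ j → ∀ a b : F4, Bf (sm a (bv i)) (sm b (bv j)) = 0 := by
  decide +kernel

theorem cnt_five : ∀ v : W, cnt v = 5 → ∃ i, v i = 0 ∧ ∀ j, j ≠ i → v j ≠ 0 :=
  forall_W (by decide +kernel)

theorem cnt_one : ∀ v : W, cnt v = 1 → ∃ i k, v = sm (pw k) (bv i) :=
  forall_W (by decide +kernel)

theorem cyc_fixed : ∀ v : W, mono cyc 0 v = v → qf v = 1 →
    (∃ k, v = sm (pw k) (bv 5)) ∨ ∃ k, v = sm (pw k) (TW (bv 5)) :=
  forall_W (by decide +kernel)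

theorem cnt_TW : ∀ i, cnt (TW (bv i)) = 5 := by decide

theorem TW_bv_cyc : ∀ i, mono cyc 0 (TW (bv i)) = TW (bv (cyc i)) := by decide +kernel

theorem cyc_orbit : ∀ i : Fin 6, i ≠ 5 → ∃ k < 5, (cyc ^ k) 0 = i := by decide +kernel

theorem exists_common : ∀ k l : ZMod 3, ∃ m, pw m = mu (pw k) (pw l) := fun k l =>
  ⟨k + l, pw_add k l⟩

theorem qf_bv : ∀ j, qf (bv j) = 1 := by decide +kernel

theorem TW_bv_five : ∀ k : ZMod 3, sm (pw k) (TW (bv 5)) 5 = 0 := by decide +kernel

theorem fix_entries : ∀ a b : ZMod 3, mono 1 ![0, 0, 0, 0, 0, a - b]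
    ![0, pw a, pw a, pw a, pw a, pw b] = sm (pw a) (TW (bv 0)) := by decide +kernel

theorem fix_five : ∀ x : ZMod 3, mono 1 ![0, 0, 0, 0, 0, x] (TW (bv 5)) = TW (bv 5) := by
  decide +kernel

/-- Hypotheses on the second frame. -/
structure Twin (N : Equiv.Perm W) (σX σX' σY σY' : Equiv.Perm (Fin 6)) : Prop where
  uni : IsUni N
  hX : ∃ dX dX', N * mono σX' dX' = mono σX dX * N
  hY : ∃ dY dY', N * mono σY' dY' = mono σY dY * N
  closed : ∀ O : Finset (Fin 6), O.Nonempty → (∀ i ∈ O, σX i ∈ O) → (∀ i ∈ O, σY i ∈ O) → O = univ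
  closed' : ∀ O : Finset (Fin 6), O.Nonempty → (∀ i ∈ O, σX' i ∈ O) → (∀ i ∈ O, σY' i ∈ O) → O = univ

theorem image_bv {N : Equiv.Perm W} (hN : IsUni N) {σ σ' : Equiv.Perm (Fin 6)} {d d' : Fin 6 → ZMod 3}
    (h : N * mono σ' d' = mono σ d * N) (j : Fin 6) :
    ∃ k, mono σ d (N (bv j)) = sm (pw k) (N (bv (σ' j))) :=
  ⟨d' (σ' j), by rw [← Equiv.Perm.mul_apply, ← h, Equiv.Perm.mul_apply, mono_bv, hN.sm_comm]⟩

theorem twin_cases {N : Equiv.Perm W} {σX σX' σY σY' : Equiv.Perm (Fin 6)}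
    (h : Twin N σX σX' σY σY') (p : W → Prop)
    (hp : ∀ σ d v, p v → p (mono σ d v)) (hps : ∀ k v, p (sm (pw k) v) → p v)
    {j0 : Fin 6} (h0 : p (N (bv j0))) : ∀ j, p (N (bv j)) := by
  classical
  obtain ⟨dX, dX', hX⟩ := h.hX
  obtain ⟨dY, dY', hY⟩ := h.hY
  have := h.closed' (univ.filter fun j => p (N (bv j))) ⟨j0, by simpa using h0⟩ ?_ ?_
  · intro j
    have hm : j ∈ (univ : Finset (Fin 6)) := mem_univ j
    rw [← this] at hm
    simpa using hm
  all_goals
    intro i hi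
    simp only [mem_filter, mem_univ, true_and] at hi ⊢
  · obtain ⟨k, hk⟩ := image_bv h.uni hX i
    exact hps k _ (hk ▸ hp σX dX _ hi)
  · obtain ⟨k, hk⟩ := image_bv h.uni hY i
    exact hps k _ (hk ▸ hp σY dY _ hi)

theorem TW_frame {N : Equiv.Perm W} {σX' σY σY' : Equiv.Perm (Fin 6)} {dX' : Fin 6 → ZMod 3}
    (h : Twin N cyc σX' σY σY') (hX : N * mono σX' dX' = mono cyc 0 * N)
    (hne : E1.map (MulAut.conj N).toMonoidHom ≠ E1) :
    ∃ δ, E1.map (MulAut.conj (mono 1 δ * N)).toMonoidHom = E2 := by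
  classical
  have hN := h.uni
  have h5' : mono σX' dX' ^ 5 = 1 := by
    have e : mono σX' dX' = N⁻¹ * mono cyc 0 * N := by
      rw [mul_assoc, ← hX, inv_mul_cancel_left]
    have hc : mono cyc 0 ^ 5 = 1 := by
      rw [mono_pow_five, show cyc ^ 5 = 1 by decide +kernel]
      exact mono_one
    have hconj : ∀ n : ℕ, (N⁻¹ * mono cyc 0 * N) ^ n = N⁻¹ * mono cyc 0 ^ n * N := by
      intro n
      induction n with
      | zero => simp
      | succ n ih => rw [pow_succ, ih, pow_succ]; group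
    rw [e, hconj, hc, mul_one, inv_mul_cancel]
  obtain ⟨hσ', hd'⟩ := mono_eq_one (by rw [← mono_pow_five]; exact h5')
  obtain ⟨j0, hj0⟩ := five_fix σX' hσ'
  have hd0 : dX' j0 = 0 := by
    have e := congrFun hd' j0
    have sj : σX'.symm j0 = j0 := σX'.symm_apply_eq.2 hj0.symm
    simp only [sj, Pi.zero_apply] at e
    revert e
    generalize dX' j0 = x
    revert x; decide
  have hfix : mono cyc 0 (N (bv j0)) = N (bv j0) := by
    rw [← Equiv.Perm.mul_apply, ← hX, Equiv.Perm.mul_apply, mono_bv, hj0, hd0, pw_zero, sm_one]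
  have hq1 : qf (N (bv j0)) = 1 := by rw [hN.q]; exact qf_bv j0
  rcases cyc_fixed _ hfix hq1 with ⟨k, hk⟩ | ⟨k, hk⟩
  · exfalso
    refine hne ?_
    have hone := twin_cases h (fun v => cnt v = 1) (fun σ d v hv => (cnt_mono σ d v).trans hv)
      (fun k v hv => (cnt_sm k v).symm.trans hv) (j0 := j0) (by rw [hk, cnt_sm]; decide)
    choose π κ hπ using fun j => cnt_one _ (hone j)
    have hinj : Function.Injective π := by
      intro i j e
      by_contra hij
      have hcong : N (sm (pw (κ j - κ i)) (bv i)) = N (bv j) := by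
        rw [hN.sm_comm, hπ, hπ, e, sm_sm, ← pw_add, sub_add_cancel]
      have := congrFun (N.injective hcong) i
      simp [sm, bv, hij] at this
      exact pw_ne_zero _ (by rwa [mu_comm, mu_one] at this)
    let P : Equiv.Perm (Fin 6) := Equiv.ofBijective π (Finite.injective_iff_bijective.1 hinj)
    have hmono : N = mono P (fun l => κ (P.symm l)) := by
      refine Equiv.ext (congrFun (hN.ext_basis (isUni_mono _ _) fun j => ?_))
      rw [mono_bv, P.symm_apply_apply, hπ]
      rfl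
    rw [hmono]
    exact mem_E1_conj
  · have hfive := twin_cases h (fun v => cnt v = 5) (fun σ d v hv => (cnt_mono σ d v).trans hv)
      (fun k v hv => (cnt_sm k v).symm.trans hv) (j0 := j0) (by rw [hk, cnt_sm, cnt_TW])
    choose z hz0 hzne using fun j => cnt_five _ (hfive j)
    have hzeq : ∀ {σ σ' : Equiv.Perm (Fin 6)} {d d' : Fin 6 → ZMod 3},
        N * mono σ' d' = mono σ d * N → ∀ j, z (σ' j) = σ (z j) := by
      intro σ σ' d d' he j
      obtain ⟨m, hm⟩ := image_bv hN he j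
      by_contra hne'
      have e := congrFun hm (σ (z j))
      rw [mono_apply, σ.symm_apply_apply, hz0, mu_zero] at e
      exact hzne (σ' j) (σ (z j)) (fun h => hne' h.symm) ((mu_pw_eq_zero _ _).1 e.symm)
    obtain ⟨dY, dY', hY⟩ := h.hY
    have hzsurj : univ.image z = univ := by
      refine h.closed _ (univ_nonempty.image z) ?_ ?_ <;>
        intro i hi <;> obtain ⟨j, -, rfl⟩ := mem_image.1 hi
      · exact mem_image.2 ⟨σX' j, mem_univ _, hzeq hX j⟩
      · exact mem_image.2 ⟨σY' j, mem_univ _, hzeq hY j⟩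
    have hzbij : Function.Bijective z := Finite.surjective_iff_bijective.1 fun i => by
      obtain ⟨j, -, e⟩ := mem_image.1 (hzsurj.symm ▸ mem_univ i : i ∈ univ.image z)
      exact ⟨j, e⟩
    obtain ⟨j1, hj1⟩ := hzbij.2 0
    have hj0z : z j0 = 5 := by
      by_contra hne'
      refine hzne j0 5 (fun e => hne' e.symm) ?_
      rw [hk]; exact TW_bv_five k
    set f1 := N (bv j1) with hf1
    have hshape : f1 = ![0, f1 1, f1 2, f1 3, f1 4, f1 5] := funext fun i => by
      fin_cases i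
      · have := hz0 j1; rw [hj1] at this; exact this
      all_goals rfl
    have hnz : ∀ i, i ≠ 0 → f1 i ≠ 0 := fun i hi => hzne j1 i (by rw [hj1]; exact hi)
    obtain ⟨m1, hm1⟩ := image_bv hN hX j1
    obtain ⟨m2, hm2⟩ := image_bv hN hX (σX' j1)
    have horth : ∀ j, j ≠ j1 → ∀ s t, Bf f1 (sm s (sm (pw t) (N (bv j)))) = 0 := by
      intro j hj s t
      rw [sm_sm, hf1, ← hN.sm_comm, hN.Bf_eq, ← sm_one (bv j1)]
      exact Bf_basis j1 j (fun e => hj e.symm) _ _
    have hz1 : z (σX' j1) = 1 := by rw [hzeq hX, hj1]; rfl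
    have hz2 : z (σX' (σX' j1)) = 2 := by rw [hzeq hX, hz1]; rfl
    have e1 : mono cyc 0 f1 = ![f1 4, 0, f1 1, f1 2, f1 3, f1 5] := by
      conv_lhs => rw [hshape]
      funext i
      rw [mono_apply]
      fin_cases i <;> exact mu_one _
    have e2 : mono cyc 0 (mono cyc 0 f1) = ![f1 3, f1 4, 0, f1 1, f1 2, f1 5] := by
      rw [e1]
      funext i
      rw [mono_apply]
      fin_cases i <;> exact mu_one _
    have sol := solve_entries (f1 1) (f1 2) (f1 3) (f1 4) (f1 5) (hnz 1 (by decide))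
      (hnz 2 (by decide)) (hnz 3 (by decide)) (hnz 4 (by decide)) (hnz 5 (by decide)) fun s => by
      rw [← hshape, ← e1, ← e2]
      refine ⟨?_, ?_, ?_⟩
      · rw [hm1]
        exact horth _ (fun e => by rw [e, hj1] at hz1; exact absurd hz1 (by decide)) s m1
      · rw [hm1, (isUni_mono cyc 0).sm_comm, hm2, sm_sm (pw m1), ← pw_add]
        exact horth _ (fun e => by rw [e, hj1] at hz2; exact absurd hz2 (by decide)) s (m1 + m2)
      · have hT5 : (![(1, 0), (1, 0), (1, 0), (1, 0), (1, 0), 0] : W) = sm (pw (-k)) (N (bv j0)) := by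
          rw [hk, sm_sm, ← pw_add, neg_add_cancel, pw_zero, sm_one]
          decide +kernel
        rw [hT5]
        exact horth _ (fun e => by rw [e, hj1] at hj0z; exact absurd hj0z (by decide)) s (-k)
    obtain ⟨ka, hka⟩ := exists_pw _ (hnz 1 (by decide))
    obtain ⟨ku, hku⟩ := exists_pw _ (hnz 5 (by decide))
    refine ⟨![0, 0, 0, 0, 0, ka - ku], ?_⟩
    set D := mono 1 (![0, 0, 0, 0, 0, ka - ku] : Fin 6 → ZMod 3) with hD
    set N2 := D * N with hN2
    have hN2u : IsUni N2 := (isUni_mono _ _).comp hN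
    have hcD : mono cyc 0 * D = D * mono cyc 0 := by
      rw [hD, mono_mul, mono_mul, one_mul, mul_one]
      congr 1
      funext i
      fin_cases i <;> simp <;> rfl
    have hX2 : N2 * mono σX' dX' = mono cyc 0 * N2 := by
      rw [hN2, mul_assoc, hX, ← mul_assoc, ← hcD, mul_assoc]
    have good0 : ∃ m, N2 (bv j1) = sm (pw m) (TW (bv 0)) := by
      refine ⟨ka, ?_⟩
      rw [hN2, Equiv.Perm.mul_apply, ← hf1, hshape, ← sol.2.2, ← sol.2.1, ← sol.1, ← hka, ← hku]
      exact fix_entries ka ku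
    have good : ∀ n : ℕ, ∃ j m, N2 (bv j) = sm (pw m) (TW (bv ((cyc ^ n) 0))) := by
      intro n
      induction n with
      | zero => obtain ⟨m, hm⟩ := good0; exact ⟨j1, m, hm⟩
      | succ n ih =>
        obtain ⟨j, m, hm⟩ := ih
        obtain ⟨m', hm'⟩ := image_bv hN2u hX2 j
        rw [hm, (isUni_mono cyc 0).sm_comm, TW_bv_cyc, ← Equiv.Perm.mul_apply, ← pow_succ'] at hm'
        refine ⟨σX' j, m - m', ?_⟩
        have := congrArg (sm (pw (-m'))) hm'
        rw [sm_sm, sm_sm, ← pw_add, ← pw_add, neg_add_cancel, pw_zero, sm_one] at this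
        rw [← this, sub_eq_neg_add]
    have goodAll : ∀ i, ∃ j m, N2 (bv j) = sm (pw m) (TW (bv i)) := by
      intro i
      rcases eq_or_ne i 5 with rfl | hi
      · refine ⟨j0, k, ?_⟩
        rw [hN2, Equiv.Perm.mul_apply, hk, (isUni_mono _ _).sm_comm]
        congr 1
        exact fix_five _
      · obtain ⟨n, -, rfl⟩ := cyc_orbit i hi
        exact good n
    choose J m hJ using goodAll
    have hTinj : ∀ i i' a b, sm (pw a) (TW (bv i)) = sm (pw b) (TW (bv i')) → i = i' := by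
      decide +kernel
    have hJinj : Function.Injective J := fun i i' e => hTinj i i' (m i) (m i') (by rw [← hJ, ← hJ, e])
    let P : Equiv.Perm (Fin 6) := (Equiv.ofBijective J (Finite.injective_iff_bijective.1 hJinj)).symm
    have hPJ : ∀ i, P (J i) = i := fun i => Equiv.ofBijective_symm_apply_apply J _ i
    have hmono : N2 = TW * mono P m := by
      refine Equiv.ext (congrFun (hN2u.ext_basis (isUni_TW.comp (isUni_mono _ _)) fun j => ?_))
      obtain ⟨i, rfl⟩ : ∃ i, J i = j := (Finite.injective_iff_bijective.1 hJinj).2 j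
      show N2 (bv (J i)) = TW (mono P m (bv (J i)))
      rw [mono_bv, hPJ, isUni_TW.sm_comm, hJ]
    rw [hmono, map_mul]
    show E1.map ((MulAut.conj TW).toMonoidHom.comp (MulAut.conj (mono P m)).toMonoidHom) = E2
    rw [← Subgroup.map_map, mem_E1_conj]
    rfl

/-- Normalisation of two frames. -/
theorem normalise {N : Equiv.Perm W} {σX σX' σY σY' : Equiv.Perm (Fin 6)}
    {dX dX' : Fin 6 → ZMod 3} (h : Twin N σX σX' σY σY') (hX : N * mono σX' dX' = mono σX dX * N)
    (h5 : mono σX dX ^ 5 = 1) (h1 : mono σX dX ≠ 1)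
    (hne : E1.map (MulAut.conj N).toMonoidHom ≠ E1) :
    ∃ τ δ, E1.map (MulAut.conj (mono τ δ)).toMonoidHom = E1 ∧
      E1.map (MulAut.conj (mono τ δ * N)).toMonoidHom = E2 := by
  classical
  obtain ⟨τ, δ, hstd⟩ := exists_standard h5 h1
  set D := mono τ δ with hD
  have hτ : σX * τ = τ * cyc := by
    have hinj : ∀ {a b : Equiv.Perm (Fin 6)} {u v : Fin 6 → ZMod 3}, mono a u = mono b v → a = b := by
      intro a b u v e
      have := mono_inv b v ▸ (mul_inv_eq_one.2 e : mono a u * (mono b v)⁻¹ = 1)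
      rw [mono_mul] at this
      exact mul_inv_eq_one.1 (mono_eq_one this).1
    rw [hD, mono_mul, mono_mul] at hstd
    exact hinj hstd
  obtain ⟨dY, dY', hY⟩ := h.hY
  have hX2 : (D⁻¹ * N) * mono σX' dX' = mono cyc 0 * (D⁻¹ * N) := by
    rw [mul_assoc, hX, ← mul_assoc, ← mul_assoc,
      show D⁻¹ * mono σX dX = mono cyc 0 * D⁻¹ by
        rw [eq_mul_inv_iff_mul_eq, mul_assoc, hstd, inv_mul_cancel_left]]
  have hY2 : (D⁻¹ * N) * mono σY' dY' =
      mono (τ⁻¹ * σY * τ) ((fun i => -δ (τ i)) + dY ∘ (τ⁻¹).symm + δ ∘ (τ⁻¹ * σY).symm) *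
        (D⁻¹ * N) := by
    rw [← mono_mul, ← mono_mul, ← mono_inv, ← hD, mul_assoc _ N, hY]
    group
  have hclosed : ∀ O : Finset (Fin 6), O.Nonempty → (∀ i ∈ O, cyc i ∈ O) →
      (∀ i ∈ O, (τ⁻¹ * σY * τ) i ∈ O) → O = univ := by
    intro O hO hc hy
    have := h.closed (O.image τ) (hO.image τ) ?_ ?_
    · refine eq_univ_of_card O ?_
      rw [← card_image_of_injective O τ.injective, this, card_univ]
    all_goals
      intro i hi
      obtain ⟨j, hj, rfl⟩ := mem_image.1 hi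
    · refine mem_image.2 ⟨cyc j, hc j hj, ?_⟩
      exact (congrArg (fun π : Equiv.Perm (Fin 6) => π j) hτ).symm
    · refine mem_image.2 ⟨_, hy j hj, ?_⟩
      simp
  have hne2 : E1.map (MulAut.conj (D⁻¹ * N)).toMonoidHom ≠ E1 := by
    intro e
    refine hne ?_
    rw [show N = D * (D⁻¹ * N) by group, map_mul]
    show E1.map ((MulAut.conj D).toMonoidHom.comp (MulAut.conj (D⁻¹ * N)).toMonoidHom) = E1
    rw [← Subgroup.map_map, e, hD, mem_E1_conj]
  obtain ⟨δ2, h2⟩ := TW_frame (N := D⁻¹ * N)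
    { uni := (IsUni.inv (isUni_mono τ δ)).comp h.uni
      hX := ⟨_, _, hX2⟩, hY := ⟨_, _, hY2⟩, closed := hclosed, closed' := h.closed' } hX2 hne2
  rw [hD, ← mul_assoc, mono_inv, mono_mul] at h2
  exact ⟨_, _, mem_E1_conj, h2⟩

end H16.Fi24
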