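import Cfsg.Agent.H16.Fi24.Coords
import Cfsg.Agent.H16.Fi24.Linear
import Cfsg.Agent.H16.Fi24.Lift

/-!
A faithful orthogonal action of the triple cover on a space of order `2^12` is the explicit one.
-/

set_option autoImplicit false
set_option maxRecDepth 100000

namespace H16.Fi24

open Finset

universe u v w

theorem reach_A : Reach Ax Ay := fun c hc => (reach_ok c hc).1

theorem reach_B : Reach Bx By := fun c hc => (reach_ok c hc).2

theorem card_E1_le : Nat.card E1 ≤ 243 := by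
  classical
  have hex : ∀ g : E1, ∃ d : Fin 6 → ZMod 3, ∑ i, d i = 0 ∧ mono 1 d = g.1 := fun g => mem_E1.1 g.2
  choose d hd hg using hex
  let f : E1 → (Fin 5 → ZMod 3) := fun g i => d g i.castSucc
  have hf : Function.Injective f := by
    intro a b h
    refine Subtype.ext ?_
    rw [← hg a, ← hg b]
    congr 1
    funext i
    have h5 : ∀ g, d g 5 = -(d g 0 + d g 1 + d g 2 + d g 3 + d g 4) := fun g => by
      have := hd g
      rw [Fin.sum_univ_six] at this
      exact eq_neg_of_add_eq_zero_right this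
    have e : ∀ i : Fin 5, d a i.castSucc = d b i.castSucc := fun i => congrFun h i
    fin_cases i
    · exact e 0
    · exact e 1
    · exact e 2
    · exact e 3
    · exact e 4
    · show d a 5 = d b 5
      have e0 : d a 0 = d b 0 := e 0
      have e1 : d a 1 = d b 1 := e 1
      have e2 : d a 2 = d b 2 := e 2
      have e3 : d a 3 = d b 3 := e 3
      have e4 : d a 4 = d b 4 := e 4
      rw [h5, h5, e0, e1, e2, e3, e4]
  have := Nat.card_le_card_of_injective f hf
  simpa using this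

theorem mono_inj {a b : Equiv.Perm (Fin 6)} {u v : Fin 6 → ZMod 3} (e : mono a u = mono b v) :
    u = v := by
  have h := mul_inv_eq_one.2 e
  rw [mono_inv, mono_mul] at h
  obtain ⟨h1, h2⟩ := mono_eq_one h
  have hab : a = b := mul_inv_eq_one.1 h1
  subst hab
  funext i
  have := congrFun h2 i
  simp only [Pi.add_apply, Function.comp_apply, Pi.zero_apply, Equiv.apply_symm_apply] at this
  exact add_neg_eq_zero.1 this

theorem wW_eq_mono : (⇑(mono 1 fun _ => (1 : ZMod 3)) : W → W) = wW := rfl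

variable {Γ : Type u} [Group Γ] [Finite Γ] {P : Type v} [Group P] {V : Type w} [AddCommGroup V]
  [Finite V]

/-- The data of an orthogonal action of a central extension. -/
structure OrthAct (π : Γ →* P) (ω : Γ) (ρ : Γ → V →+ V) (q : V → ZMod 2) (b : V → V → ZMod 2) :
    Prop where
  ext : Ext3 π ω
  two : ∀ v : V, v + v = 0
  card : Nat.card V = 4096
  mul : ∀ g h v, ρ (g * h) v = ρ g (ρ h v)
  one : ∀ v, ρ 1 v = v
  faith : ∀ g, (∀ v, ρ g v = v) → g = 1
  polar : ∀ x y, q (x + y) = q x + q y + b x y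
  add_left : ∀ x x' y, b (x + x') y = b x y + b x' y
  inv : ∀ g v, q (ρ g v) = q v
  nondeg : ∀ x, (∀ y, b x y = 0) → x = 0

variable {π : Γ →* P} {ω : Γ} {ρ : Γ → V →+ V} {q : V → ZMod 2} {b : V → V → ZMod 2}

theorem exists_ident (O : OrthAct π ω ρ q b) (C : Cert P) :
    ∃ (e : W ≃+ V) (θ : Γ →* Equiv.Perm W), (∀ g a, ρ g (e a) = e (θ g a)) ∧
      (∀ a, q (e a) = qf a) ∧ θ.range = K0 ∧ Function.Injective θ ∧ ⇑(θ ω) = wW := by
  classical
  have X := O.ext
  obtain ⟨ι, ι_add, ι_pi, ι_inj, ι_w, ι_surj⟩ := X.exists_param C reach_A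
  let act : P5 → V →+ V := fun a => ρ (ι a)
  have ι0 : ι 0 = 1 := by
    have h := ι_add 0 0
    rw [add_zero] at h
    exact left_eq_mul.mp h
  have H : IsAct act := ⟨O.two, fun a b v => by
    show ρ (ι (a + b)) v = _
    rw [ι_add, O.mul], fun v => by show ρ (ι 0) v = v; rw [ι0, O.one]⟩
  have hf : ∀ a, (∀ v, act a v = v) → a = 0 := fun a h => ι_inj ((O.faith _ h).trans ι0.symm)
  have hq : IsForm act q b := ⟨O.polar, O.add_left, fun a v => O.inv _ v, O.nondeg⟩
  -- symmetries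
  have mkSym : ∀ (g : Γ) (A : Pv → Pv), g ^ 5 = 1 →
      (∀ p, π g * C.r p * (π g)⁻¹ = C.r (A p)) → ∃ S : Sym act A, S.g = ρ g := by
    intro g A hg hA
    have hadd : ∀ p q, A (p + q) = A p + A q := fun p q => C.inj (by
      rw [← hA, C.add, C.add, ← hA, ← hA]; group)
    have hex : ∀ p, ∃ s, g * ι (p, 0) * g⁻¹ = ι (A p, s) := fun p =>
      ι_surj _ _ (X.conj_r C hA (ι_pi p 0))
    choose μ hμ using hex
    obtain ⟨l, hl⟩ := exists_dot μ fun p q => by
      have e := hμ (p + q)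
      rw [show ((p + q, 0) : P5) = (p, 0) + (q, 0) from Prod.ext rfl (add_zero 0).symm, ι_add] at e
      have e2 : g * (ι (p, 0) * ι (q, 0)) * g⁻¹ = ι (A p + A q, μ p + μ q) := by
        rw [show ((A p + A q, μ p + μ q) : P5) = (A p, μ p) + (A q, μ q) from rfl, ι_add, ← hμ, ← hμ]
        group
      exact congrArg Prod.snd (ι_inj (e.symm.trans e2))
    refine ⟨{ g := ρ g, g5 := fun v => ?_, l := l, A_add := hadd, conj := fun p s v => ?_ }, rfl⟩
    · rw [← O.mul, ← O.mul, ← O.mul, ← O.mul,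
        show g * g * g * g * g = g ^ 5 by simp [pow_succ, mul_assoc], hg, O.one]
    · show ρ g (ρ (ι (p, s)) v) = ρ (ι (A p, s + dot l p)) (ρ g v)
      rw [← O.mul, ← O.mul]
      congr 2
      have hw : g * ι (0, s) = ι (0, s) * g := by
        have : ι (0, s) = wp ω s := by
          obtain ⟨k, hk⟩ := X.exists_wp (g := ι (0, s)) (h := 1)
            (by rw [ι_pi, map_one, ← X.pi_one C (map_one π), map_one])
          have e : ∀ n : ℕ, ι (0, (n : ZMod 3)) = ω ^ n := by
            intro n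
            induction n with
            | zero => rw [Nat.cast_zero, pow_zero]; exact ι0
            | succ n ih =>
              rw [Nat.cast_succ, show ((0, (n : ZMod 3) + 1) : P5) = (0, (n : ZMod 3)) + (0, 1) from
                Prod.ext (add_zero 0).symm rfl, ι_add, ih, ι_w, pow_succ]
          rw [wp, ← e, ZMod.natCast_zmod_val]
        rw [this, X.wp_comm]
      rw [show ((p, s) : P5) = (p, 0) + (0, s) from Prod.ext (add_zero p).symm (zero_add s).symm,
        ι_add, show ((A p, s + dot l p) : P5) = (A p, μ p) + (0, s) from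
          Prod.ext (add_zero _).symm (by show s + dot l p = μ p + s; rw [hl, add_comm]),
        ι_add, ← hμ, mul_assoc _ (ι (0, s)) g, ← hw]
      group
  obtain ⟨x, hxπ, hx5⟩ := X.exists_five C.x5
  obtain ⟨y, hyπ, hy5⟩ := X.exists_five C.y5
  obtain ⟨n, hn⟩ := X.surj C.w
  set x' := n⁻¹ * x * n with hx'
  set y' := n⁻¹ * y * n with hy'
  have conj5 : ∀ g : Γ, g ^ 5 = 1 → (n⁻¹ * g * n) ^ 5 = 1 := fun g hg => by
    have := conj_pow (i := 5) (a := n⁻¹) (b := g)
    rw [inv_inv] at this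
    rw [this, hg, mul_one, inv_mul_cancel]
  obtain ⟨SX, hSX⟩ := mkSym x Ax hx5 fun p => hxπ ▸ C.ax p
  obtain ⟨SY, hSY⟩ := mkSym y Ay hy5 fun p => hyπ ▸ C.ay p
  obtain ⟨SX', hSX'⟩ := mkSym x' Bx (conj5 x hx5) fun p => by
    rw [hx', map_mul, map_mul, map_inv, hn, hxπ]; exact C.bx p
  obtain ⟨SY', hSY'⟩ := mkSym y' By (conj5 y hy5) fun p => by
    rw [hy', map_mul, map_mul, map_inv, hn, hyπ]; exact C.ay' p
  obtain ⟨K⟩ := nonempty_coords H O.card SX SY hf reach_A hq
  obtain ⟨K'⟩ := nonempty_coords H O.card SX' SY' hf reach_B hq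
  -- the representation in the first coordinates
  let T : Γ → Equiv.Perm W := fun g =>
    { toFun := fun a => K.e.symm (ρ g (K.e a))
      invFun := fun a => K.e.symm (ρ g⁻¹ (K.e a))
      left_inv := fun a => by
        show K.e.symm (ρ g⁻¹ (K.e (K.e.symm (ρ g (K.e a))))) = a
        rw [K.e.apply_symm_apply, ← O.mul, inv_mul_cancel, O.one, K.e.symm_apply_apply]
      right_inv := fun a => by
        show K.e.symm (ρ g (K.e (K.e.symm (ρ g⁻¹ (K.e a))))) = a
        rw [K.e.apply_symm_apply, ← O.mul, mul_inv_cancel, O.one, K.e.symm_apply_apply] }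
  let θ1 : Γ →* Equiv.Perm W := MonoidHom.mk' T fun g h => Equiv.ext fun a => by
    show K.e.symm (ρ (g * h) (K.e a)) = K.e.symm (ρ g (K.e (K.e.symm (ρ h (K.e a)))))
    rw [K.e.apply_symm_apply, O.mul]
  have hθ1 : ∀ g a, ρ g (K.e a) = K.e (θ1 g a) := fun g a => (K.e.apply_symm_apply _).symm
  have θ1_eq : ∀ g (m : Equiv.Perm W), (∀ a, ρ g (K.e a) = K.e (m a)) → θ1 g = m := fun g m h =>
    Equiv.ext fun a => K.e.injective ((hθ1 g a).symm.trans (h a))
  have θ1_inj : Function.Injective θ1 := by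
    rw [injective_iff_map_eq_one]
    intro g hg
    refine O.faith g fun v => ?_
    obtain ⟨a, rfl⟩ := K.e.surjective v
    rw [hθ1, hg]; rfl
  have hdiag : ∀ a : P5, θ1 (ι a) = mono 1 (fun i => dot (K.c i) a.1 + a.2) := fun a =>
    θ1_eq _ _ fun x => K.act_eq a.1 a.2 x
  have hE1 : ∀ g, g ∈ E1 ↔ ∃ a, θ1 (ι a) = g := by
    let f : Multiplicative P5 →* Equiv.Perm W :=
      θ1.comp (MonoidHom.mk' (fun a => ι a.toAdd) fun a b => ι_add a.toAdd b.toAdd)
    have hf1 : f.range ≤ E1 := by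
      rintro - ⟨a, rfl⟩
      show θ1 (ι a.toAdd) ∈ E1
      rw [hdiag]
      refine mem_E1.2 ⟨_, ?_, rfl⟩
      rw [sum_add_distrib, sum_const, card_univ, Fintype.card_fin,
        show ∑ i, dot (K.c i) a.toAdd.1 = dot (∑ i, K.c i) a.toAdd.1 from
          (map_sum (AddMonoidHom.mk' (fun c => dot c a.toAdd.1) fun c d => dot_add_left c d _) _ _).symm,
        K.sum_c, nsmul_eq_mul, show ((6 : ℕ) : ZMod 3) = 0 from by decide, zero_mul, add_zero]
      simp [dot]
    have hfi : Function.Injective f := fun a b h => Multiplicative.toAdd.injective (ι_inj (θ1_inj h))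
    have hcard : Nat.card f.range = 243 := by
      rw [← Nat.card_congr (MonoidHom.ofInjective hfi).toEquiv]
      simp [Nat.card_eq_fintype_card]
    have heq : f.range = E1 := Subgroup.eq_of_le_of_card_ge hf1 (hcard.symm ▸ card_E1_le)
    intro g
    rw [← heq]
    exact ⟨fun ⟨a, e⟩ => ⟨a.toAdd, e⟩, fun ⟨a, e⟩ => ⟨Multiplicative.ofAdd a, e⟩⟩
  -- the change of coordinates
  let ρn : V ≃+ V :=
    { toFun := ρ n, invFun := ρ n⁻¹
      left_inv := fun v => by rw [← O.mul, inv_mul_cancel, O.one]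
      right_inv := fun v => by rw [← O.mul, mul_inv_cancel, O.one]
      map_add' := map_add _ }
  let N : Equiv.Perm W := ((K'.e.trans ρn).trans K.e.symm).toEquiv
  have hN : ∀ a, K.e (N a) = ρ n (K'.e a) := fun a => K.e.apply_symm_apply _
  have hω : θ1 ω = mono 1 (fun _ => 1) := by
    rw [← ι_w, hdiag]; simp [dot]
  have hω' : ∀ a, ρ ω (K'.e a) = K'.e (wW a) := fun a => by
    rw [← ι_w]
    refine (K'.act_eq 0 1 a).trans ?_
    simp [dot, wW_eq_mono]
  have hNu : IsUni N := by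
    refine ⟨fun u v => K.e.injective ?_, fun v => K.e.injective ?_, fun v => ?_⟩
    · rw [hN, map_add K.e, hN, hN, map_add K'.e, map_add]
    · rw [hN, ← hω', ← O.mul, X.cent, O.mul, ← hN, hθ1, hω]; rfl
    · rw [← K.q_eq, hN, O.inv, K'.q_eq]
  have rel : ∀ (g : Γ) {σ σ' : Equiv.Perm (Fin 6)} {d d' : Fin 6 → ZMod 3},
      (∀ a, ρ g (K.e a) = K.e (mono σ d a)) →
      (∀ a, ρ (n⁻¹ * g * n) (K'.e a) = K'.e (mono σ' d' a)) →
      N * mono σ' d' = mono σ d * N := by
    intro g σ σ' d d' h h'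
    refine Equiv.ext fun a => K.e.injective ?_
    rw [Equiv.Perm.mul_apply, hN, ← h', ← O.mul, Equiv.Perm.mul_apply, ← h, hN, ← O.mul]
    congr 2
    group
  have hX := rel x (fun a => hSX ▸ K.X_eq a) (fun a => hSX' ▸ K'.X_eq a)
  have hY := rel y (fun a => hSY ▸ K.Y_eq a) (fun a => hSY' ▸ K'.Y_eq a)
  have hθx : θ1 x = mono K.σX K.dX := θ1_eq _ _ fun a => hSX ▸ K.X_eq a
  have hx1 : x ≠ 1 := by
    rintro rfl
    exact C.x1 (hxπ ▸ map_one π)
  have hdiag' : ∀ a : P5, θ1 (n * ι a * n⁻¹) = N * mono 1 (fun i => dot (K'.c i) a.1 + a.2) * N⁻¹ := by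
    intro a
    rw [eq_mul_inv_iff_mul_eq]
    refine Equiv.ext fun u => K.e.injective ?_
    rw [Equiv.Perm.mul_apply, Equiv.Perm.mul_apply, ← hθ1, hN, hN, ← K'.act_eq, ← O.mul]
    show ρ _ _ = ρ n (ρ (ι a) _)
    rw [← O.mul, show n * ι a * n⁻¹ * n = n * ι a by group]
  have hE1' : ∀ d : Fin 6 → ZMod 3, ∑ i, d i = 0 → ∃ a : P5, (fun i => dot (K'.c i) a.1 + a.2) = d := by
    let f : P5 → E1 := fun a => ⟨mono 1 (fun i => dot (K'.c i) a.1 + a.2), mem_E1.2 ⟨_, by
      rw [sum_add_distrib, sum_const, card_univ, Fintype.card_fin,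
        show ∑ i, dot (K'.c i) a.1 = dot (∑ i, K'.c i) a.1 from
          (map_sum (AddMonoidHom.mk' (fun c => dot c a.1) fun c d => dot_add_left c d _) _ _).symm,
        K'.sum_c, nsmul_eq_mul, show ((6 : ℕ) : ZMod 3) = 0 from by decide, zero_mul, add_zero]
      simp [dot], rfl⟩⟩
    have hfi : Function.Injective f := by
      intro a b h
      refine ι_inj (θ1_inj ?_)
      have h1 : θ1 (n * ι a * n⁻¹) = θ1 (n * ι b * n⁻¹) := by
        rw [hdiag', hdiag', show mono 1 (fun i => dot (K'.c i) a.1 + a.2) =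
          mono 1 (fun i => dot (K'.c i) b.1 + b.2) from congrArg Subtype.val h]
      rw [mul_left_cancel (mul_right_cancel (θ1_inj h1))]
    have hbij : Function.Bijective f := (Nat.bijective_iff_injective_and_card f).2 ⟨hfi,
      le_antisymm (Nat.card_le_card_of_injective f hfi)
        (le_trans card_E1_le (by simp [Nat.card_eq_fintype_card]))⟩
    intro d hd
    obtain ⟨a, ha⟩ := hbij.2 ⟨mono 1 d, mem_E1.2 ⟨d, hd, rfl⟩⟩
    exact ⟨a, mono_inj (congrArg Subtype.val ha)⟩
  have hne : E1.map (MulAut.conj N).toMonoidHom ≠ E1 := by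
    intro e
    obtain ⟨p, hp⟩ := C.ne
    have hmem : θ1 (n * ι (p, 0) * n⁻¹) ∈ E1 := by
      rw [← e, hdiag']
      refine ⟨_, mem_E1.2 ⟨_, ?_, rfl⟩, rfl⟩
      rw [sum_add_distrib, sum_const, card_univ, Fintype.card_fin,
        show ∑ i, dot (K'.c i) p = dot (∑ i, K'.c i) p from
          (map_sum (AddMonoidHom.mk' (fun c => dot c p) fun c d => dot_add_left c d _) _ _).symm,
        K'.sum_c, nsmul_eq_mul, mul_zero, add_zero]
      simp [dot]
    obtain ⟨⟨r, s⟩, ha⟩ := (hE1 _).1 hmem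
    refine hp r ?_
    have := congrArg π (θ1_inj ha)
    rw [ι_pi, map_mul, map_mul, map_inv, ι_pi, hn] at this
    exact this.symm
  obtain ⟨τ, δ, hD1, hD2⟩ := normalise
    { uni := hNu, hX := ⟨_, _, hX⟩, hY := ⟨_, _, hY⟩, closed := K.closed, closed' := K'.closed }
    hX (by rw [← hθx, ← map_pow, hx5, map_one])
    (by rw [← hθx]; exact fun h => hx1 (θ1_inj (h.trans (map_one θ1).symm))) hne
  set D := mono τ δ with hD
  have hgen : θ1.range = E1 ⊔ E1.map (MulAut.conj N).toMonoidHom := by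
    refine le_antisymm ?_ (sup_le (fun g hg => ?_) ?_)
    · rw [MonoidHom.range_eq_map, Subgroup.map_le_iff_le_comap]
      set S := (E1 ⊔ E1.map (MulAut.conj N).toMonoidHom).comap θ1
      have h1 : ∀ a, ι a ∈ S := fun a => Subgroup.mem_sup_left ((hE1 _).2 ⟨a, rfl⟩)
      have h2 : ∀ a, n * ι a * n⁻¹ ∈ S := fun a => by
        refine Subgroup.mem_sup_right ?_
        rw [hdiag']
        refine ⟨_, mem_E1.2 ⟨_, ?_, rfl⟩, rfl⟩
        rw [sum_add_distrib, sum_const, card_univ, Fintype.card_fin,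
          show ∑ i, dot (K'.c i) a.1 = dot (∑ i, K'.c i) a.1 from
            (map_sum (AddMonoidHom.mk' (fun c => dot c a.1) fun c d => dot_add_left c d _) _ _).symm,
          K'.sum_c, nsmul_eq_mul, show ((6 : ℕ) : ZMod 3) = 0 from by decide, zero_mul, add_zero]
        simp [dot]
      have hk : π.ker ≤ S := by
        rw [X.ker, Subgroup.zpowers_le, ← ι_w]; exact h1 _
      have hS : S.map π = ⊤ := by
        rw [eq_top_iff, ← C.gen, Subgroup.closure_le]
        rintro g (⟨p, rfl⟩ | ⟨p, rfl⟩)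
        · exact ⟨ι (p, 0), h1 _, ι_pi p 0⟩
        · exact ⟨n * ι (p, 0) * n⁻¹, h2 _, by rw [map_mul, map_mul, map_inv, hn, ι_pi]⟩
      intro g _
      obtain ⟨s, hs, e⟩ := (hS.symm ▸ Subgroup.mem_top (π g) : π g ∈ S.map π)
      have : s⁻¹ * g ∈ S := hk (by rw [MonoidHom.mem_ker, map_mul, map_inv, e, inv_mul_cancel])
      simpa using mul_mem hs this
    · obtain ⟨a, rfl⟩ := (hE1 g).1 hg; exact ⟨_, rfl⟩
    · rintro - ⟨g, hg, rfl⟩
      obtain ⟨d, hd, rfl⟩ := mem_E1.1 hg
      obtain ⟨a, rfl⟩ := hE1' d hd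
      exact ⟨n * ι a * n⁻¹, hdiag' a⟩
  let θ : Γ →* Equiv.Perm W := (MulAut.conj D).toMonoidHom.comp θ1
  let e : W ≃+ V := (AddEquiv.mk' D⁻¹ fun u v => (IsUni.inv (isUni_mono τ δ)).add u v).trans K.e
  refine ⟨e, θ, fun g a => ?_, fun a => ?_, ?_, fun g h e' => θ1_inj ((MulAut.conj D).injective e'), ?_⟩
  · show ρ g (K.e (D⁻¹ a)) = K.e (D⁻¹ ((D * θ1 g * D⁻¹) a))
    rw [hθ1, ← Equiv.Perm.mul_apply D⁻¹, ← mul_assoc, ← mul_assoc, inv_mul_cancel, one_mul,
      Equiv.Perm.mul_apply]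
  · show q (K.e (D⁻¹ a)) = qf a
    rw [K.q_eq]
    exact (IsUni.inv (isUni_mono τ δ)).q a
  · rw [MonoidHom.range_comp, hgen, Subgroup.map_sup, Subgroup.map_map, hD1,
      show (MulAut.conj D).toMonoidHom.comp (MulAut.conj N).toMonoidHom =
        (MulAut.conj (D * N)).toMonoidHom by rw [map_mul]; rfl, hD2]
    rfl
  · funext a
    show (D * θ1 ω * D⁻¹) a = wW a
    rw [Equiv.Perm.mul_apply, Equiv.Perm.mul_apply, hω, wW_eq_mono, hD, (isUni_mono τ δ).wcomm]
    simp

end H16.Fi24
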