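import Cfsg.Agent.H16.Fi24.Base

/-!
A model of an extraspecial normal subgroup of order `2^13` and of the group acting on it: interface
and first consequences.
-/

set_option autoImplicit false
set_option maxRecDepth 100000

namespace H16.Fi24

universe u

theorem card_lab_two : (Finset.univ.filter fun v : W => lab v = 2).card = 378 := by decide +kernel

theorem card_lab_three : (Finset.univ.filter fun v : W => lab v = 3).card = 1701 := by decide +kernel

theorem lab_cases : ∀ v : W, (lab v = 0 ↔ v = 0) ∧ lab v ≤ 3 ∧ (2 ≤ lab v ↔ qf v = 0 ∧ v ≠ 0) :=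
  forall_W (by decide +kernel)

theorem Bf_single (w : W) (i : Fin 6) (b : F4) :
    Bf w (Pi.single i b) = Bf (Pi.single i (w i)) (Pi.single i b) := by
  have hq : ∀ u : W, qf u = ∑ j, (nz (u j) : ZMod 2) := fun u => by
    simp only [qf, cnt, Fin.sum_univ_six, Nat.cast_add]
  have hB : ∀ x y : W, Bf x y = ∑ j, ((nz (x j + y j) : ZMod 2) + nz (x j) + nz (y j)) := fun x y => by
    simp only [Bf, hq, Finset.sum_add_distrib, Pi.add_apply]
  have h0 : ∀ a : F4, (nz (a + 0) : ZMod 2) + nz a + nz (0 : F4) = 0 := by decide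
  rw [hB, hB]
  refine Finset.sum_congr rfl fun j _ => ?_
  rcases eq_or_ne j i with rfl | hj
  · simp only [Pi.single_eq_same]
  · simp only [Pi.single_eq_of_ne hj]
    exact (h0 _).trans (h0 0).symm

/-- The stabiliser of a vector in the group. -/
def K0stab (v : W) : Subgroup (Equiv.Perm W) := K0 ⊓ MulAction.stabilizer (Equiv.Perm W) v

theorem mem_K0stab {v : W} {g : Equiv.Perm W} : g ∈ K0stab v ↔ g ∈ K0 ∧ g v = v := Iff.rfl

theorem card_K0stab (hK : Nat.card K0 = 9797760) (v : W) (h : 2 ≤ lab v) :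
    Nat.card (K0stab v) = if lab v = 2 then 25920 else 5760 := by
  classical
  have horb : MulAction.orbit K0 v = {u | lab u = lab v} := by
    ext u
    refine ⟨fun ⟨g, e⟩ => e ▸ lab_K0 g.2 v, fun hu => ?_⟩
    obtain ⟨g, hg, e⟩ := exists_of_lab h hu
    exact ⟨⟨g, hg⟩, e⟩
  have hst : MulAction.stabilizer K0 v = (K0stab v).subgroupOf K0 := by
    ext g
    rw [MulAction.mem_stabilizer_iff, Subgroup.mem_subgroupOf, mem_K0stab]
    exact ⟨fun e => ⟨g.2, e⟩, fun e => e.2⟩
  have := MulAction.index_stabilizer K0 v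
  have h2 := (MulAction.stabilizer K0 v).card_mul_index
  rw [this, hK, horb] at h2
  rw [hst, Nat.card_congr (Subgroup.subgroupOfEquivOfLe (show K0stab v ≤ K0 from inf_le_left)).toEquiv] at h2
  have hn : Set.ncard {u : W | lab u = lab v} = if lab v = 2 then 378 else 1701 := by
    rw [Set.ncard_eq_toFinset_card']
    split
    · next e => rw [e, ← card_lab_two]; exact congrArg _ (Finset.ext fun _ => by simp)
    · next e =>
      rw [show lab v = 3 by have := (lab_cases v).2.1; omega, ← card_lab_three]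
      exact congrArg _ (Finset.ext fun _ => by simp)
  rw [hn] at h2
  split <;> rename_i e <;> simp only [e, if_true, if_false] at h2 <;> omega

variable {G : Type u} [Group G] {z : G}

/-- The model. -/
structure Model (z : G) (Q : Subgroup (Subgroup.centralizer ({z} : Set G))) where
  Φ : Subgroup.centralizer ({z} : Set G) → W
  ρ : Subgroup.centralizer ({z} : Set G) →* Equiv.Perm W
  map_mul : ∀ x ∈ Q, ∀ y ∈ Q, Φ (x * y) = Φ x + Φ y
  eq_zero : ∀ x ∈ Q, Φ x = 0 ↔ (x : G) = 1 ∨ (x : G) = z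
  surj : ∀ w, ∃ x ∈ Q, Φ x = w
  sq : ∀ x ∈ Q, x * x = 1 ↔ qf (Φ x) = 0
  comm : ∀ x ∈ Q, ∀ y ∈ Q, x * y = y * x ↔ Bf (Φ x) (Φ y) = 0
  conj : ∀ h, ∀ x ∈ Q, ρ h (Φ x) = Φ (h * x * h⁻¹)
  ker : ρ.ker = Q
  M : Subgroup (Subgroup.centralizer ({z} : Set G))
  index_M : M.index = 2
  Q_le : Q ≤ M
  map_M : M.map ρ = K0
  omega : ∃ ω ∈ M, ⇑(ρ ω) = wW
  scal : ∀ h, (∀ v, ρ h (wW v) = wW (ρ h v)) ∨ ∀ v, ρ h (wW v) = wW (wW (ρ h v))
  card_K0 : Nat.card K0 = 9797760

namespace Model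

variable {Q : Subgroup (Subgroup.centralizer ({z} : Set G))} (D : Model z Q)

theorem rho_add [hn : Q.Normal] (h : Subgroup.centralizer ({z} : Set G)) (u v : W) :
    D.ρ h (u + v) = D.ρ h u + D.ρ h v := by
  obtain ⟨x, hx, rfl⟩ := D.surj u
  obtain ⟨y, hy, rfl⟩ := D.surj v
  rw [← D.map_mul x hx y hy, D.conj h _ (mul_mem hx hy), D.conj h x hx, D.conj h y hy,
    ← D.map_mul _ (hn.conj_mem x hx h) _ (hn.conj_mem y hy h)]
  congr 1
  group

theorem rho_zero [Q.Normal] (h : Subgroup.centralizer ({z} : Set G)) : D.ρ h 0 = 0 := by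
  have := D.rho_add h 0 0
  rw [add_zero] at this
  exact left_eq_add.mp this

theorem rho_qf [hn : Q.Normal] (h : Subgroup.centralizer ({z} : Set G)) (v : W) :
    qf (D.ρ h v) = qf v := by
  obtain ⟨x, hx, rfl⟩ := D.surj v
  rw [D.conj h x hx]
  have key : qf (Φ D (h * x * h⁻¹)) = 0 ↔ qf (Φ D x) = 0 := by
    rw [← D.sq x hx, ← D.sq _ (hn.conj_mem x hx h)]
    constructor <;> intro e
    · rw [show h * x * h⁻¹ * (h * x * h⁻¹) = h * (x * x) * h⁻¹ by group] at e
      exact conj_eq_one_iff.1 e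
    · rw [show h * x * h⁻¹ * (h * x * h⁻¹) = h * (x * x) * h⁻¹ by group, e, mul_one, mul_inv_cancel]
  revert key
  generalize qf (Φ D (h * x * h⁻¹)) = a
  generalize qf (Φ D x) = b
  revert a b
  decide

theorem rho_mem (h : Subgroup.centralizer ({z} : Set G)) (hh : h ∈ D.M) : D.ρ h ∈ K0 :=
  D.map_M ▸ Subgroup.mem_map_of_mem _ hh

theorem exists_rho {g : Equiv.Perm W} (hg : g ∈ K0) : ∃ h ∈ D.M, D.ρ h = g :=
  Subgroup.mem_map.1 (D.map_M.symm ▸ hg)

theorem conj_K0 (h : Subgroup.centralizer ({z} : Set G)) {g : Equiv.Perm W} (hg : g ∈ K0) :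
    D.ρ h * g * (D.ρ h)⁻¹ ∈ K0 := by
  have := Subgroup.normal_of_index_eq_two D.index_M
  obtain ⟨m, hm, rfl⟩ := D.exists_rho hg
  rw [← map_inv, ← _root_.map_mul, ← _root_.map_mul]
  exact D.rho_mem _ (this.conj_mem m hm h)

theorem rho_lab [Q.Normal] (h : Subgroup.centralizer ({z} : Set G)) (v : W) :
    lab (D.ρ h v) = lab v := by
  have hinj : ∀ h, D.ρ h v = 0 ↔ v = 0 := fun h =>
    ⟨fun e => (D.ρ h).injective (e.trans (D.rho_zero h).symm), fun e => e ▸ D.rho_zero h⟩
  have key : ∀ (h : Subgroup.centralizer ({z} : Set G)) (u : W), lab u = 2 → lab (D.ρ h u) ≠ 3 := by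
    intro h u hu hu'
    have hsub : (Finset.univ.filter fun w : W => lab w = 3) ⊆
        (Finset.univ.filter fun w : W => lab w = 2).image (D.ρ h) := by
      intro w hw
      simp only [Finset.mem_filter, Finset.mem_univ, true_and] at hw
      obtain ⟨g, hg, e⟩ := exists_of_lab (v := D.ρ h u) (u := w) (by omega) (by omega)
      refine Finset.mem_image.2 ⟨(D.ρ h⁻¹ * g * (D.ρ h⁻¹)⁻¹) u, ?_, ?_⟩
      · simp only [Finset.mem_filter, Finset.mem_univ, true_and]
        rw [lab_K0 (D.conj_K0 h⁻¹ hg), hu]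
      · rw [← e, map_inv]; simp
    have := le_trans (Finset.card_le_card hsub) Finset.card_image_le
    rw [card_lab_two, card_lab_three] at this
    omega
  obtain ⟨hl0, hl3, hl2⟩ := lab_cases v
  obtain ⟨hl0', hl3', hl2'⟩ := lab_cases (D.ρ h v)
  rw [D.rho_qf, ne_eq, hinj] at hl2'
  have h2 : 2 ≤ lab (D.ρ h v) ↔ 2 ≤ lab v := hl2'.trans hl2.symm
  have h0 : lab (D.ρ h v) = 0 ↔ lab v = 0 := by rw [hl0', hl0, hinj]
  have hback : (D.ρ h⁻¹) (D.ρ h v) = v := by rw [map_inv]; simp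
  by_contra hne
  rcases (show (lab v = 2 ∧ lab (D.ρ h v) = 3) ∨ (lab v = 3 ∧ lab (D.ρ h v) = 2) by omega) with
    ⟨a, b⟩ | ⟨a, b⟩
  · exact key h v a b
  · exact key h⁻¹ _ b (hback.symm ▸ a)

/-- An involution of the normal subgroup other than `z` has nonzero singular image. -/
theorem lab_involution {x : Subgroup.centralizer ({z} : Set G)} (hx : x ∈ Q) (h2 : orderOf x = 2)
    (hne : (x : G) ≠ z) : 2 ≤ lab (D.Φ x) := by
  refine (lab_cases _).2.2.2 ⟨(D.sq x hx).1 ?_, fun e => ?_⟩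
  · rw [← pow_two, ← h2, pow_orderOf_eq_one]
  · rcases (D.eq_zero x hx).1 e with h | h
    · rw [show x = 1 from Subtype.ext h, orderOf_one] at h2; omega
    · exact hne h

theorem eq_or_mul {x y : Subgroup.centralizer ({z} : Set G)} (hx : x ∈ Q) (hy : y ∈ Q)
    (e : D.Φ x = D.Φ y) : (x : G) = y ∨ (x : G) = y * z := by
  have h1 : D.Φ (y⁻¹ * x) = 0 := by
    have := D.map_mul y hy (y⁻¹ * x) (mul_mem (inv_mem hy) hx)
    rw [mul_inv_cancel_left, e] at this
    exact left_eq_add.mp this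
  rcases (D.eq_zero _ (mul_mem (inv_mem hy) hx)).1 h1 with h | h
  · left
    rw [Subgroup.coe_mul, Subgroup.coe_inv, inv_mul_eq_one] at h
    exact h.symm
  · right
    rw [Subgroup.coe_mul, Subgroup.coe_inv, inv_mul_eq_iff_eq_mul] at h
    exact h

theorem exists_move {x : Subgroup.centralizer ({z} : Set G)} (hx : x ∈ Q) (h : D.Φ x ≠ 0) :
    ∃ y ∈ Q, x * y ≠ y * x := by
  by_contra hn
  push Not at hn
  refine h ?_
  have key : ∀ v : W, (∀ u, Bf v u = 0) → v = 0 := by
    intro v hv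
    funext i
    have hc : ∀ a : F4, (∀ b : F4, Bf (Pi.single i a) (Pi.single i b) = 0) → a = 0 := by
      revert i; decide +kernel
    by_contra hne
    obtain ⟨b, hb⟩ : ∃ b : F4, Bf (Pi.single i (v i)) (Pi.single i b) ≠ 0 := by
      by_contra hb; push Not at hb; exact hne (hc _ hb)
    refine hb ?_
    rw [← Bf_single]; exact hv _
  refine key _ fun u => ?_
  obtain ⟨y, hy, rfl⟩ := D.surj u
  exact (D.comm x hx y hy).1 (hn y hy)

end Model

end H16.Fi24
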