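import Cfsg.Prelude.Def_MonsterType
import Cfsg.Agent.S1265
import Cfsg.Agent.H6.Extraspecial
import Cfsg.Agent.H16.Fi24.Ident
import Cfsg.Agent.H16.Fi24.Model
import Cfsg.Agent.H81.U43.Bound

/-!
The model exists for a group of large Fischer type.
-/

set_option autoImplicit false
set_option maxRecDepth 100000

namespace H16.Fi24

open scoped Classical
open scoped commutatorElement
open Cfsg Subgroup

universe u

section Extra

variable {E : Type u} [Group E] [Finite E] (hE : IsExtraspecial 2 E) {c : E}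

/-- The centre as a two element group. -/
noncomputable def kap (x : E) : ZMod 2 := if x = 1 then 0 else 1

include hE in
theorem center_cases (hc : c ∈ center E) (hc1 : c ≠ 1) {x : E} (hx : x ∈ center E) : x = 1 ∨ x = c := by
  by_contra h
  push Not at h
  have h3 := Nat.card_le_card_of_injective
    (![⟨1, one_mem _⟩, ⟨c, hc⟩, ⟨x, hx⟩] : Fin 3 → center E) (by
      intro i j e
      have e' := congrArg Subtype.val e
      fin_cases i <;> fin_cases j <;> simp at e' ⊢
      · exact hc1 e'.symm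
      · exact h.1 e'.symm
      · exact hc1 e'
      · exact h.2 e'.symm
      · exact h.1 e'
      · exact h.2 e')
  rw [hE.2] at h3
  simp at h3

include hE in
theorem kap_mul (hc : c ∈ center E) (hc1 : c ≠ 1) {x y : E} (hx : x ∈ center E) (hy : y ∈ center E) :
    kap (x * y) = kap x + kap y := by
  have hcc : c * c = 1 := by
    rcases center_cases hE hc hc1 (mul_mem hc hc) with h | h
    · exact h
    · exact absurd (mul_eq_left.mp h) hc1
  rcases center_cases hE hc hc1 hx with rfl | rfl <;> rcases center_cases hE hc hc1 hy with rfl | rfl <;>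
    simp [kap, hc1, hcc, show (1 : ZMod 2) + 1 = 0 by decide]

omit [Finite E] in
theorem kap_eq_zero {x : E} : kap x = 0 ↔ x = 1 := by
  rw [kap]; split <;> simp [*]

include hE in
theorem sq_mem_center (x : E) : x * x ∈ center E := by
  have := Fact.mk Nat.prime_two
  have h := H6.extraspecial_pow_mem_center hE x
  rwa [pow_two] at h

include hE in
omit [Finite E] in
theorem swap_mem_center (x y : E) : y * x * (x * y)⁻¹ ∈ center E := by
  have h := H6.extraspecial_commutator_mem_center hE y x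
  rwa [commutatorElement_def, show y * x * y⁻¹ * x⁻¹ = y * x * (x * y)⁻¹ by group] at h

/-- The squaring form. -/
noncomputable def sqE (x : E) : ZMod 2 := kap (x * x)

/-- The commutator form. -/
noncomputable def cmE (x y : E) : ZMod 2 := kap (y * x * (x * y)⁻¹)

omit [Finite E] in
theorem cmE_eq_zero {x y : E} : cmE x y = 0 ↔ x * y = y * x := by
  rw [cmE, kap_eq_zero, mul_inv_eq_one]; exact eq_comm

include hE in
theorem sqE_mul (hc : c ∈ center E) (hc1 : c ≠ 1) (x y : E) :
    sqE (x * y) = sqE x + sqE y + cmE x y := by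
  have hd := swap_mem_center hE x y
  have e : x * y * (x * y) = x * x * (y * y) * (y * x * (x * y)⁻¹) := by
    calc x * y * (x * y) = x * (y * x * (x * y)⁻¹) * (x * y) * y := by group
      _ = x * ((x * y) * (y * x * (x * y)⁻¹)) * y := by
          rw [mul_assoc x, mem_center_iff.1 hd (x * y)]
      _ = x * x * y * ((y * x * (x * y)⁻¹) * y) := by group
      _ = x * x * y * (y * (y * x * (x * y)⁻¹)) := by rw [mem_center_iff.1 hd y]
      _ = _ := by group
  rw [sqE, sqE, sqE, cmE, e, kap_mul hE hc hc1 (mul_mem (sq_mem_center hE x) (sq_mem_center hE y)) hd,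
    kap_mul hE hc hc1 (sq_mem_center hE x) (sq_mem_center hE y)]

include hE in
theorem cmE_mul (hc : c ∈ center E) (hc1 : c ≠ 1) (x x' y : E) :
    cmE (x * x') y = cmE x y + cmE x' y := by
  have hd := swap_mem_center hE x' y
  rw [cmE, cmE, cmE, ← kap_mul hE hc hc1 (swap_mem_center hE x y) hd]
  congr 1
  calc y * (x * x') * (x * x' * y)⁻¹ = y * x * (x * y)⁻¹ * (x * (y * x' * (x' * y)⁻¹)) * x⁻¹ := by group
    _ = y * x * (x * y)⁻¹ * ((y * x' * (x' * y)⁻¹) * x) * x⁻¹ := by rw [mem_center_iff.1 hd x]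
    _ = _ := by group

omit [Finite E] in
theorem aut_mem_center (φ : MulAut E) {x : E} (hx : x ∈ center E) : φ x ∈ center E := by
  rw [mem_center_iff] at hx ⊢
  intro y
  obtain ⟨y, rfl⟩ := φ.surjective y
  rw [← _root_.map_mul, ← _root_.map_mul, hx y]

omit [Finite E] in
theorem kap_aut (φ : MulAut E) (x : E) : kap (φ x) = kap x := by
  rcases eq_or_ne x 1 with rfl | h
  · rw [_root_.map_one]
  · rw [kap, kap, if_neg, if_neg h]
    exact fun e => h (φ.injective (e.trans (_root_.map_one φ).symm))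

end Extra

theorem zmod_two_cases : ∀ a : ZMod 2, a = 0 ∨ a = 1 := by decide

theorem wW_moves : wW (bv 0) ≠ bv 0 := by decide

theorem zmod_three_cases : ∀ k : ZMod 3, k = 0 ∨ k = 1 ∨ k = 2 := by decide

theorem normal_of_conj {Γ : Type u} [Group Γ] {P : Type*} [Group P] (π : Γ →* P)
    (hπ : Function.Surjective π) (hP : commutator P = ⊤) {ω : Γ} (hω : orderOf ω = 3)
    (hker : π.ker = zpowers ω) (g : Γ) : g * ω = ω * g := by
  have hcases : ∀ g : Γ, g * ω * g⁻¹ = ω ∨ g * ω * g⁻¹ = ω⁻¹ := by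
    intro g
    have h : g * ω * g⁻¹ ∈ zpowers ω := hker ▸
      (MonoidHom.normal_ker π).conj_mem ω (hker.symm ▸ mem_zpowers ω) g
    obtain ⟨n, hn⟩ := h
    have h3 : ω ^ (3 : ℤ) = 1 := by
      rw [show (3 : ℤ) = ((3 : ℕ) : ℤ) from rfl, zpow_natCast, ← hω, pow_orderOf_eq_one]
    have hn' : ω ^ (n % 3) = g * ω * g⁻¹ := by
      rw [← hn]
      have e2 : ω ^ (n % 3 + 3 * (n / 3)) = ω ^ (n % 3) := by
        rw [zpow_add, zpow_mul, h3, one_zpow, mul_one]
      rw [← e2]
      exact congrArg (ω ^ ·) (Int.emod_add_mul_ediv n 3)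
    rcases (show n % 3 = 0 ∨ n % 3 = 1 ∨ n % 3 = 2 by omega) with e | e | e <;> rw [e] at hn'
    · rw [zpow_zero] at hn'
      have : ω = 1 := conj_eq_one_iff.1 hn'.symm
      rw [this, orderOf_one] at hω
      omega
    · exact Or.inl (by rw [← hn', zpow_one])
    · refine Or.inr (hn' ▸ ?_)
      rw [show (2 : ℤ) = 3 + (-1) by norm_num, zpow_add, h3, one_mul, zpow_neg_one]
  let C := centralizer ({ω} : Set Γ)
  have hcomm : commutator Γ ≤ C := by
    rw [_root_.commutator_def, commutator_le]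
    intro a _ b _
    refine mem_centralizer_singleton_iff.2 (mul_inv_eq_iff_eq_mul.1 ?_)
    rw [commutatorElement_def]
    have hi : ∀ {a : Γ}, a * ω * a⁻¹ = ω → a * ω⁻¹ * a⁻¹ = ω⁻¹ := fun {a} h => by
      rw [← conj_inv, h]
    have hi' : ∀ {a : Γ}, a * ω * a⁻¹ = ω⁻¹ → a * ω⁻¹ * a⁻¹ = ω := fun {a} h => by
      rw [← conj_inv, h, inv_inv]
    have hb : ∀ {a : Γ}, a * ω * a⁻¹ = ω → a⁻¹ * ω * a = ω := fun {a} h => by
      calc a⁻¹ * ω * a = a⁻¹ * (a * ω * a⁻¹) * a := by rw [h]
        _ = ω := by group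
    have hb' : ∀ {a : Γ}, a * ω * a⁻¹ = ω⁻¹ → a⁻¹ * ω * a = ω⁻¹ := fun {a} h => by
      calc a⁻¹ * ω * a = (a⁻¹ * ω⁻¹ * a)⁻¹ := by group
        _ = (a⁻¹ * (a * ω * a⁻¹) * a)⁻¹ := by rw [h]
        _ = ω⁻¹ := by group
    have e : a * b * a⁻¹ * b⁻¹ * ω * (a * b * a⁻¹ * b⁻¹)⁻¹ =
        a * (b * (a⁻¹ * (b⁻¹ * ω * b) * a) * b⁻¹) * a⁻¹ := by group
    rw [e]
    rcases hcases a with ha | ha <;> rcases hcases b with hb2 | hb2
    · rw [hb hb2, hb ha, hb2, ha]
    · rw [hb' hb2, show a⁻¹ * ω⁻¹ * a = (a⁻¹ * ω * a)⁻¹ by group, hb ha, hi' hb2, ha]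
    · rw [hb hb2, hb' ha, hi hb2, hi' ha]
    · rw [hb' hb2, show a⁻¹ * ω⁻¹ * a = (a⁻¹ * ω * a)⁻¹ by group, hb' ha, inv_inv, hb2, hi' ha]
  have hmap : C.map π = ⊤ := by
    rw [eq_top_iff, ← hP]
    refine le_trans (le_of_eq ?_) (map_mono hcomm)
    rw [map_commutator_eq, MonoidHom.range_eq_top.2 hπ, ← _root_.commutator_def]
  have hk : π.ker ≤ C := by
    rw [hker, zpowers_le]
    exact mem_centralizer_singleton_iff.2 rfl
  obtain ⟨s, hs, e⟩ := (hmap.symm ▸ mem_top (π g) : π g ∈ C.map π)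
  have h1 : s⁻¹ * g ∈ C := hk (by rw [MonoidHom.mem_ker, map_mul, map_inv, e, inv_mul_cancel])
  have := mul_mem hs h1
  rw [mul_inv_cancel_left] at this
  exact mem_centralizer_singleton_iff.1 this

variable {G : Type u} [Group G] [Finite G] {z : G} {Q : Subgroup (centralizer ({z} : Set G))}
  [Q.Normal]

theorem nonempty_model (hF : IsOfLargeFischerTypeAt z Q) : Nonempty (Model z Q) := by
  classical
  obtain ⟨⟨hz, hFit, hE, hcardQ, -⟩, N, M, hNn, hMn, hQN, hNM, hcardN, ⟨K, _, _, hK, ⟨ψ⟩⟩, hMi⟩ := hF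
  have := Fact.mk Nat.prime_two
  have hzH : z ∈ centralizer ({z} : Set G) := mem_centralizer_singleton_iff.2 rfl
  set zh : centralizer ({z} : Set G) := ⟨z, hzH⟩
  have hcen : ∀ h : centralizer ({z} : Set G), (∀ q ∈ Q, q * h = h * q) → h ∈ Q := by
    intro h hh
    have hS := Cfsg.Agent.S1265.result (G := centralizer ({z} : Set G))
    rw [hFit] at hS
    exact hS (mem_centralizer_iff.2 hh)
  have hzc : ∀ h : centralizer ({z} : Set G), h * zh = zh * h := fun h =>
    Subtype.ext (mem_centralizer_singleton_iff.1 h.2)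
  have hzQ : zh ∈ Q := hcen zh fun q _ => hzc q
  set c : Q := ⟨zh, hzQ⟩ with hcdef
  have hc : c ∈ center Q := mem_center_iff.2 fun q => Subtype.ext (hzc q.1)
  have hc1 : c ≠ 1 := fun h => by
    have : z = 1 := congrArg (fun x : Q => (x.1 : G)) h
    rw [this, orderOf_one] at hz; omega
  -- the space
  letI : IsMulCommutative (Q ⧸ center Q) :=
    Subgroup.Normal.quotient_commutative_iff_commutator_le.mpr hE.1.2.2.le
  letI iC : CommGroup (Q ⧸ center Q) := { (inferInstance : Group (Q ⧸ center Q)) with mul_comm := mul_comm' }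
  let V := Additive (Q ⧸ center Q)
  let mk : Q → V := fun x => Additive.ofMul (QuotientGroup.mk x)
  have mk_mul : ∀ x y : Q, mk (x * y) = mk x + mk y := fun x y => rfl
  have mk_surj : ∀ v : V, ∃ x, mk x = v := fun v => by
    obtain ⟨x, hx⟩ := QuotientGroup.mk_surjective (Additive.toMul v)
    exact ⟨x, congrArg Additive.ofMul hx⟩
  have mk_eq : ∀ {x y : Q}, mk x = mk y ↔ x⁻¹ * y ∈ center Q := fun {x y} => QuotientGroup.eq
  have mk_zero : ∀ {x : Q}, mk x = 0 ↔ x ∈ center Q := fun {x} => QuotientGroup.eq_one_iff x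
  have hV : Nat.card V = 4096 := by
    have h := (center Q).card_mul_index
    rw [hE.2, hcardQ, Subgroup.index_eq_card] at h
    show Nat.card (Q ⧸ center Q) = 4096
    omega
  choose sec hsec using mk_surj
  let q : V → ZMod 2 := fun v => sqE (sec v)
  let b : V → V → ZMod 2 := fun v w => cmE (sec v) (sec w)
  have hk0 : kap (1 : Q) = 0 := kap_eq_zero.2 rfl
  have sq_c : ∀ x d : Q, d ∈ center Q → sqE (x * d) = sqE x := by
    intro x d hd
    rw [sqE_mul hE hc hc1, cmE_eq_zero.2 (mem_center_iff.1 hd x), add_zero, add_eq_left, sqE,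
      kap_eq_zero]
    rcases center_cases hE hc hc1 hd with h | h
    · rw [h, one_mul]
    · rw [h]
      exact Subtype.ext (Subtype.ext (by
        have := pow_orderOf_eq_one z
        rw [hz, pow_two] at this
        exact this))
  have cm_c : ∀ x d y : Q, d ∈ center Q → cmE (x * d) y = cmE x y := by
    intro x d y hd
    rw [cmE_mul hE hc hc1, (cmE_eq_zero (x := d) (y := y)).2 (mem_center_iff.1 hd y).symm, add_zero]
  have cm_symm : ∀ x y : Q, cmE x y = cmE y x := by
    intro x y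
    rcases zmod_two_cases (cmE x y) with h | h <;> rcases zmod_two_cases (cmE y x) with h' | h' <;>
      rw [h, h']
    · exact absurd (cmE_eq_zero.2 (cmE_eq_zero.1 h).symm) (by rw [h']; exact one_ne_zero)
    · exact absurd (cmE_eq_zero.2 (cmE_eq_zero.1 h').symm) (by rw [h]; exact one_ne_zero)
  have q_mk : ∀ x, q (mk x) = sqE x := fun x => by
    have h := mk_eq.1 (hsec (mk x))
    have := sq_c (sec (mk x)) _ h
    rw [mul_inv_cancel_left] at this
    exact this.symm
  have b_mk : ∀ x y, b (mk x) (mk y) = cmE x y := fun x y => by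
    have h1 : ∀ x y, cmE (sec (mk x)) y = cmE x y := fun x y => by
      have := cm_c (sec (mk x)) _ y (mk_eq.1 (hsec (mk x)))
      rw [mul_inv_cancel_left] at this
      exact this.symm
    show cmE (sec (mk x)) (sec (mk y)) = _
    rw [h1, cm_symm, h1, cm_symm]
  -- conjugation
  let cj : centralizer ({z} : Set G) → V →+ V := fun h => AddMonoidHom.mk'
    (fun v => mk (MulAut.conjNormal h (sec v))) fun v w => by
      have key : mk (sec (v + w)) = mk (sec v * sec w) := by rw [hsec, mk_mul, hsec, hsec]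
      show mk (MulAut.conjNormal h (sec (v + w))) =
        mk (MulAut.conjNormal h (sec v)) + mk (MulAut.conjNormal h (sec w))
      rw [← mk_mul, ← _root_.map_mul, mk_eq, ← map_inv, ← _root_.map_mul]
      exact aut_mem_center _ (mk_eq.1 key)
  have cj_mk : ∀ h x, cj h (mk x) = mk (MulAut.conjNormal h x) := fun h x => by
    show mk (MulAut.conjNormal h (sec (mk x))) = _
    rw [mk_eq, ← map_inv, ← _root_.map_mul]
    exact aut_mem_center _ (mk_eq.1 (hsec (mk x)))
  have cj_mul : ∀ g h v, cj (g * h) v = cj g (cj h v) := fun g h v => by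
    rw [← hsec v, cj_mk, cj_mk, cj_mk, _root_.map_mul]; rfl
  have cj_Q : ∀ h ∈ Q, ∀ v, cj h v = v := by
    intro h hh v
    rw [← hsec v, cj_mk, mk_eq]
    have e : MulAut.conjNormal h (sec v) = (⟨h, hh⟩ : Q) * sec v * (⟨h, hh⟩ : Q)⁻¹ :=
      Subtype.ext rfl
    rw [e]
    rw [show ((⟨h, hh⟩ : Q) * sec v * (⟨h, hh⟩ : Q)⁻¹)⁻¹ * sec v = ⁅(⟨h, hh⟩ : Q), (sec v)⁻¹⁆ by
      rw [commutatorElement_def]; group]
    exact H6.extraspecial_commutator_mem_center hE _ _
  have cj_ker : ∀ h, (∀ v, cj h v = v) → h ∈ Q := by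
    intro h hh
    have hd : ∀ x : Q, MulAut.conjNormal h x * x⁻¹ ∈ center Q := fun x => by
      have := hh (mk x)
      rw [cj_mk, eq_comm, mk_eq] at this
      have h2 : MulAut.conjNormal h x * x⁻¹ = x * (x⁻¹ * MulAut.conjNormal h x) * x⁻¹ := by group
      rw [h2, mem_center_iff.1 this x, mul_inv_cancel_right]
      exact this
    let φ : Q →* center Q := MonoidHom.mk' (fun x => ⟨_, hd x⟩) fun x y => Subtype.ext (by
      show MulAut.conjNormal h (x * y) * (x * y)⁻¹ =
        MulAut.conjNormal h x * x⁻¹ * (MulAut.conjNormal h y * y⁻¹)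
      rw [_root_.map_mul, mul_inv_rev, mul_assoc, ← mul_assoc (MulAut.conjNormal h y),
        ← mem_center_iff.1 (hd y) x⁻¹, ← mul_assoc])
    obtain ⟨e, he⟩ := H6.extraspecial_exists_commutator_eq hE φ
    have key : (e.1⁻¹ * h) ∈ Q := by
      refine hcen _ fun x hx => ?_
      have h1 := congrArg Subtype.val (he ⟨x, hx⟩)
      simp only [φ, MonoidHom.mk'_apply, commutatorElement_def, Subgroup.coe_mul, Subgroup.coe_inv,
        MulAut.conjNormal_apply] at h1
      have h2 : h * x * h⁻¹ = e.1 * x * e.1⁻¹ := mul_right_cancel h1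
      calc x * (e.1⁻¹ * h) = e.1⁻¹ * (e.1 * x * e.1⁻¹) * h := by group
        _ = e.1⁻¹ * (h * x * h⁻¹) * h := by rw [h2]
        _ = e.1⁻¹ * h * x := by group
    simpa using mul_mem e.2 key
  -- the groups
  haveI := hMn
  haveI := hNn
  let Γ := M ⧸ Q.subgroupOf M
  let π : Γ →* PSU 4 K 3 := ψ.toMonoidHom.comp
    (QuotientGroup.map (Q.subgroupOf M) (N.subgroupOf M) (MonoidHom.id M) fun x hx => hQN hx)
  have hπs : Function.Surjective π := fun p => by
    obtain ⟨m, hm⟩ := QuotientGroup.mk_surjective (ψ.symm p)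
    exact ⟨QuotientGroup.mk m, by
      show ψ (QuotientGroup.mk m) = p
      rw [hm, ψ.apply_symm_apply]⟩
  have hker : Nat.card π.ker = 3 := by
    have hk : π.ker = (N.subgroupOf M).map (QuotientGroup.mk' (Q.subgroupOf M)) := by
      ext x
      obtain ⟨m, rfl⟩ := QuotientGroup.mk_surjective x
      rw [MonoidHom.mem_ker]
      show ψ (QuotientGroup.mk m) = 1 ↔ _
      rw [ψ.map_eq_one_iff, QuotientGroup.eq_one_iff]
      refine ⟨fun h => ⟨m, h, rfl⟩, ?_⟩
      rintro ⟨n, hn, e⟩
      have e' : n⁻¹ * m ∈ Q.subgroupOf M := QuotientGroup.eq.1 e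
      have := mul_mem hn (show n⁻¹ * m ∈ N.subgroupOf M from hQN e')
      rwa [mul_inv_cancel_left] at this
    have h1 := Subgroup.card_mul_index ((Q.subgroupOf M).subgroupOf (N.subgroupOf M))
    rw [hk, ← Subgroup.relIndex_bot_left]
    have h2 : Nat.card ((N.subgroupOf M).map (QuotientGroup.mk' (Q.subgroupOf M))) =
        ((Q.subgroupOf M).subgroupOf (N.subgroupOf M)).index := by
      have hf := Subgroup.index_ker ((QuotientGroup.mk' (Q.subgroupOf M)).comp (N.subgroupOf M).subtype)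
      rw [MonoidHom.range_comp, range_subtype] at hf
      rw [← hf]
      congr 1
      ext x
      simp [Subgroup.mem_subgroupOf]
    rw [Subgroup.relIndex_bot_left, h2]
    rw [Nat.card_congr (Subgroup.subgroupOfEquivOfLe (show Q.subgroupOf M ≤ N.subgroupOf M from
        fun x hx => hQN hx)).toEquiv, Nat.card_congr (Subgroup.subgroupOfEquivOfLe (hQN.trans hNM)).toEquiv,
      Nat.card_congr (Subgroup.subgroupOfEquivOfLe hNM).toEquiv, hcardN] at h1
    have : 0 < Nat.card Q := Nat.card_pos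
    nlinarith
  have := Fact.mk Nat.prime_three
  obtain ⟨ω, hωker⟩ := (isCyclic_of_prime_card (α := π.ker) (p := 3) hker).exists_generator
  have hωz : π.ker = zpowers ω.1 := by
    ext x
    refine ⟨fun hx => ?_, fun hx => zpowers_le.2 ω.2 hx⟩
    obtain ⟨n, hn⟩ := hωker ⟨x, hx⟩
    exact ⟨n, congrArg Subtype.val hn⟩
  have hω3 : orderOf ω.1 = 3 := by rw [← Nat.card_zpowers, ← hωz, hker]
  have hext : Ext3 π ω.1 := ⟨hπs, hω3, hωz,
    normal_of_conj π hπs (H81.U43.perfect_psu43 hK) hω3 hωz⟩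
  let ρ : Γ → V →+ V := fun g => cj (Quotient.out g : M).1
  have ρ_mk : ∀ (m : M) v, ρ (QuotientGroup.mk m) v = cj m.1 v := by
    intro m v
    obtain ⟨r, hr⟩ := QuotientGroup.mk_out_eq_mul (Q.subgroupOf M) m
    show cj (Quotient.out (QuotientGroup.mk m : Γ) : M).1 v = _
    rw [hr]
    show cj (m.1 * r.1.1) v = _
    rw [cj_mul, cj_Q r.1.1 r.2]
  have cj_one : ∀ v, cj 1 v = v := fun v => cj_Q 1 (one_mem _) v
  have hO : OrthAct π ω.1 ρ q b := by
    refine ⟨hext, fun v => ?_, hV, fun g h v => ?_, fun v => ?_, fun g hg => ?_, fun x y => ?_,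
      fun x x' y => ?_, fun g v => ?_, fun x hx => ?_⟩
    · obtain ⟨x, rfl⟩ : ∃ x, mk x = v := ⟨_, hsec v⟩
      rw [← mk_mul, mk_zero]; exact sq_mem_center hE x
    · obtain ⟨a, rfl⟩ := QuotientGroup.mk_surjective g
      obtain ⟨b, rfl⟩ := QuotientGroup.mk_surjective h
      rw [← QuotientGroup.mk_mul, ρ_mk, ρ_mk, ρ_mk]; exact cj_mul _ _ v
    · rw [← QuotientGroup.mk_one, ρ_mk]; exact cj_one v
    · obtain ⟨a, rfl⟩ := QuotientGroup.mk_surjective g
      exact (QuotientGroup.eq_one_iff a).2 (cj_ker a.1 fun v => ρ_mk a v ▸ hg v)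
    · rw [← hsec x, ← hsec y, ← mk_mul, q_mk, q_mk, q_mk, b_mk]
      exact sqE_mul hE hc hc1 _ _
    · rw [← hsec x, ← hsec x', ← hsec y, ← mk_mul, b_mk, b_mk, b_mk]
      exact cmE_mul hE hc hc1 _ _ _
    · obtain ⟨a, rfl⟩ := QuotientGroup.mk_surjective g
      rw [ρ_mk, ← hsec v, cj_mk, q_mk, q_mk, sqE, sqE, ← _root_.map_mul, kap_aut]
    · rw [← hsec x, mk_zero, mem_center_iff]
      intro y
      have := hx (mk y)
      rw [← hsec x, b_mk, cmE_eq_zero] at this
      exact this.symm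
  obtain ⟨C⟩ := exists_cert hK
  obtain ⟨e, θ, hθe, heq, hθr, hθi, hθω⟩ := exists_ident hO C
  let Φ : centralizer ({z} : Set G) → W := fun x => if h : x ∈ Q then e.symm (mk ⟨x, h⟩) else 0
  have hΦ : ∀ x (h : x ∈ Q), Φ x = e.symm (mk ⟨x, h⟩) := fun x h => dif_pos h
  let T : centralizer ({z} : Set G) → Equiv.Perm W := fun h =>
    { toFun := fun a => e.symm (cj h (e a))
      invFun := fun a => e.symm (cj h⁻¹ (e a))
      left_inv := fun a => by
        show e.symm (cj h⁻¹ (e (e.symm (cj h (e a))))) = a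
        rw [e.apply_symm_apply, ← cj_mul, inv_mul_cancel, cj_one, e.symm_apply_apply]
      right_inv := fun a => by
        show e.symm (cj h (e (e.symm (cj h⁻¹ (e a))))) = a
        rw [e.apply_symm_apply, ← cj_mul, mul_inv_cancel, cj_one, e.symm_apply_apply] }
  let ρH : centralizer ({z} : Set G) →* Equiv.Perm W := MonoidHom.mk' T fun g h => Equiv.ext fun a => by
    show e.symm (cj (g * h) (e a)) = e.symm (cj g (e (e.symm (cj h (e a)))))
    rw [e.apply_symm_apply, cj_mul]
  have hρM : ∀ m : M, ρH m.1 = θ (QuotientGroup.mk m) := fun m => Equiv.ext fun a => by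
    show e.symm (cj m.1 (e a)) = _
    rw [← ρ_mk, hθe, e.symm_apply_apply]
  have hmapM : M.map ρH = K0 := by
    rw [← hθr]
    ext g
    constructor
    · rintro ⟨m, hm, rfl⟩; exact ⟨_, (hρM ⟨m, hm⟩).symm⟩
    · rintro ⟨γ, rfl⟩
      obtain ⟨m, rfl⟩ := QuotientGroup.mk_surjective γ
      exact ⟨m.1, m.2, hρM m⟩
  obtain ⟨w, hw⟩ := QuotientGroup.mk_surjective ω.1
  have hwW : ⇑(ρH w.1) = wW := by rw [hρM, hw]; exact hθω
  refine ⟨{ Φ := Φ, ρ := ρH, M := M, index_M := hMi, Q_le := hQN.trans hNM, map_M := hmapM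
            omega := ⟨w.1, w.2, hwW⟩
            map_mul := ?_, eq_zero := ?_, surj := ?_, sq := ?_, comm := ?_, conj := ?_, ker := ?_
            scal := ?_, card_K0 := ?_ }⟩
  · intro x hx y hy
    rw [hΦ x hx, hΦ y hy, hΦ _ (mul_mem hx hy), ← map_add, ← mk_mul]
    rfl
  · intro x hx
    rw [hΦ x hx, e.symm.map_eq_zero_iff, mk_zero]
    refine ⟨fun h => ?_, fun h => ?_⟩
    · rcases center_cases hE hc hc1 h with h | h
      · exact Or.inl (congrArg (fun x : Q => (x.1 : G)) h)
      · exact Or.inr (congrArg (fun x : Q => (x.1 : G)) h)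
    · rcases h with h | h
      · rw [show (⟨x, hx⟩ : Q) = 1 from Subtype.ext (Subtype.ext h)]; exact one_mem _
      · rw [show (⟨x, hx⟩ : Q) = c from Subtype.ext (Subtype.ext h)]; exact hc
  · intro v
    refine ⟨(sec (e v)).1, (sec (e v)).2, ?_⟩
    rw [hΦ _ (sec (e v)).2, Subtype.coe_eta, hsec, e.symm_apply_apply]
  · intro x hx
    rw [hΦ x hx, ← heq, e.apply_symm_apply, q_mk, sqE, kap_eq_zero]
    exact ⟨fun h => Subtype.ext h, fun h => congrArg Subtype.val h⟩
  · intro x hx y hy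
    have hb : ∀ u v : W, Bf u v = b (e u) (e v) := fun u v => by
      rw [Bf, ← heq, ← heq, ← heq, map_add, hO.polar]
      generalize q (e u) = a
      generalize q (e v) = a'
      generalize b (e u) (e v) = a''
      revert a a' a''
      decide
    rw [hΦ x hx, hΦ y hy, hb, e.apply_symm_apply, e.apply_symm_apply, b_mk, cmE_eq_zero]
    exact ⟨fun h => Subtype.ext h, fun h => congrArg Subtype.val h⟩
  · intro h x hx
    have hx' : h * x * h⁻¹ ∈ Q := Subgroup.Normal.conj_mem inferInstance x hx h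
    rw [hΦ x hx, hΦ _ hx']
    show e.symm (cj h (e (e.symm (mk ⟨x, hx⟩)))) = _
    rw [e.apply_symm_apply, cj_mk]
    rfl
  · ext h
    rw [MonoidHom.mem_ker]
    refine ⟨fun he => cj_ker h fun v => ?_, fun hh => Equiv.ext fun a => ?_⟩
    · have := congrArg (fun g : Equiv.Perm W => g (e.symm v)) he
      simp only [Equiv.Perm.one_apply] at this
      change e.symm (cj h (e (e.symm v))) = e.symm v at this
      rw [e.apply_symm_apply] at this
      exact e.symm.injective this
    · show e.symm (cj h (e a)) = a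
      rw [cj_Q h hh, e.symm_apply_apply]
  · intro h
    have hwN : (w : M).1 ∈ N := by
      have h1 : π (QuotientGroup.mk w) = 1 := by rw [hw]; exact ω.2
      have h2 : ψ (QuotientGroup.mk w) = 1 := h1
      rw [ψ.map_eq_one_iff, QuotientGroup.eq_one_iff] at h2
      exact h2
    have hc1' : h * w.1 * h⁻¹ ∈ N := hNn.conj_mem _ hwN h
    have h2 : π (QuotientGroup.mk ⟨h * w.1 * h⁻¹, hNM hc1'⟩) = 1 := by
      show ψ (QuotientGroup.mk (⟨h * w.1 * h⁻¹, hNM hc1'⟩ : M)) = 1
      rw [ψ.map_eq_one_iff, QuotientGroup.eq_one_iff]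
      exact hc1'
    obtain ⟨k, hk⟩ := hext.exists_wp (h := 1) (by rw [h2, map_one])
    rw [one_mul] at hk
    have e1 : ρH (h * w.1 * h⁻¹) = θ (wp ω.1 k) := by rw [← hk, ← hρM]
    have hconj : ρH (h * w.1 * h⁻¹) * ρH h = ρH h * ρH w.1 := by
      rw [← _root_.map_mul, ← _root_.map_mul, inv_mul_cancel_right]
    rw [e1] at hconj
    have hpow : ∀ (n : ℕ) v, (θ (ω.1 ^ n)) v = wW^[n] v := by
      intro n
      induction n with
      | zero => intro v; rw [pow_zero, map_one]; rfl
      | succ n ih =>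
        intro v
        rw [pow_succ', _root_.map_mul, Equiv.Perm.mul_apply, hθω, ih, Function.iterate_succ_apply']
    have key : ∀ v, wW^[k.val] (ρH h v) = ρH h (wW v) := fun v => by
      have := congrArg (fun g : Equiv.Perm W => g v) hconj
      simp only [Equiv.Perm.mul_apply, wp, hpow, hwW] at this
      exact this
    rcases zmod_three_cases k with rfl | rfl | rfl
    · exfalso
      have h0 : ∀ v, wW v = v := fun v => (ρH h).injective (key v).symm
      exact wW_moves (h0 _)
    · exact Or.inl fun v => by rw [← key]; simp [ZMod.val_one]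
    · exact Or.inr fun v => by rw [← key]; rfl
  · rw [← hθr, ← Nat.card_congr (MonoidHom.ofInjective hθi).toEquiv]
    have h1 := Subgroup.card_mul_index π.ker
    rw [hker, Subgroup.index_ker, MonoidHom.range_eq_top.2 hπs, Subgroup.card_top,
      H81.U43.card_PSU43 hK] at h1
    omega

end H16.Fi24
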