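import Cfsg.Agent.H16.Fi24.Base
import Cfsg.Agent.H16.Fi24.Eigen
import Cfsg.Agent.H16.Fi24.Cert

/-!
Six mutually orthogonal lines permuted by the symmetries: coordinates in which the abelian group is
diagonal.
-/

set_option autoImplicit false
set_option maxRecDepth 100000

namespace H16.Fi24

open Finset

universe u

theorem lineOf_rep : ∀ c : Pv, c ≠ 0 →
    isRep (lineOf c, 0) = true ∧ (lineOf c = c ∨ lineOf c = -c) := by decide +kernel

theorem dot_zero (c : Pv) : dot c 0 = 0 := by simp [dot]

theorem dot_single (c : Pv) (i : Fin 4) : dot c (Pi.single i 1) = c i := by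
  fin_cases i <;> simp [dot]

theorem dot_pull {A : Pv → Pv} (hA : ∀ p q, A (p + q) = A p + A q) (c p : Pv) :
    dot (pull A c) p = dot c (A p) := by
  let f : Pv →+ ZMod 3 := AddMonoidHom.mk' (fun p => dot (pull A c) p) (dot_add _)
  let g : Pv →+ ZMod 3 := AddMonoidHom.mk' (fun p => dot c (A p)) fun p q => by rw [hA, dot_add]
  have hsum : ∀ p : Pv, p = (p 0).val • (Pi.single 0 1 : Pv) + (p 1).val • Pi.single 1 1 +
      (p 2).val • Pi.single 2 1 + (p 3).val • Pi.single 3 1 := by decide +kernel
  have e : ∀ i, f (Pi.single i 1) = g (Pi.single i 1) := fun i => by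
    show dot (pull A c) (Pi.single i 1) = dot c (A (Pi.single i 1))
    rw [dot_single]; rfl
  show f p = g p
  rw [hsum p]
  simp only [map_add, map_nsmul, e]

/-- No character has a small orbit. -/
def Reach (A B : Pv → Pv) : Prop := ∀ c : Pv, c ≠ 0 → 7 ≤ (reach A B c).length

/-- Members of the lists of lines. -/
theorem reach_mem {A B : Pv → Pv} {c : Pv} {P Q : Pv → Prop} (hc : Q c) (hA : ∀ d, Q d → Q (pull A d))
    (hB : ∀ d, Q d → Q (pull B d)) (hl : ∀ d, Q d → P (lineOf d)) :
    ∀ d ∈ reach A B c, P d := by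
  intro d hd
  simp only [reach, List.mem_dedup] at hd
  obtain ⟨e, he, rfl⟩ := List.mem_map.1 hd
  refine hl e ?_
  have step : ∀ s : List Pv, (∀ x ∈ s, Q x) → ∀ x ∈ s.map (pull A) ++ s.map (pull B), Q x := by
    intro s hs x hx
    rcases List.mem_append.1 hx with h | h <;> obtain ⟨y, hy, rfl⟩ := List.mem_map.1 h
    exacts [hA _ (hs y hy), hB _ (hs y hy)]
  have h0 : ∀ x ∈ [c], Q x := fun x hx => by rw [List.mem_singleton.1 hx]; exact hc
  rcases List.mem_append.1 he with he | he
  · rcases List.mem_append.1 he with he | he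
    · rcases List.mem_append.1 he with he | he
      · exact h0 e he
      · exact step _ h0 e he
    · exact step _ (step _ h0) e he
  · exact step _ (step _ (step _ h0)) e he

variable {V : Type u} [AddCommGroup V]

/-- A symmetry of the action. -/
structure Sym (act : P5 → V →+ V) (A : Pv → Pv) where
  g : V →+ V
  g5 : ∀ v, g (g (g (g (g v)))) = v
  l : Pv
  A_add : ∀ p q, A (p + q) = A p + A q
  conj : ∀ p s v, g (act (p, s) v) = act (A p, s + dot l p) (g v)

/-- A character occurs. -/
def Supp (act : P5 → V →+ V) (χ : P5) : Prop := ∃ v, proj act χ v ≠ 0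

variable {act : P5 → V →+ V}

namespace Sym

variable {A : Pv → Pv} (X : Sym act A)

/-- The action on the parameters. -/
def α (a : P5) : P5 := (A a.1, a.2 + dot X.l a.1)

/-- The action on the characters. -/
def pb (χ : P5) : P5 := (pull A χ.1 + fun i => χ.2 * X.l i, χ.2)

theorem dt_pb (χ a : P5) : dt (X.pb χ) a = dt χ (X.α a) := by
  simp only [dt, pb, α, dot_add_left, dot_pull X.A_add]
  have : dot (fun i => χ.2 * X.l i) a.1 = χ.2 * dot X.l a.1 := by simp only [dot]; ring
  rw [this]; ring

theorem conj' (a : P5) (v : V) : X.g (act a v) = act (X.α a) (X.g v) := X.conj a.1 a.2 v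

theorem g_inj : Function.Injective X.g := fun a b h => by
  rw [← X.g5 a, ← X.g5 b, h]

theorem g_surj : Function.Surjective X.g := fun v => ⟨_, X.g5 v⟩

theorem A_zero (X : Sym act A) : A 0 = 0 := by
  have h := X.A_add 0 0
  rw [add_zero] at h
  exact left_eq_add.mp h

theorem g_scalar (s : ZMod 3) (v : V) : X.g (act (0, s) v) = act (0, s) (X.g v) := by
  rw [X.conj, X.A_zero, dot_zero, add_zero]

variable (H : IsAct act) (hf : ∀ a, (∀ v, act a v = v) → a = 0)
include H hf

omit X in
theorem act_inj {a b : P5} (h : ∀ v, act a v = act b v) : a = b := by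
  refine sub_eq_zero.1 (hf _ fun v => ?_)
  rw [sub_eq_add_neg, add_comm, H.add, h, ← H.add, neg_add_cancel, H.zero]

theorem α_bij : Function.Bijective X.α := by
  refine Finite.injective_iff_bijective.1 fun a b h => act_inj H hf fun v => ?_
  exact X.g_inj (by rw [X.conj', X.conj', h])

theorem pb_inj : Function.Injective X.pb := fun χ χ' h => by
  refine sub_eq_zero.1 (eq_zero_of_dt fun a => ?_)
  obtain ⟨b, rfl⟩ := (X.α_bij H hf).2 a
  have e : dt (χ - χ') (X.α b) = dt χ (X.α b) + dt (-χ') (X.α b) := by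
    simp only [dt, sub_eq_add_neg, Prod.fst_add, Prod.snd_add, dot_add_left]; ring
  rw [e, dt_neg, ← X.dt_pb, ← X.dt_pb, h, add_neg_cancel]

theorem pb_five (χ : P5) : X.pb^[5] χ = χ := by
  refine sub_eq_zero.1 (eq_zero_of_dt fun a => ?_)
  have hα : X.α^[5] a = a := by
    refine act_inj H hf fun v => ?_
    simp only [Function.iterate_succ, Function.iterate_zero, Function.comp_apply, id]
    conv_lhs => rw [← X.g5 v]
    rw [← X.conj', ← X.conj', ← X.conj', ← X.conj', ← X.conj', X.g5]
  have e : dt (X.pb^[5] χ - χ) a = dt (X.pb^[5] χ) a + dt (-χ) a := by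
    simp only [dt, sub_eq_add_neg, Prod.fst_add, Prod.snd_add, dot_add_left]; ring
  have e2 : dt (X.pb^[5] χ) a = dt χ (X.α^[5] a) := by
    simp only [Function.iterate_succ, Function.iterate_zero, Function.comp_apply, id, X.dt_pb]
  rw [e, e2, hα, dt_neg, add_neg_cancel]

theorem supp_pb {χ : P5} (h : Supp act χ) : Supp act (X.pb χ) := by
  obtain ⟨v, hv⟩ := h
  obtain ⟨w, rfl⟩ := X.g_surj v
  refine ⟨w, fun h0 => hv ?_⟩
  rw [← proj_transport (X.α_bij H hf) (X.dt_pb χ) X.conj', h0, map_zero]

end Sym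

theorem supp_neg {χ : P5} : Supp act (-χ) ↔ Supp act χ := by simp only [Supp, proj_neg]

variable [Finite V] (H : IsAct act)
include H

theorem moved {χ : P5} {u : V} (hu : proj act χ u = u) (hu0 : u ≠ 0) {a : P5} (ha : dt χ a ≠ 0) :
    act a u ≠ u := by
  intro e
  refine hu0 ?_
  have hall : ∀ b, act b u = u := by
    intro b
    have hn : ∀ n : ℕ, act (n • a) u = u := by
      intro n
      induction n with
      | zero => rw [zero_nsmul, H.zero]
      | succ n ih => rw [succ_nsmul, H.add, e, ih]
    obtain ⟨k, n, hk, rfl⟩ : ∃ k, ∃ n : ℕ, dt χ k = 0 ∧ b = k + n • a := by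
      refine ⟨b - (dt χ b * dt χ a).val • a, _, ?_, (sub_add_cancel b _).symm⟩
      have e' := dt_add χ (b - (dt χ b * dt χ a).val • a) ((dt χ b * dt χ a).val • a)
      rw [sub_add_cancel, dt_nsmul, ZMod.natCast_zmod_val] at e'
      revert e' ha
      generalize dt χ (b - (dt χ b * dt χ a).val • a) = x
      generalize dt χ b = t
      generalize dt χ a = z
      revert x t z
      decide
    rw [H.add, hn, ← hu, act_proj H hk]
  rw [← pA_fixed H hall, ← hu, pA_proj H]

theorem card_range_ge {χ : P5} (hχ : χ ≠ 0) (h : Supp act χ) :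
    4 ≤ Nat.card (proj act χ).range := by
  obtain ⟨v, hv⟩ := h
  obtain ⟨a, ha⟩ := dt_one hχ
  set u := proj act χ v with hu
  have hfix : proj act χ u = u := proj_proj H χ v
  have hm : ∀ b, dt χ b ≠ 0 → act b u ≠ u := fun b hb => moved H hfix hv hb
  have hmem : ∀ b, act b u ∈ (proj act χ).range := fun b => ⟨act b v, by rw [hu, act_proj_comm H]⟩
  have hne : ∀ b, act b u ≠ 0 := fun b e => hv (by
    have := congrArg (act (-b)) e
    rwa [← H.add, neg_add_cancel, H.zero, map_zero] at this)
  let f : Fin 4 → (proj act χ).range :=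
    ![0, ⟨u, v, hu.symm⟩, ⟨_, hmem a⟩, ⟨_, hmem (a + a)⟩]
  have d1 : dt χ (a + a) ≠ 0 := by rw [dt_add, ha]; decide
  have d0 : dt χ a ≠ 0 := by rw [ha]; decide
  have h23 : act (a + a) u ≠ act a u := fun e => hm a d0 (by
    have := congrArg (act (-a)) e
    rwa [← H.add, ← H.add, neg_add_cancel, neg_add_cancel_left, H.zero] at this)
  have hinj : Function.Injective f := by
    intro i j e
    have e' := congrArg Subtype.val e
    fin_cases i <;> fin_cases j <;> simp only [f, Matrix.cons_val_zero, Matrix.cons_val_one,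
      Matrix.cons_val, Fin.isValue, AddSubgroup.coe_zero, Fin.zero_eta, Fin.mk_one,
      Fin.reduceFinMk] at e' ⊢ <;>
      first
      | rfl
      | exact absurd e'.symm hv
      | exact absurd e' hv
      | exact absurd e'.symm (hne _)
      | exact absurd e' (hne _)
      | exact absurd e' (hm _ d0)
      | exact absurd e'.symm (hm _ d0)
      | exact absurd e' (hm _ d1)
      | exact absurd e'.symm (hm _ d1)
      | exact absurd e' h23
      | exact absurd e'.symm h23
  simpa using Nat.card_le_card_of_injective f hinj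

variable (hV : Nat.card V = 4096)
include hV

theorem supp_bound (T : Finset P5) (hT : T ⊆ reps) (hTs : ∀ χ ∈ T, Supp act χ) :
    T.card ≤ 6 ∧ (T.card = 6 → (∀ χ ∈ T, Nat.card (proj act χ).range = 4) ∧
      ∀ v, pA act v = 0) := by
  classical
  let f : ((χ : T) → (proj act χ.1).range) × (pA act).range → V :=
    fun x => (∑ χ : T, (x.1 χ : V)) + x.2
  have hfix : ∀ (χ : T) (y : (proj act χ.1).range), proj act χ.1 y = y := by
    rintro χ ⟨-, v, rfl⟩; exact proj_proj H _ _
  have hproj : ∀ (x) (χ : T), proj act χ.1 (f x) = x.1 χ := by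
    intro x χ
    obtain ⟨w, hw⟩ := x.2.2
    simp only [f, map_add, map_sum, ← hw, proj_pA H, add_zero]
    rw [Finset.sum_eq_single χ]
    · exact hfix χ _
    · intro χ' _ hne
      rw [← hfix χ' (x.1 χ')]
      exact proj_other H (hT χ.2) (hT χ'.2) (fun e => hne (Subtype.ext e.symm)) _
    · simp
  have hinj : Function.Injective f := by
    intro x y e
    have e1 : x.1 = y.1 := funext fun χ => Subtype.ext (by rw [← hproj x χ, e, hproj y χ])
    refine Prod.ext e1 (Subtype.ext ?_)
    simp only [f, e1, add_right_inj] at e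
    exact e
  have hle := Nat.card_le_card_of_injective f hinj
  rw [Nat.card_prod, Nat.card_pi, hV] at hle
  have h4 : ∀ χ : T, 4 ≤ Nat.card (proj act χ.1).range :=
    fun χ => card_range_ge H (rep_ne_zero (hT χ.2)) (hTs _ χ.2)
  have hp : 4 ^ T.card ≤ ∏ χ : T, Nat.card (proj act χ.1).range := by
    have := Finset.pow_card_le_prod (univ : Finset T) _ 4 fun χ _ => h4 χ
    simpa using this
  have hA : 1 ≤ Nat.card (pA act).range := Nat.card_pos
  have h6 : T.card ≤ 6 := by
    by_contra hn
    have : 4 ^ 7 ≤ 4 ^ T.card := Nat.pow_le_pow_right (by norm_num) (by omega)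
    have h1 := le_trans (Nat.le_mul_of_pos_right _ hA) hle
    have h2 := le_trans (le_trans this hp) h1
    norm_num at h2
  refine ⟨h6, fun he => ?_⟩
  rw [he] at hp
  have hprod : ∏ χ : T, Nat.card (proj act χ.1).range = 4096 :=
    le_antisymm (le_trans (Nat.le_mul_of_pos_right _ hA) hle) (le_trans (by norm_num) hp)
  refine ⟨fun χ hχ => ?_, fun v => ?_⟩
  · by_contra hne
    have hlt : ∏ _χ : T, 4 < ∏ χ : T, Nat.card (proj act χ.1).range :=
      prod_lt_prod (fun _ _ => by norm_num) (fun χ _ => h4 χ)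
        ⟨⟨χ, hχ⟩, mem_univ _, lt_of_le_of_ne (h4 ⟨χ, hχ⟩) (fun e => hne e.symm)⟩
    rw [hprod, prod_const, card_univ, Fintype.card_coe, he] at hlt
    norm_num at hlt
  · have h1 : Nat.card (pA act).range ≤ 1 := by
      rw [hprod] at hle; omega
    have := (Finite.card_le_one_iff_subsingleton.1 h1).elim ⟨pA act v, v, rfl⟩ 0
    exact congrArg Subtype.val this

variable {A B : Pv → Pv} (X : Sym act A) (Y : Sym act B) (hf : ∀ a, (∀ v, act a v = v) → a = 0)
  (hR : Reach A B)
include X Y hf hR

theorem not_linear {c : Pv} (hc : c ≠ 0) : ¬ Supp act (c, 0) := by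
  intro h
  classical
  have hA : ∀ d, Supp act (d, 0) → Supp act (pull A d, 0) := fun d hd => by
    have := X.supp_pb H hf hd
    have e : X.pb (d, 0) = (pull A d, 0) :=
      Prod.ext (funext fun i => by simp [Sym.pb]) rfl
    rwa [e] at this
  have hB : ∀ d, Supp act (d, 0) → Supp act (pull B d, 0) := fun d hd => by
    have := Y.supp_pb H hf hd
    have e : Y.pb (d, 0) = (pull B d, 0) :=
      Prod.ext (funext fun i => by simp [Sym.pb]) rfl
    rwa [e] at this
  have hnz : ∀ d, Supp act (d, 0) → d ≠ 0 := by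
    rintro d ⟨v, hv⟩ rfl
    refine hv ?_
    have : kr ((0, 0) : P5) = univ := by
      ext a; simp [mem_kr, dt, dot]
    rw [proj, pK, this]
    show pA act v + pA act v = 0
    exact H.two _
  have hline : ∀ d, Supp act (d, 0) → Supp act (lineOf d, 0) ∧ ((lineOf d, 0) : P5) ∈ reps := by
    intro d hd
    refine ⟨?_, mem_reps.2 (lineOf_rep d (hnz d hd)).1⟩
    rcases (lineOf_rep d (hnz d hd)).2 with e | e
    · rwa [e]
    · rw [e]
      have : ((-d, 0) : P5) = -(d, 0) := Prod.ext rfl neg_zero.symm
      rw [this]; exact supp_neg.2 hd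
  set T := ((reach A B c).map fun d => ((d, 0) : P5)).toFinset
  have hmem : ∀ χ ∈ T, Supp act χ ∧ χ ∈ reps := by
    intro χ hχ
    simp only [T, List.mem_toFinset, List.mem_map] at hχ
    obtain ⟨d, hd, rfl⟩ := hχ
    exact reach_mem (P := fun d => Supp act (d, 0) ∧ ((d, 0) : P5) ∈ reps)
      (Q := fun d => Supp act (d, 0)) h hA hB hline d hd
  have h6 := (supp_bound H hV T (fun χ hχ => (hmem χ hχ).2) fun χ hχ => (hmem χ hχ).1).1
  have hT : T.card = (reach A B c).length := by
    have hnd : (reach A B c).Nodup := List.nodup_dedup _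
    have hinj : Function.Injective fun d : Pv => ((d, 0) : P5) := fun a b e => congrArg Prod.fst e
    simp only [T]
    rw [List.toFinset_card_of_nodup (hnd.map hinj), List.length_map]
  have := hR c hc
  omega

end H16.Fi24
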