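import Cfsg.Agent.H16.Fi24.U6Ctx

/-!
Vectors orthogonal to the line of the four-group, and an element exchanging its generators.
-/

set_option autoImplicit false
set_option maxRecDepth 100000
set_option linter.unusedSectionVars false

namespace H16.Fi24

open Cfsg

universe u

/-- Generators of the vectors orthogonal to the line. -/
def perpGens : List W :=
  ((List.finRange 4).flatMap fun i : Fin 4 => [Pi.single (⟨i.val + 2, by omega⟩ : Fin 6) ((1, 0) : F4),
    Pi.single (⟨i.val + 2, by omega⟩ : Fin 6) ((0, 1) : F4)]) ++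
  [(Pi.single (M := fun _ : Fin 6 => F4) 0 (1, 0) : W) + (Pi.single (M := fun _ : Fin 6 => F4) 1 (1, 0) : W),
    (Pi.single (M := fun _ : Fin 6 => F4) 0 (0, 1) : W) + (Pi.single (M := fun _ : Fin 6 => F4) 1 (0, 1) : W)]

theorem perpGens_facts :
    (∀ p ∈ perpGens, Bf p v2 = 0 ∧ Bf p (wW v2) = 0) ∧
      Bf (Pi.single 0 (0, 1)) v2 = 1 ∧ Bf (Pi.single 0 (0, 1)) (wW v2) = 0 ∧
      Bf (Pi.single 0 (1, 0)) v2 = 0 ∧ Bf (Pi.single 0 (1, 0)) (wW v2) = 1 := by decide +kernel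

theorem perp_check : ∀ y : W, (!(perpGens.all fun p => decide (Bf y p = 0)) ||
    (decide (Bf y v2 = 0) && decide (Bf y (wW v2) = 0) && decide (qf y = 0) &&
      (!decide (Bf y (Pi.single 0 (1, 0)) = 0) || (decide (y = 0) || decide (y = v2))))) = true :=
  forall_W (by decide +kernel)

/-- The orthogonal complement of the orthogonal complement of the line. -/
theorem perp_perp (y : W) (h : ∀ p ∈ perpGens, Bf y p = 0) :
    Bf y v2 = 0 ∧ Bf y (wW v2) = 0 ∧ qf y = 0 ∧ (Bf y (Pi.single 0 (1, 0)) = 0 → y = 0 ∨ y = v2) := by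
  have h1 := perp_check y
  have h2 : (perpGens.all fun p => decide (Bf y p = 0)) = true :=
    List.all_eq_true.2 fun p hp => decide_eq_true (h p hp)
  rw [h2] at h1
  simp only [Bool.not_true, Bool.false_or, Bool.and_eq_true, Bool.or_eq_true, decide_eq_true_eq,
    Bool.not_eq_true', decide_eq_false_iff_not] at h1
  obtain ⟨⟨⟨a, b⟩, c⟩, d⟩ := h1
  exact ⟨a, b, c, fun e => d.resolve_left (fun h => h e)⟩

theorem v2_line_qf : qf (wW (wW v2)) = 0 ∧ wW (wW (wW v2)) = v2 := by decide +kernel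

namespace U6Ctx

variable {G : Type u} [Group G] [Finite G] {z : G}
  {Q : Subgroup (Subgroup.centralizer ({z} : Set G))} [Q.Normal] (C : U6Ctx z Q)

include C in
theorem zc_sq : zc z * zc z = 1 := by
  refine Subtype.ext ?_
  show z * z = 1
  have h := pow_orderOf_eq_one z
  rwa [C.hz, pow_two] at h

/-- Conjugation of an element of `Q` by another. -/
theorem conj_Q {q x : Subgroup.centralizer ({z} : Set G)} (hq : q ∈ Q) (hx : x ∈ Q) :
    (Bf (C.D.Φ q) (C.D.Φ x) = 0 → q * x * q⁻¹ = x) ∧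
      (Bf (C.D.Φ q) (C.D.Φ x) ≠ 0 → q * x * q⁻¹ = x * zc z) := by
  refine ⟨fun h => mul_inv_eq_of_eq_mul ((C.D.comm q hq x hx).2 h), fun h => ?_⟩
  have e : C.D.Φ (q * x * q⁻¹) = C.D.Φ x := by rw [← C.D.conj q x hx, C.D.rho_Q hq]; rfl
  rcases C.D.eq_or_mul (Subgroup.Normal.conj_mem inferInstance x hx q) hx e with h' | h'
  · exact absurd ((C.D.comm q hq x hx).1 (mul_inv_eq_iff_eq_mul.1 (Subtype.ext h'))) h
  · exact Subtype.ext h'

/-- An element exchanging the two generators. -/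
theorem exists_exchange :
    ∃ h : Subgroup.centralizer ({z} : Set G), h * C.e * h⁻¹ = C.f ∧ h * C.f * h⁻¹ = C.e := by
  obtain ⟨m, hm⟩ : ∃ m, m ∉ C.D.M := by
    by_contra hn
    push Not at hn
    have h := C.D.index_M
    rw [(Subgroup.eq_top_iff' _).2 hn, Subgroup.index_top] at h
    omega
  obtain ⟨hl2, -⟩ := v2_facts
  obtain ⟨g, hg, hgu⟩ := exists_of_lab (v := C.D.ρ m v2) (u := v2)
    (by rw [C.D.rho_lab, hl2]) (by rw [C.D.rho_lab])
  obtain ⟨k, -, rfl⟩ := C.D.exists_rho hg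
  obtain ⟨ω, -, hω⟩ := C.D.omega
  have hu := anti C.hF C.D m hm v2
  have hgw := isUni_K0 hg
  set n := ω * (k * m) with hn
  have he : C.D.ρ n v2 = wW v2 := by
    rw [hn, _root_.map_mul, _root_.map_mul, Equiv.Perm.mul_apply, Equiv.Perm.mul_apply, hgu, hω]
  have hf : C.D.ρ n (wW v2) = v2 := by
    rw [hn, _root_.map_mul, _root_.map_mul, Equiv.Perm.mul_apply, Equiv.Perm.mul_apply, hu, hgw.wcomm,
      hgw.wcomm, hgu, hω, v2_line_qf.2]
  have conj : ∀ x : Subgroup.centralizer ({z} : Set G), x ∈ Q →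
      n * x * n⁻¹ ∈ Q := fun x hx => Subgroup.Normal.conj_mem inferInstance x hx n
  have ce : n * C.e * n⁻¹ = C.f ∨ n * C.e * n⁻¹ = C.f * zc z := by
    rcases C.D.eq_or_mul (conj _ C.he) C.hf'
      (by rw [← C.D.conj n _ C.he, C.e_img, he, C.f_img]) with h | h
    · exact Or.inl (Subtype.ext h)
    · exact Or.inr (Subtype.ext h)
  have cf : n * C.f * n⁻¹ = C.e ∨ n * C.f * n⁻¹ = C.e * zc z := by
    rcases C.D.eq_or_mul (conj _ C.hf') C.he
      (by rw [← C.D.conj n _ C.hf', C.f_img, hf, C.e_img]) with h | h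
    · exact Or.inl (Subtype.ext h)
    · exact Or.inr (Subtype.ext h)
  obtain ⟨r, hr, hr'⟩ := C.D.surj (Pi.single 0 (0, 1))
  obtain ⟨t, ht, ht'⟩ := C.D.surj (Pi.single 0 (1, 0))
  obtain ⟨-, hr1, hr2, ht1, ht2⟩ := perpGens_facts
  have one : (1 : ZMod 2) ≠ 0 := by decide
  have re := (C.conj_Q hr C.he).2 (by rw [hr', C.e_img, hr1]; exact one)
  have rf := (C.conj_Q hr C.hf').1 (by rw [hr', C.f_img, hr2])
  have te := (C.conj_Q ht C.he).1 (by rw [ht', C.e_img, ht1])
  have tf := (C.conj_Q ht C.hf').2 (by rw [ht', C.f_img, ht2]; exact one)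
  have hz : ∀ q : Subgroup.centralizer ({z} : Set G), q * zc z * q⁻¹ = zc z := fun q => by
    rw [zc_comm, mul_inv_cancel_right]
  have step : ∀ q x y w : Subgroup.centralizer ({z} : Set G), n * x * n⁻¹ = y → q * y * q⁻¹ = w →
      q * n * x * (q * n)⁻¹ = w := fun q x y w a b => by
    rw [← b, ← a]; group
  have flip : ∀ q x : Subgroup.centralizer ({z} : Set G), q * x * q⁻¹ = x * zc z →
      q * (x * zc z) * q⁻¹ = x := fun q x e => by
    rw [show q * (x * zc z) * q⁻¹ = (q * x * q⁻¹) * (q * zc z * q⁻¹) by group, e, hz, mul_assoc,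
      C.zc_sq, mul_one]
  have stay : ∀ q x : Subgroup.centralizer ({z} : Set G), q * x * q⁻¹ = x →
      q * (x * zc z) * q⁻¹ = x * zc z := fun q x e => by
    rw [show q * (x * zc z) * q⁻¹ = (q * x * q⁻¹) * (q * zc z * q⁻¹) by group, e, hz]
  rcases ce with a | a <;> rcases cf with b | b
  · exact ⟨n, a, b⟩
  · exact ⟨r * n, step r _ _ _ a rf, step r _ _ _ b (flip r _ re)⟩
  · exact ⟨t * n, step t _ _ _ a (flip t _ tf), step t _ _ _ b te⟩
  · refine ⟨r * t * n, step (r * t) _ _ _ a ?_, step (r * t) _ _ _ b ?_⟩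
    · rw [show r * t * (C.f * zc z) * (r * t)⁻¹ = r * (t * (C.f * zc z) * t⁻¹) * r⁻¹ by group,
        flip t _ tf, rf]
    · rw [show r * t * (C.e * zc z) * (r * t)⁻¹ = r * (t * (C.e * zc z) * t⁻¹) * r⁻¹ by group,
        stay t _ te, flip r _ re]

end U6Ctx

end H16.Fi24
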