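import Cfsg.Agent.H16.Fi24.OuterBase
import Cfsg.Agent.H16.Fi24.OuterPairs
import Cfsg.Agent.H75.U6Quot

/-!
An involution outside a subgroup of index two of large Fischer type, centralising the quasisimple
subgroup of the centraliser of an involution of the first orbit.
-/

set_option autoImplicit false
set_option maxRecDepth 100000
set_option linter.style.haveILetI false
set_option linter.unusedSectionVars false

open scoped Pointwise

namespace H16.Fi24

open Cfsg

universe u

variable {X : Type u} [Group X] [Finite X] {G₀ : Subgroup X} {z : G₀}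
  {Q : Subgroup (Subgroup.centralizer ({z} : Set G₀))} [Q.Normal]

namespace U6Ctx

variable (C : U6Ctx z Q)

/-- The centraliser of the first generator. -/
abbrev Ce : Subgroup G₀ := Subgroup.centralizer ({(C.e : G₀)} : Set G₀)

/-- Its generalised Fitting subgroup. -/
abbrev Ke : Subgroup C.Ce := generalizedFittingSubgroup C.Ce

/-- The data at the first generator. -/
structure Inner : Prop where
  perfect : Group.IsPerfect C.Ke
  quasi : IsQuasisimple C.Ke
  index : C.Ke.index = 2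
  mem : ∀ c : C.Ce, (c : G₀) = C.e → c ∈ C.Ke
  small : ∀ c : C.Ce, (∀ k ∈ C.Ke, k * c = c * k) → (c : G₀) = 1 ∨ (c : G₀) = C.e
  fi22 : Spor.IsoFi22 (C.Ke ⧸ Subgroup.center C.Ke)
  card : Nat.card C.Ce = 2 * Nat.card (MulAut (C.Ke ⧸ Subgroup.center C.Ke))

theorem e_sq : (C.e : G₀) * C.e = 1 := C.ef_sq.1

theorem e_ne : (C.e : G₀) ≠ 1 ∧ (C.e : G₀) ≠ z ∧ ¬ IsConj z (C.e : G₀) := by
  obtain ⟨hl, -, -, -, hv, -⟩ := v2_facts
  have h0 : ∀ h : (C.e : G₀) = 1 ∨ (C.e : G₀) = z, False := fun h => hv (by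
    rw [← C.e_img]; exact (C.D.eq_zero _ C.he).2 h)
  refine ⟨fun h => h0 (Or.inl h), fun h => h0 (Or.inr h), fun h => ?_⟩
  have := lab_of_isConj C.hF C.D C.he h (fun h => h0 (Or.inr h))
  rw [C.e_img, hl] at this
  omega

theorem order_e : orderOf (C.e : G₀) = 2 :=
  orderOf_eq_prime (by rw [pow_two]; exact C.e_sq) C.e_ne.1

theorem inner (hout : Nat.card (Out Spor.Fi22) = 2)
    [hn : ((Subgroup.zpowers (C.e : G₀)).subgroupOf C.Ce).Normal]
    (h : IsQuasisimple C.Ke ∧ C.Ke.index = 2 ∧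
      (∃ htc : (C.e : G₀) ∈ C.Ce, (⟨C.e, htc⟩ : C.Ce) ∈ C.Ke) ∧
      Nonempty (C.Ce ⧸ (Subgroup.zpowers (C.e : G₀)).subgroupOf C.Ce ≃* MulAut Spor.Fi22)) :
    C.Inner := by
  obtain ⟨hq, hidx, ⟨htc, hmem⟩, ⟨ι⟩⟩ := h
  set e' : C.Ce := ⟨C.e, htc⟩
  have hz : (Subgroup.zpowers (C.e : G₀)).subgroupOf C.Ce = Subgroup.zpowers e' := by
    ext c
    rw [Subgroup.mem_subgroupOf, Subgroup.mem_zpowers_iff, Subgroup.mem_zpowers_iff]
    exact exists_congr fun i => ⟨fun h => Subtype.ext h, fun h => congrArg Subtype.val h⟩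
  haveI : (Subgroup.zpowers e').Normal := hz ▸ hn
  obtain ⟨h1, h2, h3⟩ := fi22_of_autQuot C.Ke hq.1 hidx hmem
    (fun c => Subtype.ext (Subgroup.mem_centralizer_singleton_iff.1 c.2))
    ((QuotientGroup.quotientMulEquivOfEq hz.symm).trans ι) hout
  have ho : orderOf e' = 2 := by
    rw [← orderOf_injective C.Ce.subtype Subtype.val_injective e']
    exact C.order_e
  refine ⟨hq.1, hq, hidx, fun c hc => ?_, fun c hc => ?_, h2, ?_⟩
  · rw [show c = e' from Subtype.ext hc]; exact hmem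
  · have hcK : c ∈ C.Ke :=
      Cfsg.Agent.S1265.result (G := C.Ce) (Subgroup.mem_centralizer_iff.2 hc)
    have := h1 ⟨c, hcK⟩ (Subgroup.mem_center_iff.2 fun k => Subtype.ext (hc k k.2))
    obtain ⟨i, hi⟩ := Subgroup.mem_zpowers_iff.1 this
    have hm := zpow_mod_orderOf e' i
    rw [ho] at hm
    rw [← show e' ^ i = c from hi, ← hm]
    rcases (show i % (2 : ℕ) = 0 ∨ i % (2 : ℕ) = 1 by omega) with e | e <;> rw [e]
    · exact Or.inl (by simp)
    · exact Or.inr (by simp [e'])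
  · rw [h3, Nat.card_zpowers, ho]

/-- It is the derived subgroup. -/
theorem Ke_eq (hI : C.Inner) : C.Ke = commutator C.Ce := by
  haveI := hI.perfect
  refine le_antisymm ?_ ?_
  · rw [← C.Ke.commutator_eq_self, commutator_def]
    exact Subgroup.commutator_mono le_top le_top
  · haveI := Subgroup.normal_of_index_eq_two hI.index
    rw [commutator_def, Subgroup.commutator_le]
    intro a _ b _
    have hab : ∀ a b : C.Ce, a * b ∈ C.Ke ↔ (a ∈ C.Ke ↔ b ∈ C.Ke) := fun a b =>
      Subgroup.mul_mem_iff_of_index_two hI.index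
    rw [commutatorElement_def, hab, hab, hab, inv_mem_iff, inv_mem_iff]
    tauto

/-- The four-group's centraliser lies in the quasisimple subgroup. -/
theorem cen_le (hI : C.Inner) {pt : G₀ → Fin 45} (hG : C.GLoc pt) {x : G₀} (hx : x ∈ C.cen) :
    ∃ hxe : x ∈ C.Ce, (⟨x, hxe⟩ : C.Ce) ∈ C.Ke := by
  have hle : C.cen ≤ C.Ce := fun y hy =>
    Subgroup.mem_centralizer_singleton_iff.2 (C.mem_cen.1 hy).1.eq
  refine ⟨hle hx, ?_⟩
  haveI := (H75.U6Quot.quasisimple hG).1.1
  have h1 : (commutator C.cen).map (Subgroup.inclusion hle) ≤ commutator C.Ce := by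
    rw [commutator_def, commutator_def, Subgroup.map_commutator]
    exact Subgroup.commutator_mono le_top le_top
  have hm : (⟨x, hx⟩ : C.cen) ∈ commutator C.cen := by
    rw [Group.IsPerfect.commutator_eq_top]
    trivial
  have h3 := h1 (Subgroup.mem_map_of_mem _ hm)
  rw [← C.Ke_eq hI] at h3
  exact h3

variable (hidx : G₀.index = 2)

include hidx in
theorem conj_mem (x : X) {g : X} (hg : g ∈ G₀) : x * g * x⁻¹ ∈ G₀ :=
  (Subgroup.normal_of_index_eq_two hidx).conj_mem g hg x

include hidx in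
theorem mul_notMem {a b : X} (ha : a ∈ G₀) (hb : b ∉ G₀) : a * b ∉ G₀ := by
  rw [Subgroup.mul_mem_iff_of_index_two hidx]; tauto

include C hidx in
/-- An outer element fixing both `z` and the first generator. -/
theorem exists_outer
    (hcentral : ∃ P : Sylow 2 G₀, z ∈ (P : Subgroup G₀) ∧ ∀ x ∈ (P : Subgroup G₀), Commute x z)
    (hFX : (generalizedFittingSubgroup ↥(Subgroup.centralizer ({(z : X)} : Set X))).map
      (Subgroup.subtype _) = (up Q).map G₀.subtype) :
    ∃ a : X, a ∉ G₀ ∧ Commute a (z : X) ∧ Commute a (((C.e : G₀)) : X) := by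
  haveI := Subgroup.normal_of_index_eq_two hidx
  obtain ⟨P, hzP, hPc⟩ := hcentral
  obtain ⟨x, hx⟩ : ∃ x : X, x ∉ G₀ := by
    by_contra hn
    push Not at hn
    rw [(Subgroup.eq_top_iff' _).2 hn, Subgroup.index_top] at hidx
    omega
  -- the centre of the Sylow subgroup
  have hPH : ∀ p ∈ (P : Subgroup G₀), p ∈ Subgroup.centralizer ({z} : Set G₀) := fun p hp =>
    Subgroup.mem_centralizer_singleton_iff.2 (hPc p hp).eq
  have hQP : up Q ≤ (P : Subgroup G₀) := by
    set PH := P.subtype (show (P : Subgroup G₀) ≤ Subgroup.centralizer ({z} : Set G₀) from hPH)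
    have hQp : IsPGroup 2 Q := IsPGroup.of_card (n := 13) C.hF.1.2.2.2.1
    intro q hq
    obtain ⟨q, hq', rfl⟩ := hq
    have hle : Q ≤ (PH : Subgroup (Subgroup.centralizer ({z} : Set G₀))) := by
      have hs : IsPGroup 2 ↥(Q ⊔ (PH : Subgroup (Subgroup.centralizer ({z} : Set G₀)))) :=
        hQp.to_sup_of_normal_left PH.isPGroup'
      rw [← PH.is_maximal' hs le_sup_right]
      exact le_sup_left
    exact hle hq'
  have hcen : ∀ c ∈ (P : Subgroup G₀), (∀ p ∈ (P : Subgroup G₀), c * p = p * c) → c = 1 ∨ c = z := by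
    intro c hc hcp
    set c' : Subgroup.centralizer ({z} : Set G₀) := ⟨c, hPH c hc⟩
    have hcQ : c' ∈ Q := by
      have hcm : ∀ q ∈ Q, q * c' = c' * q := fun q hq =>
        Subtype.ext (hcp q (hQP (mem_up.2 hq))).symm
      rw [← C.hF.1.2.1]
      exact Cfsg.Agent.S1265.result (G := Subgroup.centralizer ({z} : Set G₀))
        (Subgroup.mem_centralizer_iff.2 fun q hq => hcm q (C.hF.1.2.1 ▸ hq))
    have : C.D.Φ c' = 0 := by
      by_contra hne
      obtain ⟨y, hy, hn⟩ := C.D.exists_move hcQ hne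
      exact hn (Subtype.ext (hcp y (hQP (mem_up.2 hy))))
    exact (C.D.eq_zero c' hcQ).1 this
  -- Frattini
  let φ : MulAut G₀ := MulAut.conjNormal x
  obtain ⟨g, hg⟩ := MulAction.exists_smul_eq G₀ (φ • P) P
  have hmap : ∀ p : G₀, p ∈ (P : Subgroup G₀) ↔
      ∃ q ∈ (P : Subgroup G₀), g * φ q * g⁻¹ = p := by
    intro p
    conv_lhs => rw [← hg]
    show p ∈ MulAut.conj g • φ • (P : Subgroup G₀) ↔ _
    constructor
    · intro hp
      obtain ⟨w, hw, rfl⟩ := Set.mem_smul_set.1 hp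
      obtain ⟨q, hq, rfl⟩ := Set.mem_smul_set.1 hw
      exact ⟨q, hq, rfl⟩
    · rintro ⟨q, hq, rfl⟩
      exact Set.mem_smul_set.2 ⟨φ q, Set.mem_smul_set.2 ⟨q, hq, rfl⟩, rfl⟩
  have hgz : g * φ z * g⁻¹ = z := by
    refine (hcen _ ((hmap _).2 ⟨z, hzP, rfl⟩) fun p hp => ?_).resolve_left fun h => ?_
    · obtain ⟨q, hq, rfl⟩ := (hmap p).1 hp
      rw [show g * φ z * g⁻¹ * (g * φ q * g⁻¹) = g * (φ z * φ q) * g⁻¹ by group,
        ← map_mul, ← (hPc q hq).eq, map_mul]
      group
    · rw [conj_eq_one_iff, MulEquiv.map_eq_one_iff] at h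
      have := C.hz
      rw [h, orderOf_one] at this
      omega
  set n : X := (g : X) * x with hn'
  have hn : n ∉ G₀ := mul_notMem hidx g.2 hx
  have hnz : n * (z : X) = (z : X) * n := by
    have h := congrArg (fun w : G₀ => (w : X)) hgz
    simp only [Subgroup.coe_mul, Subgroup.coe_inv, φ, MulAut.conjNormal_apply] at h
    refine mul_inv_eq_iff_eq_mul.1 ?_
    rw [hn', mul_inv_rev]
    simpa [mul_assoc] using h
  -- the image of the first generator
  set t1 : G₀ := ⟨n * ((C.e : G₀) : X) * n⁻¹, conj_mem hidx n (C.e : G₀).2⟩ with ht1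
  have ht1Q : t1 ∈ up Q := by
    have h : ((C.e : G₀) : X) ∈ (up Q).map G₀.subtype := ⟨C.e, mem_up.2 C.he, rfl⟩
    rw [← hFX] at h
    obtain ⟨w, hw, hwe⟩ := h
    have hw' := Subgroup.Normal.conj_mem inferInstance w hw
      (⟨n, Subgroup.mem_centralizer_singleton_iff.2 hnz⟩ : Subgroup.centralizer ({(z : X)} : Set X))
    have h2 : n * ((C.e : G₀) : X) * n⁻¹ ∈ (up Q).map G₀.subtype := by
      rw [← hFX, ← hwe]
      exact ⟨_, hw', rfl⟩
    obtain ⟨w', hw', e⟩ := h2
    exact (Subtype.ext e : w' = t1) ▸ hw'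
  obtain ⟨t, ht, htt⟩ := ht1Q
  have htz : (t : G₀) ≠ z := fun h => by
    have : n * ((C.e : G₀) : X) * n⁻¹ = n * (z : X) * n⁻¹ :=
      (congrArg Subtype.val htt).symm.trans
        ((congrArg Subtype.val h).trans (mul_inv_eq_of_eq_mul hnz).symm)
    exact C.e_ne.2.1 (Subtype.ext (mul_left_cancel (mul_right_cancel this)))
  have hto : orderOf t = 2 := by
    rw [← orderOf_injective (G₀.subtype.comp (Subgroup.subtype _))
      (Subtype.val_injective.comp Subtype.val_injective) t]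
    show orderOf ((t : G₀) : X) = 2
    rw [show ((t : G₀) : X) = MulAut.conj n ((C.e : G₀) : X) from congrArg Subtype.val htt,
      MulEquiv.orderOf_eq, Subgroup.orderOf_coe]
    exact C.order_e
  have htc : ¬ IsConj z (t : G₀) := fun h => by
    obtain ⟨k, hk⟩ := isConj_iff.1 h
    refine C.e_ne.2.2 (isConj_iff.2 ⟨⟨n⁻¹ * (k : X) * n, by
      simpa using conj_mem hidx n⁻¹ k.2⟩, Subtype.ext ?_⟩)
    have e := congrArg Subtype.val (hk.trans htt)
    simp only [Subgroup.coe_mul, Subgroup.coe_inv, ht1] at e ⊢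
    calc n⁻¹ * (k : X) * n * (z : X) * (n⁻¹ * (k : X) * n)⁻¹
        = n⁻¹ * ((k : X) * (n * (z : X) * n⁻¹) * (k : X)⁻¹) * n := by group
      _ = _ := by rw [mul_inv_eq_of_eq_mul hnz, e]; group
  have hlab : lab (C.D.Φ t) = 2 := by
    have h1 := C.D.lab_involution ht hto htz
    have h2 := (lab_cases (C.D.Φ t)).2.1
    have h3 : lab (C.D.Φ t) ≠ 3 := fun h => htc ((isConj_iff_lab C.hF C.D ht htz).2 h)
    omega
  obtain ⟨k, hk⟩ := C.D.conj_of_lab C.he ht (by rw [C.e_img, v2_facts.1]) (by rw [hlab, C.e_img, v2_facts.1])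
  refine ⟨((k : G₀) : X)⁻¹ * n, mul_notMem hidx (inv_mem (k : G₀).2) hn, ?_, ?_⟩
  · have hkz : ((k : G₀) : X) * (z : X) = (z : X) * ((k : G₀) : X) :=
      congrArg Subtype.val (Subgroup.mem_centralizer_singleton_iff.1 k.2)
    exact Commute.mul_left (Commute.inv_left hkz) hnz
  · refine mul_inv_eq_iff_eq_mul.1 ?_
    have e : n * ((C.e : G₀) : X) * n⁻¹ = ((k : G₀) : X) * ((C.e : G₀) : X) * ((k : G₀) : X)⁻¹ := by
      rw [← show ((t : G₀) : X) = n * ((C.e : G₀) : X) * n⁻¹ from congrArg Subtype.val htt, ← hk]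
      simp
    calc ((k : G₀) : X)⁻¹ * n * ((C.e : G₀) : X) * (((k : G₀) : X)⁻¹ * n)⁻¹
        = ((k : G₀) : X)⁻¹ * (n * ((C.e : G₀) : X) * n⁻¹) * ((k : G₀) : X) := by group
      _ = _ := by rw [e]; group

/-- An outer element centralising the quasisimple subgroup. -/
structure Mate (d : X) : Prop where
  notMem : d ∉ G₀
  comm_e : Commute d ((C.e : G₀) : X)
  comm : ∀ k ∈ C.Ke, Commute d (((k : C.Ce) : G₀) : X)

theorem comm_cen (hI : C.Inner) {pt : G₀ → Fin 45} (hG : C.GLoc pt) {d : X} (hd : C.Mate d)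
    {x : G₀} (hx : x ∈ C.cen) : Commute d (x : X) := by
  obtain ⟨h, hk⟩ := C.cen_le hI hG hx
  exact hd.comm _ hk

include hidx in
theorem exists_mate (hI : C.Inner) {a : X} (ha : a ∉ G₀) (hae : Commute a ((C.e : G₀) : X)) :
    ∃ d, C.Mate d := by
  haveI := Subgroup.normal_of_index_eq_two hidx
  set Y : Subgroup X := Subgroup.centralizer ({((C.e : G₀) : X)} : Set X) with hY
  let i : C.Ce →* Y := MonoidHom.mk' (fun c => ⟨((c : G₀) : X), Subgroup.mem_centralizer_singleton_iff.2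
    (congrArg Subtype.val (Subgroup.mem_centralizer_singleton_iff.1 c.2))⟩) fun _ _ => rfl
  have hi : Function.Injective i := fun a b h =>
    Subtype.ext (Subtype.ext (congrArg (fun w : Y => (w : X)) h))
  have hrange : i.range = G₀.subgroupOf Y := by
    ext y
    constructor
    · rintro ⟨c, rfl⟩
      exact (c : G₀).2
    · intro hy
      exact ⟨⟨⟨(y : X), hy⟩, Subgroup.mem_centralizer_singleton_iff.2 (Subtype.ext
        (Subgroup.mem_centralizer_singleton_iff.1 y.2 :))⟩, rfl⟩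
  haveI : i.range.Normal := hrange ▸ inferInstance
  set KY : Subgroup Y := C.Ke.map i
  haveI hKn : KY.Normal := by
    refine ⟨fun k hk y => ?_⟩
    let θ : MulAut i.range := MulAut.conjNormal y
    let θ' : MulAut C.Ce := ((MonoidHom.ofInjective hi).trans θ).trans (MonoidHom.ofInjective hi).symm
    obtain ⟨c, hc, rfl⟩ := hk
    refine ⟨θ' c, ?_, ?_⟩
    · rw [C.Ke_eq hI, commutator_def] at hc ⊢
      exact Subgroup.characteristic_iff_map_le.1 inferInstance θ' (Subgroup.mem_map_of_mem _ hc)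
    · have h : MonoidHom.ofInjective hi (θ' c) = θ (MonoidHom.ofInjective hi c) :=
        MulEquiv.apply_symm_apply _ _
      have h' := congrArg Subtype.val h
      simpa [θ, MonoidHom.ofInjective_apply] using h'
  have hKp : Group.IsPerfect KY := by
    haveI := hI.perfect
    exact Group.IsPerfect.ofSurjective (f := (C.Ke.equivMapOfInjective i hi).toMonoidHom)
      (MulEquiv.surjective _)
  have hle := card_le_centralizer_mul KY hKp
  obtain ⟨eq⟩ := H37.CpQuot.quotCenter (C.Ke.equivMapOfInjective i hi)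
  have hpos : 0 < Nat.card (MulAut (KY ⧸ Subgroup.center KY)) := Nat.card_pos
  rw [← Nat.card_congr (MulAut.congr eq).toEquiv] at hle hpos
  have hY2 : 4 * Nat.card (MulAut (C.Ke ⧸ Subgroup.center C.Ke)) ≤ Nat.card Y := by
    have h1 : Nat.card (G₀.subgroupOf Y) = Nat.card C.Ce := by
      rw [← hrange]; exact Nat.card_congr (MonoidHom.ofInjective hi).symm.toEquiv
    have h2 := (G₀.subgroupOf Y).card_mul_index
    rw [h1, hI.card] at h2
    have h3 : 2 ≤ (G₀.subgroupOf Y).index := by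
      refine Subgroup.one_lt_index_of_ne_top fun h => ha ?_
      have := h ▸ Subgroup.mem_top (⟨a, Subgroup.mem_centralizer_singleton_iff.2 hae.eq⟩ : Y)
      exact this
    rw [← h2]
    calc 4 * _ = 2 * Nat.card (MulAut (C.Ke ⧸ Subgroup.center C.Ke)) * 2 := by ring
      _ ≤ _ := Nat.mul_le_mul_left _ h3
  have h4 : 4 ≤ Nat.card (Subgroup.centralizer (KY : Set Y)) :=
    Nat.le_of_mul_le_mul_right (hY2.trans hle) hpos
  by_contra hn
  push Not at hn
  have hsub : (Subgroup.centralizer (KY : Set Y) : Set Y) ⊆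
      {1, (⟨((C.e : G₀) : X), Subgroup.mem_centralizer_singleton_iff.2 rfl⟩ : Y)} := by
    intro y hy
    have hyk : ∀ k ∈ C.Ke, i k * y = y * i k := fun k hk =>
      Subgroup.mem_centralizer_iff.1 hy _ (Subgroup.mem_map_of_mem _ hk)
    have hyG : (y : X) ∈ G₀ := by
      by_contra h
      exact hn (y : X) ⟨h, Subgroup.mem_centralizer_singleton_iff.1 y.2, fun k hk =>
        (congrArg Subtype.val (hyk k hk)).symm⟩
    obtain ⟨c, rfl⟩ : y ∈ i.range := hrange ▸ hyG
    rcases hI.small c (fun k hk => hi (by rw [map_mul, map_mul]; exact hyk k hk)) with h | h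
    · exact Or.inl (Subtype.ext (by show ((c : G₀) : X) = 1; rw [h]; rfl))
    · exact Or.inr (Subtype.ext (show ((c : G₀) : X) = ((C.e : G₀) : X) by rw [h]))
  have h5 := Set.ncard_le_ncard hsub (Set.toFinite _)
  have h6 := h5.trans ((Set.ncard_insert_le _ _).trans (by rw [Set.ncard_singleton]))
  rw [← Nat.card_coe_set_eq] at h6
  have : 4 ≤ 2 := h4.trans h6
  omega

end U6Ctx

end H16.Fi24
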