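import Cfsg.Agent.H16.Fi24.OuterData

/-!
The type M(23) centraliser of the outer involution of `exists_outer_data`, with its transposition `e`.
-/

set_option autoImplicit false
set_option maxRecDepth 100000
set_option linter.style.haveILetI false
set_option linter.unusedSectionVars false

namespace H16.Fi24

open Cfsg

universe u

variable {X : Type u} [Group X] [Finite X]

/-- The centraliser of the outer involution in the subgroup of index two is of type M(23) on the
class of `e`. -/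
theorem m23_at (G₀ : Subgroup X) (hidx : G₀.index = 2) {z : G₀}
    {Q : Subgroup (Subgroup.centralizer ({z} : Set G₀))} [Q.Normal] (C : U6Ctx z Q)
    (hFX : (generalizedFittingSubgroup ↥(Subgroup.centralizer ({(z : X)} : Set X))).map
      (Subgroup.subtype _) = (Q.map (Subgroup.subtype _)).map G₀.subtype)
    (hI : C.Inner) {d : X} (hd : C.Mate d)
    (hswap : ∃ h : G₀, h * C.e * h⁻¹ = C.f ∧ Commute (h : X) d) :
    ∃ t : ↥(G₀ ⊓ Subgroup.centralizer ({d} : Set X)), (t : X) = ((C.e : G₀) : X) ∧ orderOf t = 2 ∧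
      IsQuasisimple ↥(Subgroup.centralizer ({t} : Set ↥(G₀ ⊓ Subgroup.centralizer ({d} : Set X)))) ∧
      (∃ (_ : ((Subgroup.zpowers t).subgroupOf (Subgroup.centralizer ({t} : Set ↥(G₀ ⊓ Subgroup.centralizer ({d} : Set X))))).Normal),
      Spor.IsoFi22 (↥(Subgroup.centralizer ({t} : Set ↥(G₀ ⊓ Subgroup.centralizer ({d} : Set X)))) ⧸
        (Subgroup.zpowers t).subgroupOf (Subgroup.centralizer ({t} : Set ↥(G₀ ⊓ Subgroup.centralizer ({d} : Set X)))))) ∧
      (∃ g : ↥(G₀ ⊓ Subgroup.centralizer ({d} : Set X)),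
        g * t * g⁻¹ ∈ Subgroup.centralizer ({t} : Set ↥(G₀ ⊓ Subgroup.centralizer ({d} : Set X))) ∧
        g * t * g⁻¹ ≠ t) ∧
      IsThreeTranspositionClass (conjugatesOf t) ∧
      IsOfTypeM23 ↥(G₀ ⊓ Subgroup.centralizer ({d} : Set X)) (conjugatesOf t) := by
  obtain ⟨pt, hG⟩ := U6Ctx.exists_gloc C C.exists_fused
  obtain ⟨h, hef, hhd⟩ := hswap
  set Y : Subgroup X := G₀ ⊓ Subgroup.centralizer ({d} : Set X) with hY
  set t : Y := ⟨((C.e : G₀) : X), (C.e : G₀).2, Subgroup.mem_centralizer_singleton_iff.2 hd.comm_e.symm.eq⟩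
    with ht
  have ht2 : orderOf t = 2 := by
    rw [← Subgroup.orderOf_coe t, show ((t : Y) : X) = ((C.e : G₀) : X) from rfl, Subgroup.orderOf_coe]
    exact C.order_e
  set Ct := Subgroup.centralizer ({t} : Set Y) with hCt
  -- the isomorphism with the quasisimple subgroup
  let j : C.Ke →* Ct := MonoidHom.mk' (fun k => ⟨⟨(((k : C.Ce) : G₀) : X), ((k : C.Ce) : G₀).2,
      Subgroup.mem_centralizer_singleton_iff.2 (hd.comm k k.2).symm.eq⟩,
      Subgroup.mem_centralizer_singleton_iff.2 (Subtype.ext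
        (congrArg Subtype.val (Subgroup.mem_centralizer_singleton_iff.1 (k : C.Ce).2) :))⟩) fun _ _ => rfl
  have hj : Function.Bijective j := by
    refine ⟨fun a b h => Subtype.ext (Subtype.ext (Subtype.ext
      (congrArg (fun w : Ct => ((w : Y) : X)) h))), fun c => ?_⟩
    have hcG : ((c : Y) : X) ∈ G₀ := (c : Y).2.1
    set c' : C.Ce := ⟨⟨_, hcG⟩, Subgroup.mem_centralizer_singleton_iff.2 (Subtype.ext
      (congrArg Subtype.val (Subgroup.mem_centralizer_singleton_iff.1 c.2) :))⟩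
    have hc' : c' ∈ C.Ke := by
      by_contra hn
      obtain ⟨q, hq⟩ := C.exists_not_comm hidx hI hG hFX hd
      by_cases hqK : q ∈ C.Ke
      · exact hq (hd.comm q hqK)
      · have h1 : c'⁻¹ * q ∈ C.Ke := by
          rw [Subgroup.mul_mem_iff_of_index_two hI.index, inv_mem_iff]
          exact iff_of_false hn hqK
        have h2 := hd.comm _ h1
        have h3 : Commute d ((c : Y) : X) :=
          (Subgroup.mem_centralizer_singleton_iff.1 (c : Y).2.2).symm
        exact hq (by simpa [c'] using h3.mul_right h2)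
    exact ⟨⟨c', hc'⟩, rfl⟩
  let eK : C.Ke ≃* Ct := MulEquiv.ofBijective j hj
  have hquasi : IsQuasisimple Ct := H68.isQuasisimple_of_equiv eK hI.quasi
  have hz : (Subgroup.zpowers t).subgroupOf Ct = Subgroup.center Ct := by
    refine le_antisymm ?_ ?_
    · intro c hc
      obtain ⟨i, hi⟩ := hc
      refine Subgroup.mem_center_iff.2 fun g => Subtype.ext ?_
      show (g : Y) * c = c * g
      rw [← show t ^ i = (c : Y) from hi]
      exact (Commute.zpow_right (Subgroup.mem_centralizer_singleton_iff.1 g.2) i).eq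
    · intro c hc
      obtain ⟨k, rfl⟩ := eK.surjective c
      have hk : ∀ k' ∈ C.Ke, k' * (k : C.Ce) = (k : C.Ce) * k' := fun k' hk' =>
        congrArg Subtype.val (eK.injective
          ((_root_.map_mul eK ⟨k', hk'⟩ k).trans ((Subgroup.mem_center_iff.1 hc _).trans
            (_root_.map_mul eK k ⟨k', hk'⟩).symm)))
      rcases hI.small k hk with e | e
      · exact ⟨0, Subtype.ext ((by simp : ((t ^ (0 : ℤ) : Y) : X) = 1).trans
          (congrArg Subtype.val e).symm)⟩
      · exact ⟨1, Subtype.ext ((by simp [ht] : ((t ^ (1 : ℤ) : Y) : X) = ((C.e : G₀) : X)).trans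
          (congrArg Subtype.val e).symm)⟩
  haveI hn : ((Subgroup.zpowers t).subgroupOf Ct).Normal := by rw [hz]; infer_instance
  have h22 : Spor.IsoFi22 (Ct ⧸ (Subgroup.zpowers t).subgroupOf Ct) := by
    obtain ⟨ι⟩ := hI.fi22
    obtain ⟨q⟩ := H37.CpQuot.quotCenter eK
    exact ⟨((QuotientGroup.quotientMulEquivOfEq hz).trans q.symm).trans ι⟩
  obtain ⟨d', h1, h2, h3, h4, h5, h6⟩ := H20.F22.facts h22
  have hh : (h : X) ∈ Y := ⟨h.2, Subgroup.mem_centralizer_singleton_iff.2 hhd.eq⟩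
  have hnwc : ∃ g : Y, g * t * g⁻¹ ∈ Ct ∧ g * t * g⁻¹ ≠ t := by
    have e : (h : X) * ((C.e : G₀) : X) * (h : X)⁻¹ = ((C.f : G₀) : X) := congrArg Subtype.val hef
    refine ⟨⟨h, hh⟩, Subgroup.mem_centralizer_singleton_iff.2 (Subtype.ext ?_), fun h' => ?_⟩
    · show (h : X) * ((C.e : G₀) : X) * (h : X)⁻¹ * ((C.e : G₀) : X) =
        ((C.e : G₀) : X) * ((h : X) * ((C.e : G₀) : X) * (h : X)⁻¹)
      rw [e]
      exact (congrArg Subtype.val C.commute_ef.eq).symm
    · have h'' : ((C.f : G₀) : X) = ((C.e : G₀) : X) := e.symm.trans (congrArg Subtype.val h')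
      exact absurd (congrArg C.D.Φ (U6Ctx.bigQ_inj h'')) (by rw [C.e_img, C.f_img]; decide)
  exact ⟨t, rfl, ht2, hquasi, ⟨hn, h22⟩, hnwc,
    Cfsg.Agent.S5402.result t ht2 hquasi ⟨_, h5, h6⟩ ⟨d', h1, h2, h3, h4⟩ hnwc⟩

end H16.Fi24
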