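import Cfsg.Agent.S1265
import Cfsg.Agent.H93.Fi22Order
import Cfsg.Agent.H37.CpQuotBasic

/-!
A quasisimple subgroup of index two whose ambient group modulo its centre is the automorphism group
of `Fi22`, and elements centralising a quasisimple normal subgroup.
-/

set_option autoImplicit false
set_option linter.style.haveILetI false

namespace H16.Fi24

open Cfsg

universe u v

/-- An element acting on a perfect group by central multipliers centralises it. -/
theorem commute_of_mult {Y : Type u} [Group Y] (K : Subgroup Y) (hK : Group.IsPerfect K) (x : Y)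
    (h : ∀ k : K, ∃ c ∈ Subgroup.center K, x * k * x⁻¹ = (k : Y) * c) :
    ∀ k ∈ K, x * k = k * x := by
  choose c hc hx using h
  let φ : K →* Subgroup.center K := MonoidHom.mk' (fun k => ⟨c k, hc k⟩) fun a b => by
    refine Subtype.ext (Subtype.ext ?_)
    have hab := hx (a * b)
    have hcb : (b : Y) * (c a : Y) = (c a : Y) * b :=
      congrArg Subtype.val (Subgroup.mem_center_iff.1 (hc a) b)
    have e : x * ((a : Y) * b) * x⁻¹ = (x * a * x⁻¹) * (x * b * x⁻¹) := by group
    rw [Subgroup.coe_mul, e, hx, hx] at hab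
    show (c (a * b) : Y) = (c a : Y) * (c b : Y)
    refine mul_left_cancel (a := (a : Y) * b) (hab.symm.trans ?_)
    rw [mul_assoc, mul_assoc, ← mul_assoc (c a : Y), ← hcb, mul_assoc]
  intro k hk
  have hker : (⊤ : Subgroup K) ≤ φ.ker := by
    haveI : IsMulCommutative (Subgroup.center K) :=
      ⟨⟨fun a b => Subtype.ext (Subgroup.mem_center_iff.1 b.2 a)⟩⟩
    rw [← hK.commutator_eq_top, commutator_def, Subgroup.commutator_le]
    intro a _ b _
    rw [MonoidHom.mem_ker, map_commutatorElement, commutatorElement_eq_one_iff_mul_comm]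
    exact IsMulCommutative.is_comm.comm _ _
  have h1 : c ⟨k, hk⟩ = 1 := by
    have h0 := MonoidHom.mem_ker.1 (hker (Subgroup.mem_top ⟨k, hk⟩))
    exact congrArg Subtype.val h0
  have h2 := hx ⟨k, hk⟩
  rw [h1, Subgroup.coe_one, mul_one] at h2
  exact mul_inv_eq_iff_eq_mul.1 h2

/-- An automorphism acts on the quotient by the centre. -/
noncomputable def autQuotCenter (K : Type u) [Group K] : MulAut K →* MulAut (K ⧸ Subgroup.center K) :=
  MonoidHom.mk' (fun α => QuotientGroup.congr (Subgroup.center K) (Subgroup.center K) α (by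
      ext x
      refine ⟨?_, fun hx => ⟨α.symm x, Subgroup.mem_center_iff.2 fun b => α.injective ?_, by simp⟩⟩
      · rintro ⟨y, hy, rfl⟩
        exact Subgroup.mem_center_iff.2 fun b => α.symm.injective
          (by simp [Subgroup.mem_center_iff.1 hy (α.symm b)])
      · simp [Subgroup.mem_center_iff.1 hx (α b)]))
    fun α β => by
      refine MulEquiv.ext fun q => ?_
      obtain ⟨k, rfl⟩ := QuotientGroup.mk_surjective q
      rfl

/-- A large group normalising a quasisimple subgroup has a large centraliser of it. -/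
theorem card_le_centralizer_mul {Y : Type u} [Group Y] [Finite Y] (K : Subgroup Y) [K.Normal]
    (hK : Group.IsPerfect K) :
    Nat.card Y ≤ Nat.card ↥(Subgroup.centralizer (K : Set Y)) *
      Nat.card (MulAut (K ⧸ Subgroup.center K)) := by
  let ψ : Y →* MulAut (K ⧸ Subgroup.center K) :=
    (autQuotCenter K).comp (MulAut.conjNormal : Y →* MulAut K)
  have hle : ψ.ker ≤ Subgroup.centralizer (K : Set Y) := by
    intro x hx
    refine Subgroup.mem_centralizer_iff.2 fun k hk => (commute_of_mult K hK x (fun k => ?_) k hk).symm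
    have h1 : ((MulAut.conjNormal x k : K) : K ⧸ Subgroup.center K) = (k : K ⧸ Subgroup.center K) :=
      DFunLike.congr_fun (MonoidHom.mem_ker.1 hx) (k : K ⧸ Subgroup.center K)
    refine ⟨k⁻¹ * MulAut.conjNormal x k, QuotientGroup.eq.1 h1.symm, ?_⟩
    simp [mul_assoc]
  have h := ψ.ker.card_mul_index
  rw [Subgroup.index_ker] at h
  rw [← h]
  exact Nat.mul_le_mul (Subgroup.card_le_of_le hle) (Nat.card_le_card_of_injective _ Subtype.val_injective)

theorem finite_fi22 : Finite Spor.Fi22 :=
  Nat.finite_of_card_ne_zero (by rw [H93.Fi22Order.isFi22.2]; norm_num)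

/-- The quotient by the centre of a perfect subgroup of index two under a map onto `Aut Fi22`. -/
theorem fi22_of_autQuot {C : Type u} [Group C] [Finite C] {e : C} [hn : (Subgroup.zpowers e).Normal]
    (K : Subgroup C) (hK : Group.IsPerfect K) (hidx : K.index = 2) (he : e ∈ K) (hec : ∀ c, c * e = e * c)
    (ι : C ⧸ Subgroup.zpowers e ≃* MulAut Spor.Fi22) (hout : Nat.card (Out Spor.Fi22) = 2) :
    (∀ c : K, c ∈ Subgroup.center K → (c : C) ∈ Subgroup.zpowers e) ∧
      Spor.IsoFi22 (K ⧸ Subgroup.center K) ∧
      Nat.card C = Nat.card (Subgroup.zpowers e) * Nat.card (MulAut (K ⧸ Subgroup.center K)) := by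
  haveI hS : IsSimpleGroup Spor.Fi22 := H93.Fi22Order.isFi22.1
  haveI := finite_fi22
  have hna : Subgroup.center Spor.Fi22 = ⊥ := by
    rcases (inferInstance : (Subgroup.center Spor.Fi22).Normal).eq_bot_or_eq_top with h | h
    · exact h
    · exfalso
      letI : CommGroup Spor.Fi22 := { (inferInstance : Group Spor.Fi22) with
        mul_comm := fun a b => (Subgroup.mem_center_iff.1 (h ▸ Subgroup.mem_top b) a) }
      have hp : Nat.Prime (Nat.card Spor.Fi22) := IsSimpleGroup.prime_card
      rw [H93.Fi22Order.isFi22.2] at hp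
      exact absurd hp (Nat.not_prime_of_dvd_of_lt (m := 2) (by norm_num) (by norm_num) (by norm_num))
  have hinj : Function.Injective (MulAut.conj : Spor.Fi22 →* MulAut Spor.Fi22) := by
    refine (injective_iff_map_eq_one _).2 fun a ha => ?_
    rw [← Subgroup.mem_bot, ← hna, Subgroup.mem_center_iff]
    intro b
    have := DFunLike.congr_fun ha b
    rw [MulAut.conj_apply, MulAut.one_apply, mul_inv_eq_iff_eq_mul] at this
    exact this.symm
  let f : C →* MulAut Spor.Fi22 := ι.toMonoidHom.comp (QuotientGroup.mk' (Subgroup.zpowers e))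
  let g : K →* MulAut Spor.Fi22 := f.comp K.subtype
  have hker : ∀ k : K, g k = 1 ↔ (k : C) ∈ Subgroup.zpowers e := fun k => by
    simp [g, f]
  have hsurj : Function.Surjective f := ι.surjective.comp (QuotientGroup.mk'_surjective _)
  have hInn : g.range ≤ Inn Spor.Fi22 := by
    rintro _ ⟨k, rfl⟩
    rw [← QuotientGroup.eq_one_iff]
    haveI : IsMulCommutative (Out Spor.Fi22) := by
      haveI : Fact (Nat.Prime 2) := ⟨Nat.prime_two⟩
      haveI := isCyclic_of_prime_card (p := 2) hout
      exact IsCyclic.isMulCommutative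
    have hk : k ∈ ((QuotientGroup.mk' (Inn Spor.Fi22)).comp g).ker := by
      have : (⊤ : Subgroup K) ≤ ((QuotientGroup.mk' (Inn Spor.Fi22)).comp g).ker := by
        rw [← hK.commutator_eq_top, commutator_def, Subgroup.commutator_le]
        intro a _ b _
        rw [MonoidHom.mem_ker, map_commutatorElement, commutatorElement_eq_one_iff_mul_comm]
        exact IsMulCommutative.is_comm.comm _ _
      exact this (Subgroup.mem_top k)
    exact MonoidHom.mem_ker.1 hk
  have hcC : Nat.card C = Nat.card (Subgroup.zpowers e) * Nat.card (MulAut Spor.Fi22) := by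
    rw [← Nat.card_congr ι.toEquiv, Subgroup.card_eq_card_quotient_mul_card_subgroup (Subgroup.zpowers e),
      mul_comm]
  have hgker : g.ker = (Subgroup.zpowers e).subgroupOf K := by ext k; exact hker k
  have hrange : g.range = Inn Spor.Fi22 := by
    refine Subgroup.eq_of_le_of_card_ge hInn ?_
    have h1 := g.ker.card_mul_index
    rw [Subgroup.index_ker, hgker,
      Nat.card_congr (Subgroup.subgroupOfEquivOfLe (Subgroup.zpowers_le.2 he)).toEquiv] at h1
    have h2 := K.card_mul_index
    rw [hidx, hcC, ← h1] at h2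
    have h3 := (Inn Spor.Fi22).card_mul_index
    rw [Subgroup.index, show Nat.card (MulAut Spor.Fi22 ⧸ Inn Spor.Fi22) = 2 from
      hout] at h3
    rw [mul_assoc, ← h3] at h2
    have := Nat.eq_of_mul_eq_mul_left (Nat.card_pos) h2
    omega
  let eI : K ⧸ g.ker ≃* Spor.Fi22 :=
    (QuotientGroup.quotientKerEquivRange g).trans
      ((MulEquiv.subgroupCongr hrange).trans (MonoidHom.ofInjective hinj).symm)
  have hcen : Subgroup.center K = g.ker := by
    refine le_antisymm (fun c hc => ?_) (fun c hc => ?_)
    · have h1 : eI c ∈ Subgroup.center Spor.Fi22 := by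
        refine Subgroup.mem_center_iff.2 fun b => ?_
        obtain ⟨q, rfl⟩ := eI.surjective b
        obtain ⟨k, rfl⟩ := QuotientGroup.mk_surjective q
        rw [← map_mul, ← map_mul, ← QuotientGroup.mk_mul, ← QuotientGroup.mk_mul,
          Subgroup.mem_center_iff.1 hc k]
      rw [hna, Subgroup.mem_bot, MulEquiv.map_eq_one_iff, QuotientGroup.eq_one_iff] at h1
      exact h1
    · rw [hgker, Subgroup.mem_subgroupOf] at hc
      refine Subgroup.mem_center_iff.2 fun k => Subtype.ext ?_
      obtain ⟨i, hi⟩ := hc
      show (k : C) * (c : C) = (c : C) * k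
      rw [← show e ^ i = (c : C) from hi]
      exact (Commute.zpow_right (hec k) i).eq
  refine ⟨fun c hc => (hker c).1 (MonoidHom.mem_ker.1 (hcen ▸ hc)), ?_, ?_⟩
  · exact ⟨(QuotientGroup.quotientMulEquivOfEq hcen).trans eI⟩
  · rw [hcC]
    congr 1
    exact Nat.card_congr
      (MulAut.congr ((QuotientGroup.quotientMulEquivOfEq hcen).trans eI)).symm.toEquiv

end H16.Fi24
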