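import Cfsg.Agent.H16.Fi24.OuterPairs
import Cfsg.Agent.H7.Fi24L.Cert

/-!
An element permuting the three involutions of the four-group cyclically, and the order of the
centraliser of `z`.
-/

set_option autoImplicit false
set_option maxRecDepth 100000
set_option linter.unusedSectionVars false

namespace H16.Fi24

open Cfsg
open H7.Fi24L (Bf_add Bf_comm)

universe u

variable {G : Type u} [Group G] [Finite G] {z : G}
  {Q : Subgroup (Subgroup.centralizer ({z} : Set G))} [Q.Normal]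

/-- The order of the centraliser of `z`. -/
theorem card_centralizer_z (hF : IsOfLargeFischerTypeAt z Q) :
    Nat.card (Subgroup.centralizer ({z} : Set G)) = 160526499840 := by
  obtain ⟨D⟩ := nonempty_model hF
  have h1 := D.M.card_mul_index
  have h2 : Nat.card D.M = 2 ^ 13 * 9797760 := by
    have h := (D.ρ.comp D.M.subtype).ker.card_mul_index
    rw [Subgroup.index_ker, MonoidHom.range_comp, Subgroup.range_subtype, D.map_M, D.card_K0,
      ← MonoidHom.comap_ker, D.ker] at h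
    rw [← h]
    congr 1
    rw [← hF.1.2.2.2.1]
    exact Nat.card_congr (Subgroup.subgroupOfEquivOfLe D.Q_le).toEquiv
  rw [D.index_M, h2] at h1
  rw [← h1]
  norm_num

namespace U6Ctx

variable (C : U6Ctx z Q)

/-- An element permuting the involutions cyclically. -/
theorem exists_cycle :
    ∃ k : G, k * C.e * k⁻¹ = C.f ∧ k * C.f * k⁻¹ = (C.e : G) * C.f := by
  suffices h : ∃ k : Subgroup.centralizer ({z} : Set G),
      k * C.e * k⁻¹ = C.f ∧ k * C.f * k⁻¹ = C.e * C.f by
    obtain ⟨k, a, b⟩ := h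
    exact ⟨(k : G), congrArg Subtype.val a, congrArg Subtype.val b⟩
  obtain ⟨n, -, hn⟩ := C.D.omega
  have conj : ∀ x : Subgroup.centralizer ({z} : Set G), x ∈ Q →
      n * x * n⁻¹ ∈ Q := fun x hx => Subgroup.Normal.conj_mem inferInstance x hx n
  have hef : C.e * C.f ∈ Q := mul_mem C.he C.hf'
  have ce : n * C.e * n⁻¹ = C.f ∨ n * C.e * n⁻¹ = C.f * zc z := by
    rcases C.D.eq_or_mul (conj _ C.he) C.hf'
      (by rw [← C.D.conj n _ C.he, C.e_img, hn, C.f_img]) with h | h
    · exact Or.inl (Subtype.ext h)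
    · exact Or.inr (Subtype.ext h)
  have cf : n * C.f * n⁻¹ = C.e * C.f ∨ n * C.f * n⁻¹ = C.e * C.f * zc z := by
    rcases C.D.eq_or_mul (conj _ C.hf') hef
      (by rw [← C.D.conj n _ C.hf', C.f_img, hn, C.Phi_e_f]) with h | h
    · exact Or.inl (Subtype.ext h)
    · exact Or.inr (Subtype.ext h)
  obtain ⟨r, hr, hr'⟩ := C.D.surj (Pi.single 0 (0, 1))
  obtain ⟨t, ht, ht'⟩ := C.D.surj (Pi.single 0 (1, 0))
  obtain ⟨-, hr1, hr2, ht1, ht2⟩ := perpGens_facts
  have one : (1 : ZMod 2) ≠ 0 := by decide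
  have hv : C.D.Φ (C.e * C.f) = v2 + wW v2 := by
    rw [C.D.map_mul _ C.he _ C.hf', C.e_img, C.f_img]
  have bef : ∀ q : Subgroup.centralizer ({z} : Set G),
      Bf (C.D.Φ q) (C.D.Φ (C.e * C.f)) = Bf (C.D.Φ q) v2 + Bf (C.D.Φ q) (wW v2) := fun q => by
    rw [hv, Bf_comm, Bf_add, Bf_comm v2, Bf_comm (wW v2)]
  have rf := (C.conj_Q hr C.hf').1 (by rw [hr', C.f_img, hr2])
  have ref := (C.conj_Q hr hef).2 (by rw [bef, hr', hr1, hr2, add_zero]; exact one)
  have tf := (C.conj_Q ht C.hf').2 (by rw [ht', C.f_img, ht2]; exact one)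
  have tef := (C.conj_Q ht hef).2 (by rw [bef, ht', ht1, ht2, zero_add]; exact one)
  have hz : ∀ q : Subgroup.centralizer ({z} : Set G), q * zc z * q⁻¹ = zc z := fun q => by
    rw [zc_comm, mul_inv_cancel_right]
  have step : ∀ q x y w : Subgroup.centralizer ({z} : Set G), n * x * n⁻¹ = y → q * y * q⁻¹ = w →
      q * n * x * (q * n)⁻¹ = w := fun q x y w a b => by
    rw [← b, ← a]; group
  have flip : ∀ q x : Subgroup.centralizer ({z} : Set G), q * x * q⁻¹ = x * zc z →
      q * (x * zc z) * q⁻¹ = x := fun q x e => by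
    rw [show q * (x * zc z) * q⁻¹ = (q * x * q⁻¹) * (q * zc z * q⁻¹) by group, e, hz, mul_assoc,
      C.zc_sq, mul_one]
  have stay : ∀ q x : Subgroup.centralizer ({z} : Set G), q * x * q⁻¹ = x →
      q * (x * zc z) * q⁻¹ = x * zc z := fun q x e => by
    rw [show q * (x * zc z) * q⁻¹ = (q * x * q⁻¹) * (q * zc z * q⁻¹) by group, e, hz]
  rcases ce with a | a <;> rcases cf with b | b
  · exact ⟨n, a, b⟩
  · exact ⟨r * n, step r _ _ _ a rf, step r _ _ _ b (flip r _ ref)⟩
  · refine ⟨r * t * n, step (r * t) _ _ _ a ?_, step (r * t) _ _ _ b ?_⟩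
    · rw [show r * t * (C.f * zc z) * (r * t)⁻¹ = r * (t * (C.f * zc z) * t⁻¹) * r⁻¹ by group,
        flip t _ tf, rf]
    · rw [show r * t * (C.e * C.f) * (r * t)⁻¹ = r * (t * (C.e * C.f) * t⁻¹) * r⁻¹ by group,
        tef, flip r _ ref]
  · exact ⟨t * n, step t _ _ _ a (flip t _ tf), step t _ _ _ b (flip t _ tef)⟩

end U6Ctx

end H16.Fi24
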