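import Cfsg.Agent.H16.Fi24.U6Cert
import Cfsg.Agent.H16.Fi24.Orbits

/-!
A lift of the diagonal element centralising two involutions, one acting as `swA`.
-/

set_option autoImplicit false
set_option maxRecDepth 100000

namespace H16.Fi24

open Cfsg

universe u

variable {G : Type u} [Group G] [Finite G] {z : G}
  {Q : Subgroup (Subgroup.centralizer ({z} : Set G))} [Q.Normal]

theorem Model.Phi_inv (D : Model z Q) {r : Subgroup.centralizer ({z} : Set G)} (hr : r ∈ Q) :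
    D.Φ r⁻¹ = D.Φ r := by
  have h := D.map_mul r hr r⁻¹ (inv_mem hr)
  rw [mul_inv_cancel, (D.eq_zero 1 (one_mem _)).2 (Or.inl rfl)] at h
  calc D.Φ r⁻¹ = D.Φ r⁻¹ + (D.Φ r + D.Φ r) := by rw [add_self_W, add_zero]
    _ = (D.Φ r + D.Φ r⁻¹) + D.Φ r := by abel
    _ = D.Φ r := by rw [← h, zero_add]

theorem exists_lift (D : Model z Q) (hzz : z * z = 1) {z' e' f' : Subgroup.centralizer ({z} : Set G)}
    (hz'Q : z' ∈ Q) (he'Q : e' ∈ Q) (hv : D.Φ z' = v3) (hev : D.Φ e' = v2) (hf'f : f' * f' = 1)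
    (hφA : D.ρ f' = swA) (fixc : ∀ r ∈ Q, swA (D.Φ r) = D.Φ r → f' * r = r * f') :
    ∃ K, K * e' = e' * K ∧ K * f' = f' * K ∧ D.Φ (K * z' * K⁻¹) = diag3 v3 := by
  classical
  have hf'inv : f'⁻¹ = f' := inv_eq_of_mul_eq_one_right hf'f
  obtain ⟨k, hk, hkρ⟩ := D.exists_rho diag3_mem
  obtain ⟨h, hhe, hhρ⟩ : ∃ h, h * e' * h⁻¹ = e' ∧ D.ρ h = diag3 := by
    have hq : k * e' * k⁻¹ ∈ Q := Subgroup.Normal.conj_mem inferInstance e' he'Q k
    have hΦ : D.Φ (k * e' * k⁻¹) = D.Φ e' := by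
      rw [← D.conj k e' he'Q, hev, hkρ, diag3_facts.1]
    rcases D.eq_or_mul hq he'Q hΦ with h | h
    · exact ⟨k, Subtype.ext h, hkρ⟩
    · obtain ⟨r, hr, hre⟩ := D.conj_mul_z hq (by rw [hΦ, hev]; decide)
      refine ⟨r * k, ?_, by rw [_root_.map_mul, D.rho_Q hr, one_mul, hkρ]⟩
      rw [show r * k * e' * (r * k)⁻¹ = r * (k * e' * k⁻¹) * r⁻¹ by group, hre]
      refine Subtype.ext ?_
      rw [Subgroup.coe_mul, h]
      show (e' : G) * z * z = e'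
      rw [mul_assoc, hzz, mul_one]
  set q := f' * (h * f' * h⁻¹) with hq
  set φ := D.ρ f' with hφ
  have hφφ : φ * φ = 1 := by rw [hφ, ← _root_.map_mul, hf'f, map_one]
  have hρf : D.ρ (h * f' * h⁻¹) = φ := by
    rw [_root_.map_mul, _root_.map_mul, map_inv, hhρ, ← hφ, hφA, diag3_comm, mul_inv_cancel_right]
  have hqQ : q ∈ Q := by
    rw [← D.ker, MonoidHom.mem_ker, hq, _root_.map_mul, hρf, ← hφ, hφφ]
  have hqfix : ∀ w, φ w = w → Bf w (D.Φ q) = 0 := by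
    intro w hw
    obtain ⟨r, hr, rfl⟩ := D.surj w
    have hr' : h⁻¹ * r * h ∈ Q := by simpa using Subgroup.Normal.conj_mem inferInstance r hr h⁻¹
    have e : D.Φ (h⁻¹ * r * h) = diag3⁻¹ (D.Φ r) := by
      rw [← hhρ, ← map_inv, D.conj h⁻¹ r hr, inv_inv]
    have hfix' : φ (D.Φ (h⁻¹ * r * h)) = D.Φ (h⁻¹ * r * h) := by
      rw [e, ← Equiv.Perm.mul_apply,
        show φ * diag3⁻¹ = diag3⁻¹ * φ by
          rw [hφA]; exact (Commute.inv_left (show Commute diag3 swA from diag3_comm)).eq.symm,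
        Equiv.Perm.mul_apply, hw]
    have c1 : f' * r = r * f' := fixc r hr (by rw [← hφA]; exact hw)
    have c2 : f' * (h⁻¹ * r * h) = (h⁻¹ * r * h) * f' := fixc _ hr' (by rw [← hφA]; exact hfix')
    refine (D.comm r hr q hqQ).1 ?_
    have c3 : h * f' * h⁻¹ * r = r * (h * f' * h⁻¹) := by
      calc h * f' * h⁻¹ * r = h * (f' * (h⁻¹ * r * h)) * h⁻¹ := by group
        _ = h * ((h⁻¹ * r * h) * f') * h⁻¹ := by rw [c2]
        _ = r * (h * f' * h⁻¹) := by group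
    calc r * q = r * f' * (h * f' * h⁻¹) := (mul_assoc r f' _).symm
      _ = f' * r * (h * f' * h⁻¹) := by rw [c1]
      _ = f' * (h * f' * h⁻¹ * r) := by rw [c3, mul_assoc]
      _ = q * r := (mul_assoc f' _ r).symm
  obtain ⟨w, hw⟩ := mem_image_of_perp_fix (hφA ▸ isUni_K0 swA_mem) hφφ hqfix
  obtain ⟨hra, hrv⟩ := absorb w
  obtain ⟨r, hr, hrΦ⟩ := D.surj (rA w)
  have hre : r * e' = e' * r := (D.comm r hr e' he'Q).2 (by rw [hrΦ, hev]; exact hra)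
  -- after the correction the commutator is nearly central
  set h1 := r⁻¹ * h with hh1
  have h1e : h1 * e' * h1⁻¹ = e' := by
    rw [hh1, show r⁻¹ * h * e' * (r⁻¹ * h)⁻¹ = r⁻¹ * (h * e' * h⁻¹) * r by group, hhe]
    calc r⁻¹ * e' * r = r⁻¹ * (e' * r) := by rw [mul_assoc]
      _ = e' := by rw [← hre, inv_mul_cancel_left]
  have h1ρ : D.ρ h1 = diag3 := by
    rw [hh1, _root_.map_mul, map_inv, D.rho_Q hr, inv_one, one_mul, hhρ]
  set c := f' * (h1 * f' * h1⁻¹) with hcdef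
  have hri : r⁻¹ ∈ Q := inv_mem hr
  have hconj : f' * r⁻¹ * f' ∈ Q := by
    have := Subgroup.Normal.conj_mem inferInstance r⁻¹ hri f'
    rwa [hf'inv] at this
  have hceq : c = f' * r⁻¹ * f' * (q * r) := by
    rw [hcdef, hq, hh1]
    have e : f' * (r⁻¹ * h * f' * (r⁻¹ * h)⁻¹) = f' * r⁻¹ * (h * f' * h⁻¹) * r := by group
    rw [e]
    calc f' * r⁻¹ * (h * f' * h⁻¹) * r = f' * r⁻¹ * (f' * f') * (h * f' * h⁻¹) * r := by
          rw [hf'f, mul_one]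
      _ = _ := by group
  have hcQ : c ∈ Q := by rw [hceq]; exact mul_mem hconj (mul_mem hqQ hr)
  have hcΦ : D.Φ c = 0 ∨ D.Φ c = wW v2 := by
    have hinv : D.Φ r⁻¹ = D.Φ r := by
      have h := D.map_mul r hr r⁻¹ hri
      rw [mul_inv_cancel, (D.eq_zero 1 (one_mem _)).2 (Or.inl rfl)] at h
      calc D.Φ r⁻¹ = D.Φ r⁻¹ + (D.Φ r + D.Φ r) := by rw [add_self_W, add_zero]
        _ = (D.Φ r + D.Φ r⁻¹) + D.Φ r := by abel
        _ = D.Φ r := by rw [← h, zero_add]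
    have h3 : D.Φ (f' * r⁻¹ * f') = φ (D.Φ r) := by
      rw [← hinv, hφ, D.conj f' r⁻¹ hri, hf'inv]
    have hqv : D.Φ q = φ w + w := by
      rw [hw, add_comm w, add_assoc, add_self_W, add_zero]
    rw [hceq, D.map_mul _ hconj _ (mul_mem hqQ hr), D.map_mul q hqQ r hr, h3, hqv, hrΦ, hφA,
      show swA (rA w) + (swA w + w + rA w) = swA (rA w) + rA w + (swA w + w) by abel]
    exact hrv
  have hcc : c * c = 1 := (D.sq c hcQ).2 (by
    rcases hcΦ with e | e <;> rw [e] <;> decide)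
  have hh1c : h1 * f' * h1⁻¹ = f' * c := by
    rw [hcdef, ← mul_assoc f' f', hf'f, one_mul]
  have zz : zc z * zc z = 1 := Subtype.ext hzz
  have hdiag : ∀ v : W, diag3 (wW v) = wW (diag3 v) := (isUni_K0 diag3_mem).wcomm
  obtain ⟨cz, hczz, hcz⟩ : ∃ cz : Subgroup.centralizer ({z} : Set G), (cz = 1 ∨ cz = zc z) ∧
      h1 * c * h1⁻¹ = c * cz := by
    have e : D.Φ (h1 * c * h1⁻¹) = D.Φ c := by
      rw [← D.conj h1 c hcQ, h1ρ]
      rcases hcΦ with e | e <;> rw [e]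
      · exact isUni_K0 diag3_mem |>.map_zero'
      · rw [hdiag, diag3_facts.1]
    rcases D.eq_or_mul (Subgroup.Normal.conj_mem inferInstance c hcQ h1) hcQ e with h | h
    · exact ⟨1, Or.inl rfl, by rw [mul_one]; exact Subtype.ext h⟩
    · exact ⟨zc z, Or.inr rfl, Subtype.ext h⟩
  have czc : ∀ x : Subgroup.centralizer ({z} : Set G), x * cz = cz * x := fun x => by
    rcases hczz with rfl | rfl
    · simp
    · exact zc_comm x
  have czsq : cz * cz = 1 := by rcases hczz with rfl | rfl <;> simp [zz]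
  have h2c : h1 ^ 2 * f' * (h1 ^ 2)⁻¹ = f' * cz := by
    rw [pow_two, show h1 * h1 * f' * (h1 * h1)⁻¹ = h1 * (h1 * f' * h1⁻¹) * h1⁻¹ by group, hh1c,
      show h1 * (f' * c) * h1⁻¹ = (h1 * f' * h1⁻¹) * (h1 * c * h1⁻¹) by group, hh1c, hcz,
      mul_assoc, ← mul_assoc c c, hcc, one_mul]
  have h4c : h1 ^ 4 * f' * (h1 ^ 4)⁻¹ = f' := by
    rw [show h1 ^ 4 = h1 ^ 2 * h1 ^ 2 by rw [← pow_add],
      show h1 ^ 2 * h1 ^ 2 * f' * (h1 ^ 2 * h1 ^ 2)⁻¹ = h1 ^ 2 * (h1 ^ 2 * f' * (h1 ^ 2)⁻¹) * (h1 ^ 2)⁻¹ by group,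
      h2c, show h1 ^ 2 * (f' * cz) * (h1 ^ 2)⁻¹ = (h1 ^ 2 * f' * (h1 ^ 2)⁻¹) * (h1 ^ 2 * cz * (h1 ^ 2)⁻¹) by group,
      h2c, czc (h1 ^ 2), mul_inv_cancel_right, mul_assoc, czsq, mul_one]
  set K := h1 ^ 4 with hK
  have hKe : K * e' = e' * K := by
    have : Commute h1 e' := mul_inv_eq_iff_eq_mul.1 h1e
    exact (this.pow_left 4).eq
  have hKf : K * f' = f' * K := mul_inv_eq_iff_eq_mul.1 h4c
  have hKρ : D.ρ K = diag3 := by rw [hK, map_pow, h1ρ, diag3_pow]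
  refine ⟨K, hKe, hKf, ?_⟩
  rw [← D.conj K z' hz'Q, hv, hKρ]

end H16.Fi24
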