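import Cfsg.Agent.H16.Fi24.U6Side
import Cfsg.Agent.H16.Fi24.U6Lift

/-!
A conjugate of `z` under the centraliser of the four-group, commuting with `z`, whose product with
`z` is not a conjugate of `z`.
-/

set_option autoImplicit false
set_option maxRecDepth 100000

namespace H16.Fi24

open Cfsg

universe u

theorem four_val : wW v2 + wW v2 = 0 ∧ wW v2 + (wW v2 + wW v3) = wW v3 ∧
    wW v2 + wW (wW v2) = v2 ∧ wW v2 + (wW (wW v2) + wW (wW v3)) = v2 + wW (wW v3) ∧
    wW v3 ≠ v3 ∧ v2 ≠ v3 ∧ v2 + wW (wW v3) ≠ v3 ∧ (0 : W) ≠ v3 := by decide +kernel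

/-- An antilinear involution fixes at most 64 vectors. -/
theorem card_fix_anti {τ : Equiv.Perm W} (ha : ∀ u v, τ (u + v) = τ u + τ v)
    (hw : ∀ v, τ (wW v) = wW (wW (τ v))) :
    (Finset.univ.filter fun y : W => τ y = y).card ≤ 64 := by
  classical
  set S := Finset.univ.filter fun y : W => τ y = y with hS
  have hinj : Set.InjOn (fun p : W × W => p.1 + wW p.2) ↑(S ×ˢ S) := by
    rintro ⟨a, b⟩ hp ⟨a', b'⟩ hq h
    simp only [Finset.coe_product, Set.mem_prod, Finset.mem_coe, hS, Finset.mem_filter,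
      Finset.mem_univ, true_and] at hp hq
    have h' : a + wW b = a' + wW b' := h
    have hab : a + a' = wW (b + b') := by
      rw [wW_add]
      calc a + a' = (a + wW b) + (wW b + a') := by
            rw [← add_assoc, add_assoc a, add_self_W, add_zero]
        _ = (a' + wW b') + (wW b + a') := by rw [h']
        _ = (a' + a') + (wW b + wW b') := by abel
        _ = wW b + wW b' := by rw [add_self_W, zero_add]
    have hd : b + b' = 0 := by
      by_contra hd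
      refine wW_twice_ne _ hd ?_
      have e : τ (a + a') = a + a' := by rw [ha, hp.1, hq.1]
      rw [hab, hw, ha, hp.2, hq.2] at e
      exact e
    have hb : b = b' := by
      calc b = b + (b' + b') := by rw [add_self_W, add_zero]
        _ = b' := by rw [← add_assoc, hd, zero_add]
    rw [hb] at h'
    exact Prod.ext (add_right_cancel h') hb
  have hle := Finset.card_le_card_of_injOn (fun p : W × W => p.1 + wW p.2)
    (t := (Finset.univ : Finset W)) (fun _ _ => Finset.mem_univ _) hinj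
  rw [Finset.card_product, Finset.card_univ, show Fintype.card W = 4096 by simp] at hle
  by_contra hlt
  have : 65 * 65 ≤ S.card * S.card := Nat.mul_le_mul (by omega) (by omega)
  omega

theorem card_v3_perp : (Finset.univ.filter fun y : W => Bf y v3 = 0).card = 2048 := by decide +kernel

/-- The four commutator values. -/
def V4 : Finset W := {0, wW v3, v2, v2 + wW (wW v3)}

theorem V4_facts : v3 ∉ V4 ∧ V4.card ≤ 4 ∧ v2 ∈ V4 := by decide +kernel

namespace U6Ctx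

variable {G : Type u} [Group G] [Finite G] {z : G}
  {Q : Subgroup (Subgroup.centralizer ({z} : Set G))} [Q.Normal] (C : U6Ctx z Q)
  {s z' e' f' : Subgroup.centralizer ({z} : Set G)} {g : G}
  {D2 : Model z Q}

/-- The commutator of `f'` with an element of `Q` commuting with `z'`, seen at both ends. -/
theorem comm_data (hS : C.Std s g) (hz' : (z' : G) = g⁻¹ * z * g) (hf' : (f' : G) = g⁻¹ * C.f * g)
    (hz'Q : z' ∈ Q) (hv : D2.Φ z' = v3) {r : Subgroup.centralizer ({z} : Set G)} (hr : r ∈ Q)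
    (hb : Bf (D2.Φ r) v3 = 0) :
    ∃ r' ∈ att Q g, (r' : G) = g * (r : G) * g⁻¹ ∧ ∃ c ∈ Q,
      C.D.Φ c = wW v2 + C.D.ρ r' (wW v2) ∧ C.D.Φ c ∈ V4 ∧
      f' * r * f'⁻¹ * r⁻¹ ∈ Q ∧ ((f' * r * f'⁻¹ * r⁻¹ : _) : G) = g⁻¹ * (c : G) * g ∧
      D2.Φ (f' * r * f'⁻¹ * r⁻¹) = D2.ρ f' (D2.Φ r) + D2.Φ r := by
  have hc : Commute (r : G) z' :=
    congrArg Subtype.val ((D2.comm r hr z' hz'Q).2 (by rw [hv]; exact hb))
  have hrC : g * (r : G) * g⁻¹ ∈ Subgroup.centralizer ({z} : Set G) := by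
    rw [Subgroup.mem_centralizer_singleton_iff]
    calc g * (r : G) * g⁻¹ * z = g * ((r : G) * (g⁻¹ * z * g)) * g⁻¹ := by group
      _ = g * ((g⁻¹ * z * g) * (r : G)) * g⁻¹ := by rw [← hz', hc.eq]
      _ = z * (g * (r : G) * g⁻¹) := by group
  set r' : Subgroup.centralizer ({z} : Set G) := ⟨_, hrC⟩ with hr'
  have hr'a : r' ∈ att Q g := Subgroup.mem_subgroupOf.2 ⟨⟨r, mem_up.2 hr, rfl⟩, hrC⟩
  have hcj : r' * C.f * r'⁻¹ ∈ Q := Subgroup.Normal.conj_mem inferInstance _ C.hf' r'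
  have hm : f' * r * f'⁻¹ ∈ Q := Subgroup.Normal.conj_mem inferInstance r hr f'
  have hΦ : C.D.Φ (C.f * (r' * C.f * r'⁻¹)) = wW v2 + C.D.ρ r' (wW v2) := by
    rw [C.D.map_mul _ C.hf' _ hcj, C.f_img, ← C.D.conj r' _ C.hf', C.f_img]
  have hfi : (C.f : G)⁻¹ = C.f := inv_eq_of_mul_eq_one_right C.ef_sq.2
  refine ⟨r', hr'a, rfl, C.f * (r' * C.f * r'⁻¹), mul_mem C.hf' hcj, hΦ, ?_,
    mul_mem hm (inv_mem hr), ?_, ?_⟩
  · rw [hΦ]
    obtain ⟨a1, a2, a3, a4, -⟩ := four_val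
    rcases hS.values r' hr'a with t | t | t | t <;> rw [t]
    · rw [a1]; decide
    · rw [a2]; decide
    · rw [a3]; decide
    · rw [a4]; decide
  · simp only [Subgroup.coe_mul, Subgroup.coe_inv, hf', hr']
    rw [show (g⁻¹ * (C.f : G) * g)⁻¹ = g⁻¹ * (C.f : G)⁻¹ * g by group, hfi]
    group
  · rw [D2.map_mul _ hm _ (inv_mem hr), D2.Phi_inv hr, D2.conj f' r hr]

/-- Conjugation by `g` shifts values only by `v3`. -/
theorem shift_rep (hz' : (z' : G) = g⁻¹ * z * g) (hz'Q : z' ∈ Q) (hv : D2.Φ z' = v3) (v : W) :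
    ∃ x : W, ∀ c ∈ Q, C.D.Φ c = v → ∀ d : Subgroup.centralizer ({z} : Set G), d ∈ Q →
      (d : G) = g⁻¹ * (c : G) * g → D2.Φ d = x ∨ D2.Φ d = x + v3 := by
  by_cases h : ∃ c ∈ Q, C.D.Φ c = v ∧ ∃ d : Subgroup.centralizer ({z} : Set G), d ∈ Q ∧
      (d : G) = g⁻¹ * (c : G) * g
  · obtain ⟨c0, hc0, h0, d0, hd0, ed0⟩ := h
    refine ⟨D2.Φ d0, fun c hc e d hd ed => ?_⟩
    rcases C.D.eq_or_mul hc hc0 (e.trans h0.symm) with h | h
    · left; rw [show d = d0 from Subtype.ext (by rw [ed, h, ed0])]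
    · right
      rw [← hv, ← D2.map_mul _ hd0 _ hz'Q]
      congr 1
      exact Subtype.ext (by rw [ed, h, Subgroup.coe_mul, ed0, hz']; group)
  · exact ⟨0, fun c hc e d hd ed => absurd ⟨c, hc, e, d, hd, ed⟩ h⟩

/-- Fixed vectors in the hyperplane lift to elements commuting with `f'`. -/
theorem delta_zero (hS : C.Std s g) (hz' : (z' : G) = g⁻¹ * z * g) (hf' : (f' : G) = g⁻¹ * C.f * g)
    (hz'Q : z' ∈ Q) (hv : D2.Φ z' = v3) {r : Subgroup.centralizer ({z} : Set G)} (hr : r ∈ Q)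
    (hb : Bf (D2.Φ r) v3 = 0) (hfix : D2.ρ f' (D2.Φ r) = D2.Φ r) : f' * r = r * f' := by
  obtain ⟨r', -, -, c, hc, -, hV, hm, hcg, hd⟩ := C.comm_data hS hz' hf' hz'Q hv hr hb
  rw [hfix, add_self_W] at hd
  rcases (D2.eq_zero _ hm).1 hd with h | h
  · have e : f' * r * f'⁻¹ * r⁻¹ = 1 := Subtype.ext h
    exact mul_inv_eq_iff_eq_mul.1 (mul_inv_eq_one.1 e)
  · exfalso
    rw [hcg] at h
    have e : (c : G) = s := by
      rw [← hS.hg]
      calc (c : G) = g * (g⁻¹ * (c : G) * g) * g⁻¹ := by group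
        _ = g * z * g⁻¹ := by rw [h]
    rw [show c = s from Subtype.ext e, hS.hsv] at hV
    exact V4_facts.1 hV

/-- `f'` acts linearly. -/
theorem fside_linear (hS : C.Std s g) (hz' : (z' : G) = g⁻¹ * z * g)
    (hf' : (f' : G) = g⁻¹ * C.f * g) (hz'Q : z' ∈ Q) (hv : D2.Φ z' = v3) : f' ∈ D2.M := by
  classical
  by_contra hn
  set φ := D2.ρ f' with hφ
  have hadd : ∀ a b, φ (a + b) = φ a + φ b := D2.rho_add f'
  have hfix64 := card_fix_anti hadd (anti C.hF D2 f' hn)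
  choose x hx using fun v => C.shift_rep hz' hz'Q hv v
  set P := Finset.univ.filter fun y : W => Bf y v3 = 0 with hP3
  have hsub : P.image (fun y => φ y + y) ⊆ V4.biUnion fun v => {x v, x v + v3} := by
    intro w hw
    obtain ⟨y, hy, rfl⟩ := Finset.mem_image.1 hw
    obtain ⟨r, hr, rfl⟩ := D2.surj y
    obtain ⟨r', -, -, c, hc, -, hV, hm, hcg, hd⟩ :=
      C.comm_data hS hz' hf' hz'Q hv hr (Finset.mem_filter.1 hy).2
    rw [← hd]
    refine Finset.mem_biUnion.2 ⟨_, hV, ?_⟩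
    simpa using hx _ c hc rfl _ hm hcg
  have hcard8 : (P.image (fun y => φ y + y)).card ≤ 8 := by
    refine (Finset.card_le_card hsub).trans ?_
    refine (Finset.card_biUnion_le_card_mul _ _ 2 fun v _ => Finset.card_le_two).trans ?_
    have := V4_facts.2.1
    omega
  have hfib : P.card ≤ 64 * (P.image (fun y => φ y + y)).card := by
    refine Finset.card_le_mul_card_image _ 64 fun w hw => ?_
    obtain ⟨y0, -, hy0⟩ := Finset.mem_image.1 hw
    refine le_trans (Finset.card_le_card_of_injOn (fun y => y + y0) ?_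
      fun a _ b _ h => add_right_cancel h) hfix64
    intro y hy
    have e : φ y + y = φ y0 + y0 := (Finset.mem_filter.1 hy).2.trans hy0.symm
    refine Finset.mem_filter.2 ⟨Finset.mem_univ _, ?_⟩
    show φ (y + y0) = y + y0
    rw [hadd]
    calc φ y + φ y0 = (φ y + y) + (y + φ y0) := by
          rw [← add_assoc, add_assoc (φ y), add_self_W, add_zero]
      _ = (φ y0 + y0) + (y + φ y0) := by rw [e]
      _ = (φ y0 + φ y0) + (y + y0) := by abel
      _ = y + y0 := by rw [add_self_W, zero_add]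
  rw [card_v3_perp] at hfib
  omega

/-- `f'` acts as `swA`. -/
theorem fside_eq (hS : C.Std s g) (hz' : (z' : G) = g⁻¹ * z * g) (he' : (e' : G) = g⁻¹ * C.e * g)
    (hf' : (f' : G) = g⁻¹ * C.f * g) (hz'Q : z' ∈ Q) (he'Q : e' ∈ Q) (hatt : f' ∈ att Q g⁻¹)
    (hA' : Fused z Q z' g⁻¹) (hv : D2.Φ z' = v3) (hev : D2.Φ e' = v2) : D2.ρ f' = swA := by
  classical
  have hφK : D2.ρ f' ∈ K0 := D2.rho_mem f' (C.fside_linear hS hz' hf' hz'Q hv)
  obtain ⟨b, hb⟩ := (hA'.lin_part D2 hz'Q hv _).1 ⟨⟨f', hatt, rfl⟩, hφK⟩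
  have hfixe : D2.ρ f' v2 = v2 := by
    have hc : f' * e' = e' * f' := Subtype.ext (by
      show (f' : G) * e' = e' * f'
      rw [hf', he']
      calc g⁻¹ * (C.f : G) * g * (g⁻¹ * C.e * g) = g⁻¹ * ((C.f : G) * C.e) * g := by group
        _ = g⁻¹ * ((C.e : G) * C.f) * g := by rw [C.commute_ef.eq]
        _ = _ := by group)
    rw [← hev, D2.conj f' e' he'Q, mul_inv_eq_of_eq_mul hc]
  rw [← hb]
  refine lin16_eq_swA (hb.symm ▸ hφK) (by rw [hb]; exact hfixe) ?_
  obtain ⟨y, hy, hyf⟩ := hS.mover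
  have hyF : (y : G) ∈ C.F (g * z * g⁻¹) := by rw [hS.hg]; exact hS.att_mem y hy
  have hy' := C.fam.mem_Q_conj' g hyF
  have hyC : g⁻¹ * (y : G) * g ∈ Subgroup.centralizer ({z} : Set G) := by
    rw [C.F_z] at hy'; exact Subgroup.map_subtype_le Q hy'
  set y' : Subgroup.centralizer ({z} : Set G) := ⟨g⁻¹ * (y : G) * g, hyC⟩ with hy'def
  have hy'Q : y' ∈ Q := C.mem_F_z.1 hy'
  have hby : Bf (D2.Φ y') v3 = 0 := by
    rw [← hv]
    refine (D2.comm y' hy'Q z' hz'Q).1 (Subtype.ext ?_)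
    show g⁻¹ * (y : G) * g * z' = z' * (g⁻¹ * (y : G) * g)
    rw [hz']
    calc _ = g⁻¹ * ((y : G) * z) * g := by group
      _ = g⁻¹ * (z * (y : G)) * g := by rw [Subgroup.mem_centralizer_singleton_iff.1 y.2]
      _ = _ := by group
  obtain ⟨r', -, er', c, hc, hval, -, hm, hcg, hd⟩ := C.comm_data hS hz' hf' hz'Q hv hy'Q hby
  have hry : r' = y := Subtype.ext (by rw [er', hy'def]; group)
  rw [hry, hyf, four_val.2.2.1] at hval
  refine ⟨D2.Φ y', ?_⟩
  rw [hb, ← hd]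
  rcases C.D.eq_or_mul hc C.he (hval.trans C.e_img.symm) with h | h
  · left; rw [← hev]; congr 1; exact Subtype.ext (by rw [hcg, he', h])
  · right
    rw [← hev, ← hv, ← D2.map_mul _ he'Q _ hz'Q]
    congr 1
    exact Subtype.ext (by rw [hcg, Subgroup.coe_mul, he', hz', h]; group)

/-- A second member of the class at `z`, of the good kind. -/
theorem exists_fused : ∃ u ∈ C.gperp, ¬ IsConj z (u * z) := by
  classical
  obtain ⟨s, g, hS⟩ := C.exists_std
  obtain ⟨z', e', f', D2, hz', he', hf', hz'Q, he'Q, hatt, hA', hv, hev⟩ := C.exists_side hS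
  have hφA := C.fside_eq hS hz' he' hf' hz'Q he'Q hatt hA' hv hev
  have hf'f : f' * f' = 1 := Subtype.ext (by
    show (f' : G) * f' = 1
    rw [hf']
    calc g⁻¹ * (C.f : G) * g * (g⁻¹ * C.f * g) = g⁻¹ * ((C.f : G) * C.f) * g := by group
      _ = 1 := by rw [C.ef_sq.2]; group)
  have hperp3 : ∀ w, swA w = w → Bf w v3 = 0 := by
    intro w hw
    rw [← diag3_facts.2.2.2, Bf_add_right']
    nth_rewrite 1 [← hw]
    rw [(isUni_K0 swA_mem).Bf_eq]
    exact CharTwo.add_self_eq_zero _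
  obtain ⟨K, hKe, hKf, hKΦ⟩ := exists_lift D2 C.z_sq hz'Q he'Q hv hev hf'f hφA fun r hr h =>
    C.delta_zero hS hz' hf' hz'Q hv hr (hperp3 _ h) (by rw [hφA]; exact h)
  set u' := K * z' * K⁻¹ with hu'
  have hu'Q : u' ∈ Q := Subgroup.Normal.conj_mem inferInstance z' hz'Q K
  have hKe' : (K : G) * (g⁻¹ * C.e * g) = g⁻¹ * C.e * g * K := he' ▸ congrArg Subtype.val hKe
  have hKf' : (K : G) * (g⁻¹ * C.f * g) = g⁻¹ * C.f * g * K := hf' ▸ congrArg Subtype.val hKf
  have hγ : g * (K : G) * g⁻¹ ∈ C.cen := by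
    rw [C.mem_cen]
    constructor
    · show g * (K : G) * g⁻¹ * C.e = C.e * (g * (K : G) * g⁻¹)
      calc g * (K : G) * g⁻¹ * C.e = g * ((K : G) * (g⁻¹ * C.e * g)) * g⁻¹ := by group
        _ = g * (g⁻¹ * C.e * g * K) * g⁻¹ := by rw [hKe']
        _ = C.e * (g * (K : G) * g⁻¹) := by group
    · show g * (K : G) * g⁻¹ * C.f = C.f * (g * (K : G) * g⁻¹)
      calc g * (K : G) * g⁻¹ * C.f = g * ((K : G) * (g⁻¹ * C.f * g)) * g⁻¹ := by group
        _ = g * (g⁻¹ * C.f * g * K) * g⁻¹ := by rw [hKf']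
        _ = C.f * (g * (K : G) * g⁻¹) := by group
  have hu : g * (u' : G) * g⁻¹ = g * (K : G) * g⁻¹ * z * (g * (K : G) * g⁻¹)⁻¹ := by
    rw [hu', Subgroup.coe_mul, Subgroup.coe_mul, Subgroup.coe_inv, hz']
    group
  have hzg' : g * (z' : G) * g⁻¹ = z := by rw [hz']; group
  have hne : D2.Φ u' ≠ v3 := by
    rw [hu', hKΦ]
    intro e
    have := diag3_facts.2.1
    rw [e, add_self_W] at this
    exact absurd this (by decide)
  refine ⟨g * (u' : G) * g⁻¹, ⟨⟨_, hγ, hu.symm⟩, fun e => hne ?_, ?_⟩, ?_⟩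
  · rw [show u' = z' from Subtype.ext (mul_left_cancel (mul_right_cancel (e.trans hzg'.symm)))]
    exact hv
  · have hc : Commute (u' : G) z' := congrArg Subtype.val ((D2.comm u' hu'Q z' hz'Q).2 (by
      rw [hu', hKΦ, hv]; exact diag3_facts.2.2.1))
    show g * (u' : G) * g⁻¹ * z = z * (g * (u' : G) * g⁻¹)
    calc g * (u' : G) * g⁻¹ * z = g * ((u' : G) * z') * g⁻¹ := by rw [hz']; group
      _ = g * ((z' : G) * u') * g⁻¹ := by rw [hc.eq]
      _ = z * (g * (u' : G) * g⁻¹) := by rw [hz']; group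
  · intro hconj
    have hm : u' * z' ∈ Q := mul_mem hu'Q hz'Q
    have hΦ : D2.Φ (u' * z') = diag3 v3 + v3 := by
      rw [D2.map_mul _ hu'Q _ hz'Q, hv, hu', hKΦ]
    have hne' : ((u' * z' : _) : G) ≠ z := fun e => by
      have := (D2.eq_zero _ hm).2 (Or.inr e)
      rw [hΦ] at this
      exact absurd ((lab_cases _).1.2 this) (by rw [diag3_facts.2.1]; decide)
    have hl := lab_of_isConj C.hF D2 hm (hconj.trans (isConj_iff.2 ⟨g⁻¹, by
      simp only [hu', Subgroup.coe_mul, Subgroup.coe_inv, hz']; group⟩)) hne'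
    rw [hΦ, diag3_facts.2.1] at hl
    exact absurd hl (by decide)

end U6Ctx

end H16.Fi24
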