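import Cfsg.Agent.H16.Fi24.OuterM23
import Cfsg.Agent.S2079
import Cfsg.Agent.S5450

/-!
The data around the outer involution, for the recognition of type M(24): the centraliser of the
involution `e`, the outer involution and its conjugate `e d`, and first consequences of
`F*(C(z)) = Q`.
-/

set_option autoImplicit false
set_option maxRecDepth 100000
set_option linter.style.haveILetI false
set_option linter.unusedSectionVars false

namespace H16.Fi24

open Cfsg

universe u

variable {X : Type u} [Group X] [Finite X] {G₀ : Subgroup X} {z : G₀}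
  {Q : Subgroup (Subgroup.centralizer ({z} : Set G₀))} [Q.Normal]

namespace U6Ctx

variable (C : U6Ctx z Q) (hidx : G₀.index = 2)

include hidx in
/-- The two outer elements are conjugate in the centraliser of the first generator. -/
theorem exists_shift (hI : C.Inner) {pt : G₀ → Fin 45} (hG : C.GLoc pt)
    (hFX : (generalizedFittingSubgroup ↥(Subgroup.centralizer ({(z : X)} : Set X))).map
      (Subgroup.subtype _) = (up Q).map G₀.subtype) {d : X} (hd : C.Mate d) :
    ∃ q : G₀, Commute q (C.e : G₀) ∧ (q : X) * d * (q : X)⁻¹ = ((C.e : G₀) : X) * d := by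
  haveI := Subgroup.normal_of_index_eq_two hI.index
  obtain ⟨c, hc⟩ := C.exists_not_comm hidx hI hG hFX hd
  have hce : Commute (c : G₀) (C.e : G₀) := Subgroup.mem_centralizer_singleton_iff.1 c.2
  refine ⟨(c : G₀), hce, ?_⟩
  set a : X := ((c : G₀) : X)
  have hae : Commute a ((C.e : G₀) : X) := congrArg Subtype.val hce.eq
  have hd' : C.Mate (a * d * a⁻¹) := by
    refine ⟨fun h => hd.notMem ?_, ?_, fun k hk => ?_⟩
    · have := conj_mem hidx a⁻¹ h
      simpa [a, mul_assoc] using this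
    · exact (hae.mul_left hd.comm_e).mul_left hae.inv_left
    · have hk' := Subgroup.Normal.conj_mem inferInstance k hk c⁻¹
      have := (hd.comm _ hk').map (MulAut.conj a).toMonoidHom
      simpa [a, mul_assoc] using this
  rcases C.mate_unique hidx hI hd hd' with h | h
  · exact absurd (mul_inv_eq_iff_eq_mul.1 (mul_inv_eq_one.1 h)).symm hc
  · exact mul_inv_eq_iff_eq_mul.1 h

end U6Ctx

/-- The data: the four-group context, the local structure, the outer involution and its conjugate. -/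
theorem exists_outer_data (G₀ : Subgroup X) (hidx : G₀.index = 2) {z : G₀}
    {Q : Subgroup (Subgroup.centralizer ({z} : Set G₀))} [Q.Normal] (hF : IsOfLargeFischerTypeAt z Q)
    (hcentral : ∃ P : Sylow 2 G₀, z ∈ (P : Subgroup G₀) ∧ ∀ x ∈ (P : Subgroup G₀), Commute x z)
    (hFX : (generalizedFittingSubgroup ↥(Subgroup.centralizer ({(z : X)} : Set X))).map
      (Subgroup.subtype _) = (Q.map (Subgroup.subtype _)).map G₀.subtype) :
    ∃ (C : U6Ctx z Q) (d : X), C.Inner ∧ C.Mate d ∧ orderOf d = 2 ∧ Commute d (z : X) ∧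
      (∀ x ∈ C.cen, Commute d (x : X)) ∧
      (∃ q : G₀, Commute q (C.e : G₀) ∧ (q : X) * d * (q : X)⁻¹ = ((C.e : G₀) : X) * d) ∧
      ∃ h : G₀, h * C.e * h⁻¹ = C.f ∧ Commute (h : X) d := by
  obtain ⟨C⟩ := nonempty_U6Ctx hF
  obtain ⟨pt, hG⟩ := U6Ctx.exists_gloc C C.exists_fused
  haveI : ((Subgroup.zpowers (C.e : G₀)).subgroupOf C.Ce).Normal := by
    refine ⟨fun n hn g => ?_⟩
    obtain ⟨i, hi⟩ := hn
    have hc : Commute (g : G₀) ((n : C.Ce) : G₀) := by
      rw [← show (C.e : G₀) ^ i = ((n : C.Ce) : G₀) from hi]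
      exact Commute.zpow_right (Subgroup.mem_centralizer_singleton_iff.1 g.2) i
    rw [show g * n * g⁻¹ = n from mul_inv_eq_of_eq_mul (Subtype.ext hc.eq)]
    exact ⟨i, hi⟩
  have hI : C.Inner := C.inner Cfsg.Agent.S2079.result
    (Cfsg.Agent.S5450.result z Q hF _ ⟨C.e.2, C.he⟩ C.order_e C.e_ne.2.2 _ rfl)
  obtain ⟨a, ha, -, hae⟩ := C.exists_outer hidx hcentral hFX
  obtain ⟨d0, hd0⟩ := C.exists_mate hidx hI ha hae
  obtain ⟨d, hd, h, hef, hhd⟩ := C.exists_fixed_mate hidx hI hG hd0
  have hd2 : orderOf d = 2 :=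
    orderOf_eq_prime (by rw [pow_two]; exact C.sq_eq_one hidx hI hG hFX hd)
      (fun e => hd.notMem (e ▸ one_mem _))
  exact ⟨C, d, hI, hd, hd2, C.comm_z hI hG hd, fun x hx => C.comm_cen hI hG hd hx,
    C.exists_shift hidx hI hG hFX hd, h, hef, hhd⟩

/-- Nothing but one centralises the subgroup of index two. -/
theorem centralizer_eq_bot (G₀ : Subgroup X) {z : G₀}
    {Q : Subgroup (Subgroup.centralizer ({z} : Set G₀))} [Q.Normal] (hF : IsOfLargeFischerTypeAt z Q)
    (hFX : (generalizedFittingSubgroup ↥(Subgroup.centralizer ({(z : X)} : Set X))).map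
      (Subgroup.subtype _) = (Q.map (Subgroup.subtype _)).map G₀.subtype) :
    Subgroup.centralizer (G₀ : Set X) = ⊥ := by
  obtain ⟨D⟩ := nonempty_model hF
  rw [eq_bot_iff]
  intro x hx
  have hxg : ∀ g : G₀, (g : X) * x = x * g := fun g => Subgroup.mem_centralizer_iff.1 hx g g.2
  have hmem : (⟨x, Subgroup.mem_centralizer_singleton_iff.2 (hxg z).symm⟩ :
      Subgroup.centralizer ({(z : X)} : Set X)) ∈
      generalizedFittingSubgroup ↥(Subgroup.centralizer ({(z : X)} : Set X)) := by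
    refine Cfsg.Agent.S1265.result (G := Subgroup.centralizer ({(z : X)} : Set X))
      (Subgroup.mem_centralizer_iff.2 fun w hw => ?_)
    obtain ⟨_, ⟨q, -, rfl⟩, hwe⟩ : (w : X) ∈ (Q.map (Subgroup.subtype _)).map G₀.subtype :=
      hFX ▸ ⟨w, hw, rfl⟩
    refine Subtype.ext ?_
    show (w : X) * x = x * w
    rw [← hwe]
    exact hxg (q : G₀)
  obtain ⟨_, ⟨c, hc, rfl⟩, hce⟩ : x ∈ (Q.map (Subgroup.subtype _)).map G₀.subtype :=
    hFX ▸ ⟨_, hmem, rfl⟩
  have hcg : ∀ g : G₀, g * (c : G₀) = (c : G₀) * g := fun g => Subtype.ext (by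
    show (g : X) * ((c : G₀) : X) = ((c : G₀) : X) * g
    rw [show ((c : G₀) : X) = x from hce]
    exact hxg g)
  have h0 : D.Φ c = 0 := by
    by_contra hne
    obtain ⟨y, -, hy⟩ := D.exists_move hc hne
    exact hy (Subtype.ext (hcg (y : G₀)).symm)
  rcases (D.eq_zero c hc).1 h0 with h | h
  · rw [Subgroup.mem_bot, ← hce]
    exact congrArg Subtype.val h
  · exfalso
    obtain ⟨s, -, hs, hsz⟩ := exists_conjugate hF
    obtain ⟨g, hg⟩ := isConj_iff.1 hs
    refine hsz (hg.symm.trans (mul_inv_eq_of_eq_mul ?_))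
    rw [← h]
    exact hcg g

/-- There is no odd core. -/
theorem oddCore_eq_bot (G₀ : Subgroup X) {z : G₀}
    {Q : Subgroup (Subgroup.centralizer ({z} : Set G₀))} [Q.Normal] (hF : IsOfLargeFischerTypeAt z Q)
    {W : Subgroup G₀} [W.Normal] (hW : Odd (Nat.card W)) : W = ⊥ := by
  obtain ⟨D⟩ := nonempty_model hF
  have hz : orderOf z = 2 := hF.1.1
  have hzz : z * z = 1 := by rw [← pow_two, ← hz, pow_orderOf_eq_one]
  -- an element of the core commuting with `z` is trivial
  have fix : ∀ w ∈ W, w * z = z * w → w = 1 := by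
    intro w hw hwz
    set w' : Subgroup.centralizer ({z} : Set G₀) := ⟨w, Subgroup.mem_centralizer_singleton_iff.2 hwz⟩
    have hQ : Disjoint Q (W.subgroupOf (Subgroup.centralizer ({z} : Set G₀))) := by
      rw [disjoint_iff, Subgroup.eq_bot_iff_forall]
      rintro x ⟨hxQ, hxW⟩
      have h1 : orderOf x ∣ 2 ^ 13 := by
        have h := (Subgroup.orderOf_dvd_natCard Q hxQ)
        rwa [hF.1.2.2.2.1] at h
      have h2 : orderOf x ∣ Nat.card W := by
        rw [← orderOf_injective (Subgroup.subtype _) Subtype.val_injective x]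
        exact Subgroup.orderOf_dvd_natCard W hxW
      have hcop : Nat.Coprime (2 ^ 13) (Nat.card W) :=
        Nat.Coprime.pow_left _ ((Nat.prime_two.coprime_iff_not_dvd).2 (by
          rw [← even_iff_two_dvd]; exact Nat.not_even_iff_odd.2 hW))
      exact orderOf_eq_one_iff.1 (Nat.eq_one_of_dvd_coprimes hcop h1 h2)
    have hcomm : ∀ q ∈ Q, q * w' = w' * q := fun q hq =>
      Subgroup.commute_of_normal_of_disjoint Q _ inferInstance inferInstance hQ q w' hq hw
    have hwQ : w' ∈ Q := by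
      rw [← hF.1.2.1]
      exact Cfsg.Agent.S1265.result (G := Subgroup.centralizer ({z} : Set G₀))
        (Subgroup.mem_centralizer_iff.2 fun q hq => hcomm q (hF.1.2.1 ▸ hq))
    exact congrArg Subtype.val (Subgroup.mem_bot.1
      (hQ.le_bot ⟨hwQ, Subgroup.mem_subgroupOf.2 hw⟩))
  -- so every conjugate of `z` inverts the core
  have inv : ∀ u : G₀, IsConj z u → ∀ w ∈ W, u * w * u⁻¹ = w⁻¹ := by
    intro u hu
    obtain ⟨g, rfl⟩ := isConj_iff.1 hu
    have key : ∀ w ∈ W, z * w * z⁻¹ = w⁻¹ := by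
      intro w hw
      let φ : W →* W := (MulAut.conjNormal z).toMonoidHom
      have hφ2 : Function.Involutive φ := fun a => Subtype.ext (by
        show z * (z * a * z⁻¹) * z⁻¹ = a
        rw [show z * (z * a * z⁻¹) * z⁻¹ = z * z * a * (z * z)⁻¹ by group, hzz]
        simp)
      have hfix : MonoidHom.FixedPointFree φ := fun a ha => Subtype.ext (fix a a.2 (by
        have h := congrArg Subtype.val ha
        exact (mul_inv_eq_iff_eq_mul.1 h).symm))
      exact congrArg Subtype.val (congrFun (hfix.coe_eq_inv_of_involutive hφ2) ⟨w, hw⟩)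
    intro w hw
    have hw' := key (g⁻¹ * w * g) (by simpa using (inferInstance : W.Normal).conj_mem w hw g⁻¹)
    calc g * z * g⁻¹ * w * (g * z * g⁻¹)⁻¹ = g * (z * (g⁻¹ * w * g) * z⁻¹) * g⁻¹ := by group
      _ = w⁻¹ := by rw [hw']; group
  obtain ⟨s, hs, hsc, hsz⟩ := exists_conjugate hF
  have hl := lab_of_isConj hF D hs hsc hsz
  have hne : ((s * zc z : _) : G₀) ≠ z := fun e => by
    have h1 : (s : G₀) = 1 := mul_eq_right.1 e
    rw [(D.eq_zero s hs).2 (Or.inl h1), (lab_cases 0).1.2 rfl] at hl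
    omega
  have hsz' : IsConj z ((s * zc z : _) : G₀) := by
    refine (isConj_iff_lab hF D (mul_mem hs D.zc_mem) hne).2 ?_
    rw [D.map_mul s hs _ D.zc_mem, (D.eq_zero _ D.zc_mem).2 (Or.inr rfl), add_zero]
    exact hl
  rw [Subgroup.eq_bot_iff_forall]
  intro w hw
  have h1 := inv _ hsc w hw
  have h2 := inv _ hsz' w hw
  have h3 := inv z (IsConj.refl z) w hw
  have h4 : w⁻¹ = w := by
    calc w⁻¹ = ((s * zc z : _) : G₀) * w * ((s * zc z : _) : G₀)⁻¹ := h2.symm
      _ = (s : G₀) * (z * w * z⁻¹) * (s : G₀)⁻¹ := by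
        show (s : G₀) * z * w * ((s : G₀) * z)⁻¹ = _
        group
      _ = ((s : G₀) * w * (s : G₀)⁻¹)⁻¹ := by rw [h3, conj_inv]
      _ = w := by rw [h1, inv_inv]
  have h5 : w * w = 1 := by nth_rewrite 1 [← h4]; exact inv_mul_cancel w
  by_contra hw1
  have h6 : orderOf w = 2 := orderOf_eq_prime (by rw [pow_two]; exact h5) hw1
  exact (Nat.not_even_iff_odd.2 hW) (even_iff_two_dvd.2 (h6 ▸ Subgroup.orderOf_dvd_natCard W hw))

end H16.Fi24
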