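import Cfsg.Agent.H16.Fi24.Outer
import Cfsg.Agent.H7.Fi24L.Cert

/-!
The outer element is an involution, does not centralise the whole centraliser of the involution, and
can be chosen commuting with an element exchanging the generators of the four-group.
-/

set_option autoImplicit false
set_option maxRecDepth 100000
set_option linter.style.haveILetI false
set_option linter.unusedSectionVars false

namespace H16.Fi24

open Cfsg
open H7.Fi24L (Bf_add Bf_comm add_self_W)

universe u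

variable {X : Type u} [Group X] [Finite X] {G₀ : Subgroup X} {z : G₀}
  {Q : Subgroup (Subgroup.centralizer ({z} : Set G₀))} [Q.Normal]

namespace U6Ctx

variable (C : U6Ctx z Q)

/-- An element of `Q` in the ambient group. -/
abbrev bigQ (r : Subgroup.centralizer ({z} : Set G₀)) : X := ((r : G₀) : X)

variable (hidx : G₀.index = 2) (hI : C.Inner) {pt : G₀ → Fin 45} (hG : C.GLoc pt)
  (hFX : (generalizedFittingSubgroup ↥(Subgroup.centralizer ({(z : X)} : Set X))).map
      (Subgroup.subtype _) = (up Q).map G₀.subtype)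
  {d : X} (hd : C.Mate d)

include hI hG hd in
theorem comm_z : Commute d (z : X) := C.comm_cen hI hG hd C.z_mem_cen

include hI hG hFX hd in
/-- Conjugation by the outer element inside `Q`. -/
theorem exists_act {r : Subgroup.centralizer ({z} : Set G₀)} (hr : r ∈ Q) :
    ∃ s ∈ Q, d * bigQ r * d⁻¹ = bigQ s := by
  have h : bigQ r ∈ (up Q).map G₀.subtype := ⟨r, mem_up.2 hr, rfl⟩
  rw [← hFX] at h
  obtain ⟨w, hw, hwe⟩ := h
  have hw' := Subgroup.Normal.conj_mem inferInstance w hw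
    (⟨d, Subgroup.mem_centralizer_singleton_iff.2 (C.comm_z hI hG hd).eq⟩ :
      Subgroup.centralizer ({(z : X)} : Set X))
  have h2 : d * bigQ r * d⁻¹ ∈ (up Q).map G₀.subtype := by
    rw [← hFX, ← hwe]
    exact ⟨_, hw', rfl⟩
  obtain ⟨w', hw', e⟩ := h2
  obtain ⟨s, hs, rfl⟩ := hw'
  exact ⟨s, hs, e.symm⟩

theorem bigQ_mul (a b : Subgroup.centralizer ({z} : Set G₀)) : bigQ (a * b) = bigQ a * bigQ b := rfl

theorem bigQ_inj {a b : Subgroup.centralizer ({z} : Set G₀)} (h : bigQ a = bigQ b) : a = b :=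
  Subtype.ext (Subtype.ext h)

/-- Commutation is kept. -/
theorem act_comm {d : X} {r s p : Subgroup.centralizer ({z} : Set G₀)}
    (e : d * bigQ r * d⁻¹ = bigQ s) (hp : Commute d (bigQ p)) : r * p = p * r ↔ s * p = p * s := by
  have hc : d * bigQ p * d⁻¹ = bigQ p := mul_inv_eq_of_eq_mul hp.eq
  constructor <;> intro h <;> refine bigQ_inj ?_ <;> rw [bigQ_mul, bigQ_mul]
  · have h' := congrArg bigQ h
    rw [bigQ_mul, bigQ_mul] at h'
    rw [← e]
    calc d * bigQ r * d⁻¹ * bigQ p = d * bigQ r * d⁻¹ * (d * bigQ p * d⁻¹) := by rw [hc]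
      _ = d * (bigQ r * bigQ p) * d⁻¹ := by group
      _ = d * (bigQ p * bigQ r) * d⁻¹ := by rw [h']
      _ = (d * bigQ p * d⁻¹) * (d * bigQ r * d⁻¹) := by group
      _ = _ := by rw [hc]
  · have h' := congrArg bigQ h
    rw [bigQ_mul, bigQ_mul, ← e] at h'
    refine mul_left_cancel (a := d) (mul_right_cancel (b := d⁻¹) ?_)
    calc d * (bigQ r * bigQ p) * d⁻¹ = d * bigQ r * d⁻¹ * (d * bigQ p * d⁻¹) := by group
      _ = bigQ p * (d * bigQ r * d⁻¹) := by rw [hc, h']
      _ = d * bigQ p * d⁻¹ * (d * bigQ r * d⁻¹) := by rw [hc]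
      _ = _ := by group

include hI hG hFX hd in
/-- The displacement is orthogonal to everything fixed. -/
theorem displacement {r : Subgroup.centralizer ({z} : Set G₀)} (hr : r ∈ Q) :
    ∃ s ∈ Q, d * bigQ r * d⁻¹ = bigQ s ∧
      ∀ p ∈ Q, Commute d (bigQ p) → Bf (C.D.Φ (r⁻¹ * s)) (C.D.Φ p) = 0 := by
  obtain ⟨s, hs, e⟩ := C.exists_act hI hG hFX hd hr
  refine ⟨s, hs, e, fun p hp hc => ?_⟩
  have h := act_comm e hc
  rw [C.D.comm r hr p hp, C.D.comm s hs p hp] at h
  have hsum : C.D.Φ (r⁻¹ * s) = C.D.Φ r + C.D.Φ s := by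
    have := C.D.map_mul r hr _ (mul_mem (inv_mem hr) hs)
    rw [mul_inv_cancel_left] at this
    rw [this, ← add_assoc, add_self_W, zero_add]
  rw [hsum, Bf_add]
  exact (show ∀ a b : ZMod 2, (a = 0 ↔ b = 0) → a + b = 0 by decide) _ _ h

include hI hG hd in
theorem comm_perp {p : Subgroup.centralizer ({z} : Set G₀)} (hp : p ∈ Q)
    (h1 : Bf (C.D.Φ p) v2 = 0) (h2 : Bf (C.D.Φ p) (wW v2) = 0) : Commute d (bigQ p) :=
  C.comm_cen hI hG hd ((C.Q_mem_cen hp).2 ⟨h1, h2⟩)

include hI hG hFX hd in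
/-- The displacement lies in the orthogonal of the orthogonal of the line. -/
theorem displacement_perp {r s : Subgroup.centralizer ({z} : Set G₀)}
    (h : ∀ p ∈ Q, Commute d (bigQ p) → Bf (C.D.Φ (r⁻¹ * s)) (C.D.Φ p) = 0) :
    ∀ q ∈ perpGens, Bf (C.D.Φ (r⁻¹ * s)) q = 0 := by
  intro q hq
  obtain ⟨p, hp, rfl⟩ := C.D.surj q
  obtain ⟨h1, h2⟩ := perpGens_facts.1 _ hq
  exact h p hp (C.comm_perp hI hG hd hp h1 h2)

include hidx hI hG hFX hd in
/-- The outer element is an involution. -/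
theorem sq_eq_one : d * d = 1 := by
  have hdd : d * d ∈ G₀ := Subgroup.mul_self_mem_of_index_two hidx d
  have hde : Commute (d * d) ((C.e : G₀) : X) := hd.comm_e.mul_left hd.comm_e
  set c : C.Ce := ⟨⟨d * d, hdd⟩, Subgroup.mem_centralizer_singleton_iff.2 (Subtype.ext hde.eq)⟩
  rcases hI.small c (fun k hk =>
    (Subtype.ext (Subtype.ext ((hd.comm k hk).mul_left (hd.comm k hk)).eq) : c * k = k * c).symm) with h | h
  · exact congrArg Subtype.val h
  exfalso
  have he : d * d = ((C.e : G₀) : X) := congrArg Subtype.val h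
  obtain ⟨y, hy, hne⟩ := C.D.exists_move C.he (by rw [C.e_img]; exact v2_facts.2.2.2.2.1)
  obtain ⟨s, hs, e1, hx⟩ := C.displacement hI hG hFX hd hy
  obtain ⟨a, b, hq, -⟩ := perp_perp _ (C.displacement_perp hI hG hFX hd hx)
  set x := y⁻¹ * s with hxdef
  have hxQ : x ∈ Q := mul_mem (inv_mem hy) hs
  have hxx : x * x = 1 := (C.D.sq x hxQ).2 hq
  have hdx : d * bigQ x * d⁻¹ = bigQ x := mul_inv_eq_of_eq_mul (C.comm_perp hI hG hd hxQ a b).eq
  have hs' : bigQ s = bigQ y * bigQ x := by rw [← bigQ_mul, hxdef, mul_inv_cancel_left]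
  refine hne (bigQ_inj ?_)
  rw [bigQ_mul, bigQ_mul, show bigQ C.e = d * d from he.symm]
  refine mul_inv_eq_iff_eq_mul.1 ?_
  calc d * d * bigQ y * (d * d)⁻¹ = d * (d * bigQ y * d⁻¹) * d⁻¹ := by group
    _ = d * (bigQ y * bigQ x) * d⁻¹ := by rw [e1, hs']
    _ = (d * bigQ y * d⁻¹) * (d * bigQ x * d⁻¹) := by group
    _ = bigQ y * (bigQ x * bigQ x) := by rw [e1, hdx, hs', mul_assoc]
    _ = bigQ y := by rw [← bigQ_mul, hxx]; exact mul_one _

include hidx hI hG hFX hd in
/-- It does not centralise the whole centraliser of the involution. -/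
theorem exists_not_comm : ∃ c : C.Ce, ¬ Commute d ((c : G₀) : X) := by
  by_contra hn
  push Not at hn
  have fix : ∀ p ∈ Q, Bf (C.D.Φ p) v2 = 0 → Commute d (bigQ p) := fun p hp h =>
    hn ⟨(p : G₀), Subgroup.mem_centralizer_singleton_iff.2
      (congrArg Subtype.val ((C.D.comm p hp _ C.he).2 (by rw [C.e_img]; exact h)))⟩
  obtain ⟨hg, hr1, hr2, ht1, ht2⟩ := perpGens_facts
  obtain ⟨r, hr, hr'⟩ := C.D.surj (Pi.single 0 (0, 1))
  obtain ⟨p1, hp1, hp1'⟩ := C.D.surj (Pi.single 0 (1, 0))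
  obtain ⟨s, hs, e, hx⟩ := C.displacement hI hG hFX hd hr
  obtain ⟨a, b, hq, hc⟩ := perp_perp _ (C.displacement_perp hI hG hFX hd hx)
  have hv : C.D.Φ (r⁻¹ * s) = 0 ∨ C.D.Φ (r⁻¹ * s) = v2 := by
    refine hc ?_
    rw [← hp1']
    exact hx p1 hp1 (fix p1 hp1 (by rw [hp1']; exact ht1))
  have hzz : (z : X) * (z : X) = 1 := congrArg bigQ C.zc_sq
  have hv0 : C.D.Φ (r⁻¹ * s) = 0 := by
    refine hv.resolve_right fun h => ?_
    have hrr : r * r = 1 ↔ s * s = 1 := by
      constructor <;> intro h' <;> refine bigQ_inj ?_ <;> rw [bigQ_mul]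
      · rw [← e, show d * bigQ r * d⁻¹ * (d * bigQ r * d⁻¹) = d * (bigQ r * bigQ r) * d⁻¹ by group,
          ← bigQ_mul, h']
        show d * 1 * d⁻¹ = 1
        group
      · have h2 := congrArg bigQ h'
        rw [bigQ_mul, ← e] at h2
        have h3 : d * (bigQ r * bigQ r) * d⁻¹ = 1 := by
          rw [← show bigQ (1 : Subgroup.centralizer ({z} : Set G₀)) = (1 : X) from rfl, ← h2]
          group
        exact conj_eq_one_iff.1 h3
    rw [C.D.sq r hr, C.D.sq s hs] at hrr
    have hsum : C.D.Φ s = C.D.Φ r + v2 := by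
      rw [← h, ← C.D.map_mul r hr _ (mul_mem (inv_mem hr) hs), mul_inv_cancel_left]
    rw [hsum, hr'] at hrr
    exact absurd hrr (by decide)
  -- an element outside centralising `Q`
  have key : ∀ y : X, y ∉ G₀ → Commute y (z : X) → Commute y (bigQ r) →
      (∀ p ∈ Q, Bf (C.D.Φ p) v2 = 0 → Commute y (bigQ p)) → False := by
    intro y hy hyz hyr hyp
    have hall : ∀ q ∈ Q, Commute y (bigQ q) := by
      intro q hq
      rcases (show ∀ a : ZMod 2, a = 0 ∨ a = 1 by decide) (Bf (C.D.Φ q) v2) with h | h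
      · exact hyp q hq h
      · have h1 : Commute y (bigQ (r * q)) := hyp _ (mul_mem hr hq) (by
          rw [C.D.map_mul r hr q hq, Bf_add, hr', hr1, h]; decide)
        rw [bigQ_mul] at h1
        simpa using (hyr.inv_right).mul_right h1
    refine hy ?_
    have hmem : (⟨y, Subgroup.mem_centralizer_singleton_iff.2 hyz.eq⟩ :
        Subgroup.centralizer ({(z : X)} : Set X)) ∈
        generalizedFittingSubgroup ↥(Subgroup.centralizer ({(z : X)} : Set X)) := by
      refine Cfsg.Agent.S1265.result (G := Subgroup.centralizer ({(z : X)} : Set X))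
        (Subgroup.mem_centralizer_iff.2 fun w hw => ?_)
      obtain ⟨_, ⟨q, hq, rfl⟩, hwe⟩ : (w : X) ∈ (up Q).map G₀.subtype :=
        hFX ▸ ⟨w, hw, rfl⟩
      refine Subtype.ext ?_
      show (w : X) * y = y * w
      rw [← hwe]
      exact (hall q hq).eq.symm
    obtain ⟨w, -, hwe⟩ : y ∈ (up Q).map G₀.subtype := hFX ▸ ⟨_, hmem, rfl⟩
    exact hwe ▸ w.2
  have hdz := C.comm_z hI hG hd
  rcases (C.D.eq_zero _ (mul_mem (inv_mem hr) hs)).1 hv0 with h | h
  · have h' : r = s := inv_mul_eq_one.1 (Subtype.ext h)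
    rw [← h'] at e
    exact key d hd.notMem hdz (mul_inv_eq_iff_eq_mul.1 e) fix
  · refine key (d * ((C.e : G₀) : X)) ?_ ?_ ?_ ?_
    · rw [Subgroup.mul_mem_iff_of_index_two hidx]
      exact fun h' => hd.notMem (h'.2 (C.e : G₀).2)
    · exact hdz.mul_left (congrArg bigQ (zc_comm C.e))
    · have he' : bigQ C.e * bigQ r * (bigQ C.e)⁻¹ = bigQ r * (z : X) := by
        have := (C.conj_Q C.he hr).2 (by rw [C.e_img, hr', Bf_comm, hr1]; decide)
        exact congrArg bigQ this
      have hsr : bigQ s = bigQ r * (z : X) := by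
        rw [← show bigQ (r⁻¹ * s) = (z : X) from congrArg Subtype.val h, ← bigQ_mul, mul_inv_cancel_left]
      refine mul_inv_eq_iff_eq_mul.1 ?_
      calc d * bigQ C.e * bigQ r * (d * bigQ C.e)⁻¹
          = d * (bigQ C.e * bigQ r * (bigQ C.e)⁻¹) * d⁻¹ := by group
        _ = (d * bigQ r * d⁻¹) * (d * (z : X) * d⁻¹) := by rw [he']; group
        _ = bigQ r * ((z : X) * z) := by rw [e, hsr, mul_inv_eq_of_eq_mul hdz.eq, mul_assoc]
        _ = bigQ r := by rw [hzz, mul_one]
    · intro p hp h'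
      exact (fix p hp h').mul_left
        (congrArg bigQ ((C.D.comm _ C.he p hp).2 (by rw [C.e_img, Bf_comm]; exact h')))

include hidx hI in
/-- Two outer mates differ by a power of the involution. -/
theorem mate_unique {d d' : X} (hd : C.Mate d) (hd' : C.Mate d') :
    d' * d⁻¹ = 1 ∨ d' * d⁻¹ = ((C.e : G₀) : X) := by
  have hG0 : d' * d⁻¹ ∈ G₀ := by
    rw [Subgroup.mul_mem_iff_of_index_two hidx, inv_mem_iff]
    exact iff_of_false hd'.notMem hd.notMem
  have hc : Commute (d' * d⁻¹) ((C.e : G₀) : X) := hd'.comm_e.mul_left hd.comm_e.inv_left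
  set c : C.Ce := ⟨⟨d' * d⁻¹, hG0⟩, Subgroup.mem_centralizer_singleton_iff.2 (Subtype.ext hc.eq)⟩
  rcases hI.small c (fun k hk => (Subtype.ext (Subtype.ext
    ((hd'.comm k hk).mul_left (hd.comm k hk).inv_left).eq) : c * k = k * c).symm) with h | h
  · exact Or.inl (congrArg Subtype.val h)
  · exact Or.inr (congrArg Subtype.val h)

theorem Mate.mul_e {d : X} (hd : C.Mate d) (hidx : G₀.index = 2) :
    C.Mate (((C.e : G₀) : X) * d) := by
  refine ⟨mul_notMem hidx (C.e : G₀).2 hd.notMem, (Commute.refl _).mul_left hd.comm_e,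
    fun k hk => Commute.mul_left ?_ (hd.comm k hk)⟩
  exact (congrArg Subtype.val (Subgroup.mem_centralizer_singleton_iff.1 (k : C.Ce).2)).symm

include hidx hI hG in
/-- A mate commuting with an element exchanging the generators. -/
theorem exists_fixed_mate {d : X} (hd : C.Mate d) :
    ∃ d' : X, C.Mate d' ∧ ∃ h : G₀, h * C.e * h⁻¹ = C.f ∧ Commute (h : X) d' := by
  obtain ⟨hh, heH, hfH⟩ := C.exists_exchange
  set h : G₀ := (hh : G₀) with hdef
  have heq : h * C.e * h⁻¹ = C.f := congrArg Subtype.val heH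
  have hfq : h * C.f * h⁻¹ = C.e := congrArg Subtype.val hfH
  set ee : X := ((C.e : G₀) : X) with hee
  set ff : X := ((C.f : G₀) : X) with hff
  set H : X := (h : X) with hH
  have he : H * ee * H⁻¹ = ff := congrArg Subtype.val heq
  have hf : H * ff * H⁻¹ = ee := congrArg Subtype.val hfq
  -- the conjugate commutes with the four-group's centraliser
  set d₁ := H * d * H⁻¹ with hd₁
  have hn1 : d₁ ∉ G₀ := fun hm => hd.notMem (by
    simpa [hd₁, hH, mul_assoc] using conj_mem hidx (h : X)⁻¹ hm)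
  have hc1 : ∀ x ∈ C.cen, Commute d₁ (x : X) := by
    intro x hx
    have hx' : h⁻¹ * x * h ∈ C.cen := by
      obtain ⟨a, b⟩ := C.mem_cen.1 hx
      refine C.mem_cen.2 ⟨?_, ?_⟩
      · have : (C.e : G₀) = h⁻¹ * C.f * h := by rw [← heq]; group
        rw [this]
        simpa using b.map (MulAut.conj h⁻¹).toMonoidHom
      · have : (C.f : G₀) = h⁻¹ * C.e * h := by rw [← hfq]; group
        rw [this]
        simpa using a.map (MulAut.conj h⁻¹).toMonoidHom
    have := (C.comm_cen hI hG hd hx').map (MulAut.conj H).toMonoidHom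
    simpa [hd₁, hH, mul_assoc] using this
  have hM0 : d₁ * d⁻¹ ∈ G₀ := by
    rw [Subgroup.mul_mem_iff_of_index_two hidx, inv_mem_iff]
    exact iff_of_false hn1 hd.notMem
  have hcomm : ∀ x ∈ C.cen, Commute (d₁ * d⁻¹) ((x : G₀) : X) := fun x hx =>
    (hc1 x hx).mul_left (C.comm_cen hI hG hd hx).inv_left
  have hεC : (⟨d₁ * d⁻¹, hM0⟩ : G₀) ∈ C.cen :=
    C.mem_cen.2 ⟨Subtype.ext (hcomm _ (C.mem_cen.2 ⟨Commute.refl _, C.commute_ef⟩)).eq,
      Subtype.ext (hcomm _ (C.mem_cen.2 ⟨C.commute_ef.symm, Commute.refl _⟩)).eq⟩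
  have hεF : (⟨d₁ * d⁻¹, hM0⟩ : G₀) ∈ C.four := by
    have : (⟨_, hεC⟩ : C.cen) ∈ Subgroup.center C.cen :=
      Subgroup.mem_center_iff.2 fun g => Subtype.ext (Subtype.ext (hcomm g g.2).eq.symm)
    rw [(H75.U6Quot.quasisimple hG).2] at this
    exact this
  -- the second conjugate is again a mate
  have h2e : (h * h : G₀) ∈ C.Ce := by
    refine Subgroup.mem_centralizer_singleton_iff.2 (mul_inv_eq_iff_eq_mul.1 ?_)
    rw [mul_inv_rev, show h * h * C.e * (h⁻¹ * h⁻¹) = h * (h * C.e * h⁻¹) * h⁻¹ by group, heq, hfq]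
  have hd2 : C.Mate (H * d₁ * H⁻¹) := by
    haveI := Subgroup.normal_of_index_eq_two hI.index
    refine ⟨fun hm => hn1 (by simpa [hH, mul_assoc] using conj_mem hidx (h : X)⁻¹ hm), ?_,
      fun k hk => ?_⟩
    · have := ((hc1 C.f (C.mem_cen.2 ⟨C.commute_ef.symm, Commute.refl _⟩))).map
        (MulAut.conj H).toMonoidHom
      simp only [MulEquiv.coe_toMonoidHom, MulAut.conj_apply] at this
      rwa [← hff, hf] at this
    · set c : C.Ce := ⟨h * h, h2e⟩
      have hk' := Subgroup.Normal.conj_mem inferInstance k hk c⁻¹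
      have := (hd.comm _ hk').map (MulAut.conj (H * H)).toMonoidHom
      simpa [c, hd₁, hH, mul_assoc] using this
  have hmu := C.mate_unique hidx hI hd hd2
  have hH2 : H * d₁ * H⁻¹ * d⁻¹ = H * (d₁ * d⁻¹) * H⁻¹ * (d₁ * d⁻¹) := by
    rw [hd₁]; group
  rw [hH2] at hmu
  rcases (C.mem_four.1 hεF) with h1 | h1 | h1 | h1
  all_goals
    have h1' := congrArg Subtype.val h1
    simp only [OneMemClass.coe_one, Subgroup.coe_mul] at h1'
  · refine ⟨d, hd, h, heq, ?_⟩
    have : d₁ = d := mul_inv_eq_one.1 h1'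
    exact mul_inv_eq_iff_eq_mul.1 this
  · exfalso
    rw [show d₁ * d⁻¹ = ee from h1', he] at hmu
    rcases hmu with h3 | h3
    · have h4 : ff = ee := by
        calc ff = (ff * ee) * ee⁻¹ := by group
          _ = ee⁻¹ := by rw [h3, one_mul]
          _ = ee := inv_eq_of_mul_eq_one_right (congrArg Subtype.val C.e_sq)
      exact absurd (congrArg C.D.Φ (bigQ_inj h4)) (by rw [C.e_img, C.f_img]; decide)
    · have h4 : ff = 1 := mul_eq_right.1 h3
      exact absurd ((C.D.eq_zero _ C.hf').2 (Or.inl (Subtype.ext h4))) (by rw [C.f_img]; decide)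
  · exfalso
    rw [show d₁ * d⁻¹ = ff from h1', hf] at hmu
    rcases hmu with h3 | h3
    · have h4 : ff = ee := by
        calc ff = ee⁻¹ * (ee * ff) := by group
          _ = ee⁻¹ := by rw [h3, mul_one]
          _ = ee := inv_eq_of_mul_eq_one_right (congrArg Subtype.val C.e_sq)
      exact absurd (congrArg C.D.Φ (bigQ_inj h4)) (by rw [C.e_img, C.f_img]; decide)
    · have h4 : ff = 1 := mul_eq_left.1 h3
      exact absurd ((C.D.eq_zero _ C.hf').2 (Or.inl (Subtype.ext h4))) (by rw [C.f_img]; decide)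
  · refine ⟨ee * d, hd.mul_e C hidx, h, heq, ?_⟩
    have h3 : d₁ = ee * ff * d := mul_inv_eq_iff_eq_mul.1 h1'
    refine mul_inv_eq_iff_eq_mul.1 ?_
    show H * (ee * d) * H⁻¹ = ee * d
    calc H * (ee * d) * H⁻¹ = (H * ee * H⁻¹) * d₁ := by rw [hd₁]; group
      _ = (ff * ee) * ff * d := by rw [he, h3]; group
      _ = (ee * ff) * ff * d := by rw [show ff * ee = ee * ff from (congrArg Subtype.val C.commute_ef.eq).symm]
      _ = ee * d := by
        rw [mul_assoc ee ff ff, show ff * ff = 1 from congrArg Subtype.val C.ef_sq.2, mul_one]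

end U6Ctx

end H16.Fi24
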