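import Cfsg.Agent.H16.Fi24.Anti

/-!
The stabiliser of a conjugate of the central involution modulo the attached group is `A₆`.
-/

set_option autoImplicit false
set_option maxRecDepth 100000

namespace H16.Fi24

open Cfsg

universe u

variable {G : Type u} [Group G] [Finite G] {z : G}
  {Q : Subgroup (Subgroup.centralizer ({z} : Set G))} [Q.Normal]

/-- The stabiliser of the standard vector in the image. -/
def Model.stab3 (D : Model z Q) : Subgroup (Equiv.Perm W) :=
  D.ρ.range ⊓ MulAction.stabilizer (Equiv.Perm W) v3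

omit [Finite G] in
theorem Model.stab3_le (D : Model z Q) : D.stab3 ≤ Sym3 := fun _ hg => D.sym3_of_fix hg.1 hg.2

theorem v3_lab : lab v3 = 3 := by decide +kernel

variable {s : Subgroup.centralizer ({z} : Set G)} {g : G}

theorem Fused.le_stab3 (hA : Fused z Q s g) (D : Model z Q) (hs : s ∈ Q) (hv : D.Φ s = v3) :
    (att Q g).map D.ρ ≤ D.stab3 := fun e he =>
  ⟨by obtain ⟨x, -, rfl⟩ := he; exact ⟨x, rfl⟩, hv ▸ hA.image_fix D hs e he⟩

theorem Fused.stab_struct (hA : Fused z Q s g) (D : Model z Q) (hs : s ∈ Q) (hv : D.Φ s = v3) :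
    (psi.comp (Subgroup.inclusion D.stab3_le)).ker = ((att Q g).map D.ρ).subgroupOf D.stab3 ∧
      (psi.comp (Subgroup.inclusion D.stab3_le)).range = alternatingGroup (Fin 6) := by
  set EI := (att Q g).map D.ρ with hEI
  set φ := psi.comp (Subgroup.inclusion D.stab3_le) with hφ
  obtain ⟨h32, h16, -, -⟩ := hA.image_struct D hs hv
  have hle := hA.le_stab3 D hs hv
  have hK : D.stab3 ⊓ K0 = K0stab v3 := by
    refine le_antisymm (fun x hx => ⟨hx.2, hx.1.2⟩) fun x hx => ⟨⟨?_, hx.2⟩, hx.1⟩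
    obtain ⟨m, -, e⟩ := D.exists_rho hx.1
    exact ⟨m, e⟩
  have h5760 : Nat.card (K0stab v3) = 5760 := by
    rw [card_K0stab D.card_K0 v3 (by rw [v3_lab]; norm_num), v3_lab]
    rfl
  have hup : Nat.card D.stab3 ≤ 11520 := by
    have := D.card_le_two_mul D.stab3 inf_le_left
    rwa [hK, h5760] at this
  have hlow : Nat.card D.stab3 = 11520 := by
    have hlt : K0stab v3 < D.stab3 := by
      refine lt_of_le_of_ne (hK ▸ inf_le_left) fun e => ?_
      have hEK : EI ⊓ K0 = EI := inf_eq_left.2 (hle.trans (e ▸ inf_le_left))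
      rw [hEK, h32] at h16
      omega
    have hd := Subgroup.card_dvd_of_le hlt.le
    have hlt' : Nat.card (K0stab v3) < Nat.card D.stab3 := by
      refine lt_of_le_of_ne (Subgroup.card_le_of_le hlt.le) fun e => ?_
      exact hlt.ne (Subgroup.eq_of_le_of_card_ge hlt.le e.ge)
    rw [h5760] at hd hlt'
    obtain ⟨m, hm⟩ := hd
    have : m = 2 := by omega
    omega
  have hkle : EI.subgroupOf D.stab3 ≤ φ.ker := fun x hx =>
    MonoidHom.mem_ker.2 (hA.psi_image D hs hv hx (D.stab3_le x.2))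
  have hEc : Nat.card (EI.subgroupOf D.stab3) = 32 := by
    rw [Nat.card_congr (Subgroup.subgroupOfEquivOfLe hle).toEquiv, h32]
  have hkup : Nat.card φ.ker ≤ 32 := by
    let kb := φ.ker.map D.stab3.subtype
    have hkb : Nat.card kb = Nat.card φ.ker := Subgroup.card_map_of_injective (Subgroup.subtype_injective _)
    have hr : kb ≤ D.ρ.range := (Subgroup.map_subtype_le _).trans inf_le_left
    have h2 := D.card_le_two_mul kb hr
    have h3 : Nat.card ↥(kb ⊓ K0) ≤ 16 := by
      refine kernel_bound _ (inf_le_left.trans ((Subgroup.map_subtype_le _).trans D.stab3_le))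
        (fun e he => Model.lin_of_K0 he.2) fun e he => ?_
      obtain ⟨x, hx, rfl⟩ := he.1
      exact psi_eq_one (MonoidHom.mem_ker.1 hx)
    omega
  have hker : EI.subgroupOf D.stab3 = φ.ker :=
    Subgroup.eq_of_le_of_card_ge hkle (hEc ▸ hkup)
  refine ⟨hker.symm, ?_⟩
  have hidx := φ.ker.card_mul_index
  rw [Subgroup.index_ker, ← hker, hEc, hlow] at hidx
  refine Equiv.Perm.eq_alternatingGroup_of_index_eq_two ?_
  have h6 := φ.range.card_mul_index
  rw [show Nat.card (Equiv.Perm (Fin 6)) = 720 by rw [Nat.card_perm, Nat.card_fin]; rfl,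
    show Nat.card φ.range = 360 by omega] at h6
  omega

/-- The map induced on the quotient by `Q`. -/
noncomputable def Model.bar (D : Model z Q) :
    Subgroup.centralizer ({z} : Set G) ⧸ Q →* Equiv.Perm W :=
  QuotientGroup.lift Q D.ρ fun _ h => D.ker.ge h

omit [Finite G] in
theorem Model.bar_mk (D : Model z Q) (h : Subgroup.centralizer ({z} : Set G)) :
    D.bar (QuotientGroup.mk' Q h) = D.ρ h := rfl

omit [Finite G] in
theorem Model.bar_inj (D : Model z Q) : Function.Injective D.bar := by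
  rw [injective_iff_map_eq_one]
  intro x hx
  obtain ⟨h, rfl⟩ := QuotientGroup.mk'_surjective Q x
  exact (QuotientGroup.eq_one_iff h).2 (D.ker.le hx)

/-- The image of the centraliser of `s`. -/
theorem Model.map_centralizer (D : Model z Q) (hs : s ∈ Q) (hv : D.Φ s = v3) :
    (((Subgroup.centralizer ({z} : Set G) ⊓ Subgroup.centralizer ({(s : G)} : Set G)).subgroupOf
      (Subgroup.centralizer ({z} : Set G))).map (QuotientGroup.mk' Q)).map D.bar = D.stab3 := by
  ext e
  constructor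
  · rintro ⟨-, ⟨h, hh, rfl⟩, rfl⟩
    rw [D.bar_mk]
    refine ⟨⟨h, rfl⟩, ?_⟩
    show D.ρ h v3 = v3
    have hc : h * s * h⁻¹ = s := Subtype.ext (mul_inv_eq_of_eq_mul
      (Subgroup.mem_centralizer_singleton_iff.1 (Subgroup.mem_subgroupOf.1 hh).2))
    rw [← hv, D.conj h s hs, hc]
  · rintro ⟨⟨h, rfl⟩, hfix⟩
    have hfix' : D.ρ h v3 = v3 := hfix
    rw [← hv, D.conj h s hs] at hfix'
    have hh : h * s * h⁻¹ ∈ Q := Subgroup.Normal.conj_mem inferInstance s hs h
    obtain ⟨y, hy, hys⟩ : ∃ y ∈ Q, y * h * s * (y * h)⁻¹ = s := by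
      rcases D.eq_or_mul hh hs hfix' with e | e
      · exact ⟨1, one_mem _, by rw [one_mul]; exact Subtype.ext e⟩
      · obtain ⟨y, hy, hys⟩ := D.conj_mul_z hh (by rw [hfix', hv]; decide)
        refine ⟨y, hy, ?_⟩
        rw [show y * h * s * (y * h)⁻¹ = y * (h * s * h⁻¹) * y⁻¹ by group, hys]
        refine Subtype.ext ?_
        rw [Subgroup.coe_mul, e]
        have hzz : z * z = 1 := by
          have h2 : zc z * zc z = 1 := (D.sq _ D.zc_mem).2 (by
            rw [(D.eq_zero _ D.zc_mem).2 (Or.inr rfl)]; rfl)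
          exact congrArg Subtype.val h2
        show (s : G) * z * z = s
        rw [mul_assoc, hzz, mul_one]
    refine ⟨QuotientGroup.mk' Q (y * h), ⟨y * h, Subgroup.mem_subgroupOf.2 ⟨(y * h).2, ?_⟩, rfl⟩, ?_⟩
    · exact Subgroup.mem_centralizer_singleton_iff.2
        (congrArg Subtype.val (mul_inv_eq_iff_eq_mul.1 hys))
    · rw [D.bar_mk, _root_.map_mul, D.rho_Q hy, one_mul]

/-- The structure in the quotient by `Q`. -/
theorem quotient_struct (hF : IsOfLargeFischerTypeAt z Q) (hs : s ∈ Q) (hg : g * z * g⁻¹ = (s : G))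
    (hs1 : (s : G) ≠ z) {X E : Subgroup (Subgroup.centralizer ({z} : Set G) ⧸ Q)}
    (hX : X = ((Subgroup.centralizer ({z} : Set G) ⊓ Subgroup.centralizer ({(s : G)} : Set G)).subgroupOf
      (Subgroup.centralizer ({z} : Set G))).map (QuotientGroup.mk' Q))
    (hE : E = (att Q g).map (QuotientGroup.mk' Q)) :
    Nat.card ↥(up Q ⊓ (up Q).map (MulAut.conj g).toMonoidHom) = 2 ^ 7 ∧ E ≤ X ∧
      (∀ x ∈ X, ∀ y ∈ E, x * y * x⁻¹ ∈ E) ∧ IsElementaryAbelian 2 E ∧ Nat.card E = 32 ∧
      ∃ _ : (E.subgroupOf X).Normal, Nonempty (↥X ⧸ E.subgroupOf X ≃* alternatingGroup (Fin 6)) := by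
  obtain ⟨D0⟩ := nonempty_model hF
  obtain ⟨k, hk, hv⟩ := D0.exists_twist_apply hs (lab_of_conj_eq hF D0 hs hg hs1)
  generalize D0.twist k hk = D at hv
  have hA := fused hF hs hg hs1
  obtain ⟨h32, -, h7, -⟩ := hA.image_struct D hs hv
  obtain ⟨hker, hrange⟩ := hA.stab_struct D hs hv
  set β := D.bar with hβ
  have hbi := D.bar_inj
  have hEb : E.map β = (att Q g).map D.ρ := by rw [hE, Subgroup.map_map]; rfl
  have hXb : X.map β = D.stab3 := by rw [hX]; exact D.map_centralizer hs hv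
  have hmemE : ∀ y, y ∈ E ↔ β y ∈ (att Q g).map D.ρ := fun y => by
    rw [← hEb, Subgroup.mem_map_iff_mem hbi]
  have hmemX : ∀ y, y ∈ X ↔ β y ∈ D.stab3 := fun y => by
    rw [← hXb, Subgroup.mem_map_iff_mem hbi]
  have hEX : E ≤ X := fun y hy => (hmemX y).2 (hA.le_stab3 D hs hv ((hmemE y).1 hy))
  let φ : X →* Equiv.Perm (Fin 6) :=
    (psi.comp (Subgroup.inclusion D.stab3_le)).comp
      ((β.comp X.subtype).codRestrict D.stab3 fun x => (hmemX x).1 x.2)
  have hφker : φ.ker = E.subgroupOf X := by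
    ext x
    rw [← MonoidHom.comap_ker, hker, Subgroup.mem_comap, Subgroup.mem_subgroupOf,
      Subgroup.mem_subgroupOf, hmemE]
    rfl
  have hnormal : (E.subgroupOf X).Normal := hφker ▸ MonoidHom.normal_ker φ
  have hφr : φ.range = alternatingGroup (Fin 6) := by
    have hsurj : Function.Surjective
        ((β.comp X.subtype).codRestrict D.stab3 fun x => (hmemX x).1 x.2) := by
      rintro ⟨e, he⟩
      obtain ⟨x, hx, rfl⟩ := (hXb.symm ▸ he : e ∈ X.map β)
      exact ⟨⟨x, hx⟩, rfl⟩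
    rw [MonoidHom.range_comp, MonoidHom.range_eq_top.2 hsurj, ← MonoidHom.range_eq_map, hrange]
  refine ⟨h7, hEX, fun x hx y hy => ?_, ⟨⟨⟨fun a b => Subtype.ext (hbi ?_)⟩⟩, fun a ha => hbi ?_⟩,
    ?_, hnormal, ⟨(QuotientGroup.quotientMulEquivOfEq hφker.symm).trans
      ((QuotientGroup.quotientKerEquivRange φ).trans (MulEquiv.subgroupCongr hφr))⟩⟩
  · have := hnormal.conj_mem ⟨y, hEX hy⟩ hy ⟨x, hx⟩
    exact this
  · rw [Subgroup.coe_mul, Subgroup.coe_mul, _root_.map_mul, _root_.map_mul]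
    exact hA.image_comm D ((hmemE _).1 a.2) ((hmemE _).1 b.2)
  · rw [map_pow, map_one, pow_two]
    exact hA.image_sq D _ ((hmemE _).1 ha)
  · rw [← h32, ← hEb, Subgroup.card_map_of_injective hbi]

end H16.Fi24
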