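import Cfsg.Agent.H7.U6Tv

/-!
Vectors in the image of `g - 1` detected by the fixed vectors of an involution `g`.
-/

set_option autoImplicit false
set_option maxRecDepth 100000

namespace H16.Fi24

theorem cj_add : ∀ a b : F4, cj (a + b) = cj a + cj b := by decide

theorem hf_add_left (u u' v : W) : hf (u + u') v = hf u v + hf u' v := by
  simp only [hf, Pi.add_apply, cj_add, mu_add_left, Finset.sum_add_distrib]

theorem Bf_add_left' (u u' v : W) : Bf (u + u') v = Bf u v + Bf u' v := by
  simp only [hf_two, hf_add_left, Prod.snd_add]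

theorem Bf_add_right' (u v v' : W) : Bf u (v + v') = Bf u v + Bf u v' := by
  simp only [hf_two, hf_add, Prod.snd_add]

theorem Bf_symm (u v : W) : Bf u v = Bf v u := by
  simp only [Bf, add_comm u v]; ring

theorem Bf_single_pair : ∀ (i : Fin 6) (a b : F4),
    Bf (Pi.single i a) (Pi.single i b) = a.1 * b.2 + a.2 * b.1 := by decide +kernel

theorem wW_add (u v : W) : wW (u + v) = wW u + wW v := funext fun i => mu_add (0, 1) (u i) (v i)

/-- Pairing with a vector. -/
noncomputable def bfMap (v : W) : W →ₗ[ZMod 2] ZMod 2 :=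
  AddMonoidHom.toZModLinearMap 2 (AddMonoidHom.mk' (fun y => Bf y v) fun a b => Bf_add_left' a b v)

theorem bfMap_apply (v y : W) : bfMap v y = Bf y v := rfl

theorem exists_rep_form (ψ : W →ₗ[ZMod 2] ZMod 2) : ∃ w, ∀ y, ψ y = Bf y w := by
  refine ⟨fun i => (ψ (Pi.single i (0, 1)), ψ (Pi.single i (1, 0))), fun y => ?_⟩
  rw [← bfMap_apply]
  refine LinearMap.congr_fun (LinearMap.pi_ext fun i a => ?_) y
  rw [bfMap_apply, Bf_symm, Bf_single, Bf_single_pair]
  have ha : (Pi.single i a : W) = a.1 • (Pi.single i ((1, 0) : F4) : W) + a.2 • (Pi.single i ((0, 1) : F4) : W) := by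
    rw [← Pi.single_smul, ← Pi.single_smul, ← Pi.single_add]
    congr 1
    ext <;> simp
  conv_lhs => rw [ha, map_add, map_smul, map_smul]
  simp only [smul_eq_mul]
  ring

theorem Bf_nondeg : ∀ v : W, (∀ i : Fin 6, Bf (Pi.single i (1, 0)) v = 0 ∧ Bf (Pi.single i (0, 1)) v = 0) → v = 0 :=
  forall_W (by decide +kernel)

theorem add_self_W (u : W) : u + u = 0 := funext fun j => by
  have : ∀ a : F4, a + a = 0 := by decide
  exact this _

/-- A vector orthogonal to all fixed vectors of an isometric involution lies in the image of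
`g - 1`. -/
theorem mem_image_of_perp_fix {g : Equiv.Perm W} (hg : IsUni g) (h2 : g * g = 1) {v : W}
    (h : ∀ y, g y = y → Bf y v = 0) : ∃ w, g w = w + v := by
  have hgg : ∀ y, g (g y) = y := fun y => by rw [← Equiv.Perm.mul_apply, h2]; rfl
  let T : W →ₗ[ZMod 2] W := AddMonoidHom.toZModLinearMap 2
    (AddMonoidHom.mk' (fun y => g y + y) fun a b => by simp only [hg.add]; abel)
  have hle : LinearMap.ker T ≤ LinearMap.ker (bfMap v) := fun y hy => by
    refine LinearMap.mem_ker.2 (h y ?_)
    have e : g y + y = 0 := LinearMap.mem_ker.1 hy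
    calc g y = g y + (y + y) := by rw [add_self_W, add_zero]
      _ = y := by rw [← add_assoc, e, zero_add]
  obtain ⟨ψ, hψ⟩ := LinearMap.exists_extend
    ((Submodule.liftQ _ (bfMap v) hle).comp T.quotKerEquivRange.symm.toLinearMap)
  have hψ' : ∀ y, ψ (T y) = Bf y v := fun y => by
    have e := LinearMap.congr_fun hψ ⟨T y, LinearMap.mem_range_self T y⟩
    rw [LinearMap.comp_apply, LinearMap.comp_apply, LinearEquiv.coe_coe,
      LinearMap.quotKerEquivRange_symm_apply_image T y] at e
    exact e
  obtain ⟨w, hw⟩ := exists_rep_form ψ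
  refine ⟨w, ?_⟩
  have key : v + (g w + w) = 0 := Bf_nondeg _ fun i => by
    have hh : ∀ y, Bf y (v + (g w + w)) = 0 := fun y => by
      have e : Bf y v = Bf (g y + y) w := (hψ' y).symm.trans (hw _)
      have e2 : Bf (g y) w = Bf y (g w) := by
        conv_rhs => rw [← hg.Bf_eq, hgg]
      rw [Bf_add_right', Bf_add_right', e, Bf_add_left', e2]
      exact CharTwo.add_self_eq_zero _
    exact ⟨hh _, hh _⟩
  calc g w = g w + (v + (g w + w)) := by rw [key, add_zero]
    _ = (g w + g w) + (w + v) := by abel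
    _ = w + v := by rw [add_self_W, zero_add]

end H16.Fi24
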