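import Cfsg.Agent.H16.Fi24.U6Ws
import Cfsg.Agent.H16.Fi24.U6Lin

/-!
Finite facts about the involution `swA` and a diagonal element centralising it.
-/

set_option autoImplicit false
set_option maxRecDepth 100000

namespace H16.Fi24

/-- Test vectors. -/
def uA : Fin 4 → W :=
  ![![(0, 1), 0, (0, 1), 0, 0, 0], ![(0, 1), 0, (0, 1), 0, (1, 0), 0],
    ![(1, 1), 0, (1, 1), 0, (1, 0), 0], ![(0, 1), 0, (0, 1), 0, (0, 1), 0]]

theorem uA_facts : ∀ k, Bf v2 (uA k) = 1 ∧ Bf (v2 + v3) (uA k) = 1 := by decide +kernel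

theorem lin16_choice : ∀ b, lin16 b v2 = v2 →
    (∀ j, lin16 b (bv j) = swA (bv j)) ∨ ∃ k, lin16 b (uA k) = uA k := by decide +kernel

/-- The only element of the linear part with `v2` or `v2 + v3` in the image of `g - 1`. -/
theorem lin16_eq_swA {b : Fin 4 → Bool} (hK : lin16 b ∈ K0) (h2 : lin16 b v2 = v2)
    (h : ∃ w, lin16 b w + w = v2 ∨ lin16 b w + w = v2 + v3) : lin16 b = swA := by
  rcases lin16_choice b h2 with he | ⟨k, hk⟩
  · exact Equiv.ext (congrFun ((isUni_K0 hK).ext_basis (isUni_K0 swA_mem) he))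
  · exfalso
    obtain ⟨w, hw⟩ := h
    have e : Bf (lin16 b w + w) (uA k) = 0 := by
      rw [Bf_add_left']
      nth_rewrite 1 [← hk]
      rw [(isUni_K0 hK).Bf_eq]
      exact CharTwo.add_self_eq_zero _
    rcases hw with hw | hw <;> rw [hw] at e
    · exact one_ne_zero ((uA_facts k).1.symm.trans e)
    · exact one_ne_zero ((uA_facts k).2.symm.trans e)

/-- Exponents of the diagonal element. -/
def dg3 : Fin 6 → ZMod 3 := ![0, 0, 2, 2, 1, 1]

/-- The diagonal element. -/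
def diag3 : Equiv.Perm W := mono 1 dg3

theorem diag3_mem : diag3 ∈ K0 :=
  Subgroup.mem_sup_left (mem_E1.2 ⟨dg3, by decide, rfl⟩)

theorem diag3_facts : diag3 v2 = v2 ∧ lab (diag3 v3 + v3) = 2 ∧ Bf (diag3 v3) v3 = 0 ∧
    swA (bv 0 + bv 2) + (bv 0 + bv 2) = v3 := by
  decide +kernel

theorem diag3_comm : diag3 * swA = swA * diag3 := by
  rw [diag3, swA, mono_mul, mono_mul, one_mul, mul_one]
  refine congrArg (mono _) (funext fun i => ?_)
  revert i; decide +kernel

theorem diag3_pow : diag3 ^ 4 = diag3 := by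
  have h : diag3 * diag3 * diag3 = 1 := by
    rw [diag3, mono_mul, mono_mul, one_mul, one_mul]
    rw [show (dg3 + dg3 ∘ ⇑(1 : Equiv.Perm (Fin 6)).symm + dg3 ∘ ⇑(1 : Equiv.Perm (Fin 6)).symm) = 0 by decide +kernel]
    exact mono_one
  rw [pow_succ, pow_succ, pow_two, h, one_mul]

/-- A vector orthogonal to `v2` with prescribed image under `swA - 1` up to `wW v2`. -/
def rA (w : W) : W := ![((w 0 + w 1).1, 0), 0, w 2 + w 3, 0, 0, 0]

theorem absorb : ∀ w : W, Bf (rA w) v2 = 0 ∧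
    (swA (rA w) + rA w + (swA w + w) = 0 ∨ swA (rA w) + rA w + (swA w + w) = wW v2) :=
  forall_W (by decide +kernel)

end H16.Fi24
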