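import Cfsg.Agent.H16.Fi24.U6GLoc
import Cfsg.Agent.H16.Fi24.U6Lin

/-!
The conjugates of `z` under the centraliser of the four-group: none other than `z` lies in `Q`, and
those commuting with `z` act on `Q` as the transvections.
-/

set_option autoImplicit false
set_option maxRecDepth 100000

namespace H16.Fi24

open Cfsg

universe u

theorem card_perp_four :
    (Finset.univ.filter fun y : W => Bf y v2 = 0 ∧ Bf y (wW v2) = 0).card = 1024 := by decide +kernel

/-- Vectors orthogonal to `v2` and `wW v2`. -/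
def tperp (k : Fin 10) : W :=
  ![v2, wW v2, Pi.single 2 (1, 0), Pi.single 2 (0, 1), Pi.single 3 (1, 0), Pi.single 3 (0, 1),
    Pi.single 4 (1, 0), Pi.single 4 (0, 1), Pi.single 5 (1, 0), Pi.single 5 (0, 1)] k

theorem tperp_mem : ∀ k, Bf (tperp k) v2 = 0 ∧ Bf (tperp k) (wW v2) = 0 := by decide +kernel

theorem tperp_detect : ∀ y : W, lab y = 3 → ∃ k, Bf y (tperp k) ≠ 0 := forall_W (by decide +kernel)

theorem wW_ne : ∀ y : W, y ≠ 0 → wW y ≠ 0 ∧ wW y ≠ y := forall_W (by decide +kernel)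

theorem v2_line : ∀ c : F4, c ≠ 0 → ∃ c' : F4, sm c' (sm c v2) = v2 := by decide +kernel

namespace U6Ctx

variable {G : Type u} [Group G] [Finite G] {z : G}
  {Q : Subgroup (Subgroup.centralizer ({z} : Set G))} [Q.Normal] (C : U6Ctx z Q)

theorem z_sq (C : U6Ctx z Q) : z * z = 1 := C.fam.zsq

theorem four_img {x : Subgroup.centralizer ({z} : Set G)} (hx : (x : G) ∈ C.four) :
    x ∈ Q ∧ (x = 1 ∨ C.D.Φ x = v2 ∨ C.D.Φ x = wW v2 ∨ C.D.Φ x = wW (wW v2)) := by
  refine ⟨mem_up.1 (C.four_le_Q hx), ?_⟩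
  rcases C.mem_four.1 hx with h | h | h | h
  · exact Or.inl (Subtype.ext h)
  · exact Or.inr (Or.inl (by rw [Subtype.ext h, C.e_img]))
  · exact Or.inr (Or.inr (Or.inl (by rw [Subtype.ext h, C.f_img])))
  · exact Or.inr (Or.inr (Or.inr (by rw [show x = C.e * C.f from Subtype.ext h, C.Phi_e_f])))

theorem z_not_four : z ∉ C.four := by
  intro h
  obtain ⟨hx, h0⟩ := C.four_img (x := zc z) h
  have hz0 := (C.D.eq_zero _ hx).2 (Or.inr rfl)
  rw [hz0] at h0
  rcases h0 with h0 | h0 | h0 | h0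
  · exact C.fam.ne_one sing_z (congrArg Subtype.val h0)
  all_goals exact absurd h0 (by decide)

theorem four_le_cen : C.four ≤ C.cen := by
  intro x hx
  have hc := C.commute_ef
  rcases C.mem_four.1 hx with rfl | rfl | rfl | rfl
  · exact one_mem _
  · exact C.mem_cen.2 ⟨Commute.refl _, hc⟩
  · exact C.mem_cen.2 ⟨hc.symm, Commute.refl _⟩
  · exact C.mem_cen.2 ⟨(Commute.refl _).mul_left hc.symm, hc.mul_left (Commute.refl _)⟩

theorem commute_four {g x : G} (hg : g ∈ C.cen) (hx : x ∈ C.four) : g * x = x * g :=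
  ((Subgroup.mem_centralizer_iff.1 hg) x hx).symm

theorem dset_sing {u : G} (hu : u ∈ C.dset) : H69.LXFam.Sing z u := by
  obtain ⟨g, -, rfl⟩ := hu
  exact ⟨g, rfl⟩

theorem z_mem_dset : z ∈ C.dset := ⟨1, one_mem _, by group⟩

theorem dset_le_cen {u : G} (hu : u ∈ C.dset) : u ∈ C.cen := by
  obtain ⟨g, hg, rfl⟩ := hu
  exact mul_mem (mul_mem hg C.z_mem_cen) (inv_mem hg)

theorem dset_conj {h u : G} (hh : h ∈ C.cen) (hu : u ∈ C.dset) : h * u * h⁻¹ ∈ C.dset := by
  obtain ⟨g, hg, rfl⟩ := hu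
  exact ⟨h * g, mul_mem hh hg, by group⟩

theorem dset_four_mem {u : G} (hu : u ∈ C.dset) {x : G} (hx : x ∈ C.four) : x ∈ C.F u := by
  obtain ⟨g, hg, rfl⟩ := hu
  have hxz : x ∈ C.F z := by rw [C.F_z]; exact C.four_le_Q hx
  have := C.fam.mem_Q_conj g hxz
  rwa [C.commute_four hg hx, mul_inv_cancel_right] at this

/-- The centraliser of the four-group in `Q` has order at most `2 ^ 11`. -/
theorem card_Q_cen_le : Nat.card ↥(up Q ⊓ C.cen) ≤ 2 ^ 11 := by
  classical
  set I := up Q ⊓ C.cen with hI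
  let : Fintype I := Fintype.ofFinite I
  let φ : I → W := fun x => C.D.Φ ⟨x.1, Subgroup.map_subtype_le Q x.2.1⟩
  have hmem : ∀ x : I,
      (⟨x.1, Subgroup.map_subtype_le Q x.2.1⟩ : Subgroup.centralizer ({z} : Set G)) ∈ Q :=
    fun x => mem_up.1 x.2.1
  have hsub : Finset.univ.image φ ⊆
      Finset.univ.filter fun y : W => Bf y v2 = 0 ∧ Bf y (wW v2) = 0 := by
    intro w hw
    obtain ⟨x, -, rfl⟩ := Finset.mem_image.1 hw
    exact Finset.mem_filter.2 ⟨Finset.mem_univ _, (C.Q_mem_cen (hmem x)).1 x.2.2⟩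
  have h2 : (Finset.univ : Finset I).card ≤ 2 * (Finset.univ.image φ).card := by
    refine Finset.card_le_mul_card_image _ 2 fun w hw => ?_
    obtain ⟨x0, -, hx0⟩ := Finset.mem_image.1 hw
    refine le_trans (Finset.card_le_card_of_injOn (fun x : I => (x : G))
      (t := {(x0 : G), (x0 : G) * z}) (fun x hx => ?_) Subtype.val_injective.injOn) Finset.card_le_two
    have := C.D.eq_or_mul (hmem x) (hmem x0) ((Finset.mem_filter.1 hx).2.trans hx0.symm)
    simpa using this
  have h3 := Finset.card_le_card hsub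
  rw [card_perp_four] at h3
  rw [Nat.card_eq_fintype_card, ← Finset.card_univ]
  omega

/-- No other member of the class lies in `Q`. -/
theorem notMemQ {u : G} (hu : u ∈ C.dset) (x : Subgroup.centralizer ({z} : Set G))
    (hxu : (x : G) = u) (hx : x ∈ Q) : u = z := by
  by_contra hne
  obtain ⟨g, hg, rfl⟩ := hu
  have hs1 : (x : G) ≠ z := fun e => hne (hxu.symm.trans e)
  have hA := fused C.hF hx hxu.symm hs1
  have hl := lab_of_conj_eq C.hF C.D hx hxu.symm hs1
  have hσ : C.D.Φ x ≠ 0 := fun e => by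
    rw [e] at hl; exact absurd hl (by decide)
  have hsing : H69.LXFam.Sing z (g * z * g⁻¹) := ⟨g, rfl⟩
  set K := att Q g ⊓ C.D.M with hK
  -- the linear part centralises the four-group
  have hcen : ∀ y ∈ K, (y : G) ∈ C.F (g * z * g⁻¹) ∧ (y : G) ∈ C.cen := by
    intro y hy
    have hyF : (y : G) ∈ C.F (g * z * g⁻¹) := by
      rw [C.F_conj]; exact (Subgroup.mem_inf.1 (Subgroup.mem_subgroupOf.1 hy.1)).1
    have hlin := (isUni_K0 (C.D.rho_mem y hy.2)).wcomm
    have fix : ∀ q : Subgroup.centralizer ({z} : Set G), q ∈ Q → (q : G) ∈ C.four →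
        ((y : G) * q * (y : G)⁻¹ = q) ∨
          (C.D.ρ y (C.D.Φ q) = C.D.Φ q + C.D.Φ x) := fun q hq hq4 => by
      rcases C.fam.comm_cases hsing hyF (C.dset_four_mem ⟨g, hg, rfl⟩ hq4) with h | h
      · exact Or.inl h
      · right
        rw [C.D.conj y q hq, ← C.D.map_mul q hq x hx]
        congr 1
        exact Subtype.ext (by rw [Subgroup.coe_mul, Subgroup.coe_mul, Subgroup.coe_mul, hxu, ← h]; rfl)
    have same : ∀ q : Subgroup.centralizer ({z} : Set G), q ∈ Q →
        (y : G) * q * (y : G)⁻¹ = q → C.D.ρ y (C.D.Φ q) = C.D.Φ q := fun q hq h => by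
      rw [C.D.conj y q hq]
      congr 1
      exact Subtype.ext h
    refine ⟨hyF, ?_⟩
    rw [C.mem_cen]
    have he4 : (C.e : G) ∈ C.four := Subgroup.subset_closure (Or.inl rfl)
    have hf4 : (C.f : G) ∈ C.four := Subgroup.subset_closure (Or.inr rfl)
    obtain ⟨hw0, hw1⟩ := wW_ne _ hσ
    rcases fix _ C.he he4 with h1 | h1 <;> rcases fix _ C.hf' hf4 with h2 | h2
    · exact ⟨mul_inv_eq_iff_eq_mul.1 h1, mul_inv_eq_iff_eq_mul.1 h2⟩
    · exfalso
      have h1' := same _ C.he h1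
      rw [C.e_img] at h1'
      rw [C.f_img, hlin, h1'] at h2
      exact hσ (left_eq_add.1 h2)
    · exfalso
      have h2' := same _ C.hf' h2
      rw [C.e_img] at h1
      rw [C.f_img, hlin, h1, wW_add] at h2'
      exact hw0 (add_eq_left.1 h2')
    · exfalso
      rw [C.e_img] at h1
      rw [C.f_img, hlin, h1, wW_add] at h2
      exact hw1 (add_left_cancel h2)
  -- its order
  have hKc : 2 ^ 11 ≤ Nat.card K := by
    have := Subgroup.normal_of_index_eq_two C.D.index_M
    have h := (C.D.M.subgroupOf (att Q g)).card_mul_index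
    have hd : (C.D.M.subgroupOf (att Q g)).index ∣ 2 :=
      C.D.index_M ▸ Subgroup.relIndex_dvd_index_of_normal C.D.M (att Q g)
    have hc : Nat.card ↥(C.D.M.subgroupOf (att Q g)) = Nat.card K := by
      rw [← Subgroup.card_map_of_injective (Subgroup.subtype_injective (att Q g)),
        Subgroup.subgroupOf_map_subtype, inf_comm]
    rw [hc, hA.att_card] at h
    have := Nat.le_of_dvd (by norm_num) hd
    by_contra hlt
    have h' : Nat.card K * (C.D.M.subgroupOf (att Q g)).index ≤ (2 ^ 11 - 1) * 2 :=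
      Nat.mul_le_mul (by omega) this
    rw [h] at h'
    norm_num at h'
  -- so `z` centralises the centraliser of the four-group in the attached subgroup
  set J := C.F (g * z * g⁻¹) ⊓ C.cen with hJ
  have hJc : Nat.card J ≤ 2 ^ 11 := by
    have e : C.cen.map (MulAut.conj g).toMonoidHom = C.cen := by
      ext y
      constructor
      · rintro ⟨y', hy', rfl⟩; exact mul_mem (mul_mem hg hy') (inv_mem hg)
      · intro hy
        exact ⟨g⁻¹ * y * g, mul_mem (mul_mem (inv_mem hg) hy) hg, by simp [mul_assoc]⟩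
    have hinj : Function.Injective (MulAut.conj g).toMonoidHom := (MulAut.conj g).injective
    have eJ : J = (up Q ⊓ C.cen).map (MulAut.conj g).toMonoidHom := by
      rw [Subgroup.map_inf _ _ _ hinj, e, hJ, C.F_conj]
    rw [eJ, Subgroup.card_map_of_injective hinj]
    exact C.card_Q_cen_le
  have hKJ : K.map (Subgroup.centralizer ({z} : Set G)).subtype = J := by
    refine Subgroup.eq_of_le_of_card_ge ?_ ?_
    · rintro _ ⟨y, hy, rfl⟩; exact hcen y hy
    · rw [Subgroup.card_map_of_injective (Subgroup.subtype_injective _)]; omega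
  set z' := g⁻¹ * z * g with hz'
  have hz'Q : z' ∈ C.F z := by
    refine C.fam.mem_Q_conj' g ?_
    rw [C.F_conj]; exact hA.z_mem
  have hz'c : z' ∈ Subgroup.centralizer ({z} : Set G) := by
    rw [C.F_z] at hz'Q; exact Subgroup.map_subtype_le Q hz'Q
  have hxq : (⟨z', hz'c⟩ : Subgroup.centralizer ({z} : Set G)) ∈ Q := C.mem_F_z.1 hz'Q
  have hl' : lab (C.D.Φ ⟨z', hz'c⟩) = 3 := by
    refine lab_of_isConj C.hF C.D hxq (isConj_iff.2 ⟨g⁻¹, by simp [hz']⟩) fun e => hne ?_
    have e' : g⁻¹ * z * g = z := e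
    calc g * z * g⁻¹ = g * (g⁻¹ * z * g) * g⁻¹ := by rw [e']
      _ = z := by group
  obtain ⟨k, hk⟩ := tperp_detect _ hl'
  obtain ⟨q, hq, hq'⟩ := C.D.surj (tperp k)
  refine hk ?_
  rw [← hq']
  refine (C.D.comm _ hxq q hq).1 (Subtype.ext ?_)
  have hqJ : g * (q : G) * g⁻¹ ∈ J := by
    refine ⟨?_, C.cen.mul_mem (C.cen.mul_mem hg ?_) (C.cen.inv_mem hg)⟩
    · rw [C.F_conj]; exact ⟨q, mem_up.2 hq, rfl⟩
    · exact (C.Q_mem_cen hq).2 (by rw [hq']; exact tperp_mem k)
  rw [← hKJ] at hqJ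
  obtain ⟨y, -, hy⟩ := hqJ
  have hc : Commute z (g * (q : G) * g⁻¹) := by
    rw [← hy]; exact (Subgroup.mem_centralizer_singleton_iff.1 y.2).symm
  show g⁻¹ * z * g * q = q * (g⁻¹ * z * g)
  calc g⁻¹ * z * g * q = g⁻¹ * (z * (g * q * g⁻¹)) * g := by group
    _ = g⁻¹ * ((g * q * g⁻¹) * z) * g := by rw [hc.eq]
    _ = q * (g⁻¹ * z * g) := by group

/-- A coset of the four-group holds at most one member of the class. -/
theorem dset_unique {u : G} (hu : u ∈ C.dset) {e' : G} (he' : e' ∈ C.four)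
    (h : u * e' ∈ C.dset) : e' = 1 := by
  obtain ⟨g, hg, rfl⟩ := hu
  have hd := C.dset_conj (inv_mem hg) h
  have e : g⁻¹ * (g * z * g⁻¹ * e') * g⁻¹⁻¹ = z * e' := by
    rw [inv_inv]
    calc g⁻¹ * (g * z * g⁻¹ * e') * g = z * (g⁻¹ * e' * g) := by group
      _ = z * e' := by rw [mul_assoc g⁻¹, ← C.commute_four hg he', inv_mul_cancel_left]
  rw [e] at hd
  have hQ : z * e' ∈ up Q := mul_mem (C.F_z ▸ C.fam.hzmem) (C.four_le_Q he')
  have := C.notMemQ hd ⟨_, Subgroup.map_subtype_le Q hQ⟩ rfl (mem_up.1 hQ)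
  exact mul_eq_left.1 this

/-- `z` is outside the subgroup attached to another member commuting with it. -/
theorem dset_not_mem_F {u : G} (hu : u ∈ C.gperp) : z ∉ C.F u := by
  intro h
  have hzu := C.fam.orth_symm (C.dset_sing hu.1) sing_z h
  rw [C.F_z] at hzu
  exact hu.2.1 (C.notMemQ hu.1 ⟨u, Subgroup.map_subtype_le Q hzu⟩ rfl (mem_up.1 hzu))

/-- An element of `Q` commuting with a member centralises the four-group. -/
theorem cent_Q_le {u : G} (hu : u ∈ C.gperp) {q : Subgroup.centralizer ({z} : Set G)} (hq : q ∈ Q)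
    (hc : Commute (q : G) u) : (q : G) ∈ C.cen := by
  have key : ∀ x ∈ C.four, Commute (q : G) x := fun x hx => by
    rcases C.fam.comm_cases sing_z (C.mem_F_z.2 hq) (show x ∈ C.F z by rw [C.F_z]; exact C.four_le_Q hx) with h | h
    · exact mul_inv_eq_iff_eq_mul.1 h
    · exfalso
      have h1 := C.fam.conj_mem (C.dset_four_mem hu.1 hx) hc
      rw [h] at h1
      refine C.dset_not_mem_F hu ?_
      have := mul_mem (inv_mem (C.dset_four_mem hu.1 hx)) h1
      rwa [inv_mul_cancel_left] at this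
  exact C.mem_cen.2 ⟨key _ (Subgroup.subset_closure (Or.inl rfl)),
    key _ (Subgroup.subset_closure (Or.inr rfl))⟩

/-- Members commuting with `z` act as the transvections. -/
theorem rho_dset (x : Subgroup.centralizer ({z} : Set G)) (hx : (x : G) ∈ C.gperp) :
    ∃ i, C.D.ρ x = tv i := by
  obtain ⟨hxM, hstab⟩ := C.rho_cen (C.dset_le_cen hx.1)
  have hxx : x * x = 1 := Subtype.ext (C.fam.sq_one (C.dset_sing hx.1))
  have h2 : C.D.ρ x * C.D.ρ x = 1 := by rw [← _root_.map_mul, hxx, map_one]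
  have huni := isUni_K0 hstab.1
  set τ := C.D.ρ x with hτ
  -- fixed vectors with a commuting lift are orthogonal to the four-group
  have hlift : ∀ y, τ y = y → ∃ q ∈ Q, C.D.Φ q = y ∧
      ((x * q * x⁻¹ = q) ∨ (x * q * x⁻¹ = q * zc z)) := fun y hy => by
    obtain ⟨q, hq, e⟩ := C.D.surj y
    refine ⟨q, hq, e, ?_⟩
    rcases C.D.eq_or_mul (Subgroup.Normal.conj_mem inferInstance q hq x) hq
      (by rw [← C.D.conj x q hq, e, ← hτ, hy]) with h | h
    · exact Or.inl (Subtype.ext h)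
    · exact Or.inr (Subtype.ext h)
  have hperp : ∀ q ∈ Q, x * q * x⁻¹ = q → Bf (C.D.Φ q) v2 = 0 ∧ Bf (C.D.Φ q) (wW v2) = 0 :=
    fun q hq h => (C.Q_mem_cen hq).1 (C.cent_Q_le hx hq
      (congrArg Subtype.val (mul_inv_eq_iff_eq_mul.1 h)).symm)
  have pair : ∀ a b, τ a = a → τ b = b →
      (Bf a v2 = 0 ∧ Bf a (wW v2) = 0) ∨ (Bf b v2 = 0 ∧ Bf b (wW v2) = 0) ∨
      (Bf (a + b) v2 = 0 ∧ Bf (a + b) (wW v2) = 0) := by
    intro a b ha hb
    obtain ⟨qa, hqa, rfl, h⟩ := hlift a ha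
    obtain ⟨qb, hqb, rfl, h'⟩ := hlift b hb
    rcases h with h | h
    · exact Or.inl (hperp qa hqa h)
    rcases h' with h' | h'
    · exact Or.inr (Or.inl (hperp qb hqb h'))
    · refine Or.inr (Or.inr ?_)
      rw [← C.D.map_mul qa hqa qb hqb]
      refine hperp _ (mul_mem hqa hqb) ?_
      have hzz : zc z * zc z = 1 := Subtype.ext C.z_sq
      calc x * (qa * qb) * x⁻¹ = (x * qa * x⁻¹) * (x * qb * x⁻¹) := by group
        _ = qa * zc z * (qb * zc z) := by rw [h, h']
        _ = qa * qb * (zc z * zc z) := by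
          rw [mul_assoc qa (zc z), ← mul_assoc (zc z) qb, ← zc_comm qb, mul_assoc qb, ← mul_assoc qa]
        _ = qa * qb := by rw [hzz, mul_one]
  -- one of the three vectors of the line is orthogonal to all fixed vectors
  obtain ⟨c, hc, hcv⟩ : ∃ c : F4, c ≠ 0 ∧ ∀ y, τ y = y → Bf y (sm c v2) = 0 := by
    have e1 : sm ((1, 0) : F4) v2 = v2 := sm_one v2
    have e3 : sm ((1, 1) : F4) v2 = v2 + wW v2 := by decide
    by_contra hno
    push Not at hno
    obtain ⟨a, ha, ha'⟩ := hno (1, 0) (by decide)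
    obtain ⟨b, hb, hb'⟩ := hno (0, 1) (by decide)
    obtain ⟨d, hd, hd'⟩ := hno (1, 1) (by decide)
    rw [e1] at ha'
    rw [e3, Bf_add_right'] at hd'
    change Bf b (wW v2) ≠ 0 at hb'
    have z2 : ∀ p q : ZMod 2, p ≠ 0 → q ≠ 0 → p + q = 0 := by decide
    have hab : Bf b v2 ≠ 0 ∧ Bf a (wW v2) ≠ 0 := by
      rcases pair a b ha hb with h | h | h
      · exact absurd h.1 ha'
      · exact absurd h.2 hb'
      · rw [Bf_add_left', Bf_add_left'] at h
        exact ⟨fun e => ha' (by simpa [e] using h.1), fun e => hb' (by simpa [e] using h.2)⟩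
    rcases pair a d ha hd with h | h | h
    · exact absurd h.1 ha'
    · exact hd' (by rw [h.1, h.2, add_zero])
    · rw [Bf_add_left', Bf_add_left'] at h
      refine hd' ?_
      have := z2 _ _ ha' hab.2
      linear_combination h.1 + h.2 - this
  obtain ⟨w, hw⟩ := mem_image_of_perp_fix huni h2 hcv
  obtain ⟨c', hc'⟩ := v2_line c hc
  refine tv_class C.D.card_K0 hstab h2 ⟨sm c' w, ?_⟩
  have hsum : sm c' (w + sm c v2) = sm c' w + sm c' (sm c v2) :=
    funext fun i => mu_add c' (w i) (sm c v2 i)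
  rw [huni.sm_comm, hw, hsum, hc']

end U6Ctx

end H16.Fi24
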