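import Mathlib

/-!
Local data at an involution `z` whose commuting conjugates form a fourfold cover of the polar graph
of the unitary group in dimension four over the field with four elements: interface for the
recognition of the unitary group in dimension six.
-/

set_option autoImplicit false

namespace H16.U6

/-- Collinearity masks of the 45 isotropic points of the four-dimensional hermitian space
(coordinates in lexicographic order, first nonzero entry one). -/
def adjMask (i : Fin 45) : ℕ :=
  ![0x111c47118000, 0x6298a628000, 0x8ca328c8000, 0x124248497000, 0x49490927000,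
    0x92125247000, 0x1c00e0070e00, 0x7700380e00, 0x3801dc00e00, 0x491244901c0,
    0x922489201c0, 0x1244912401c0, 0x701c070038, 0x380e0380038, 0x1c0701c00038,
    0x1ff0007, 0x44029109249, 0x81050609452, 0x102084889864, 0x2114084a28c,
    0xa28101a491, 0x1442042a8a2, 0x10820422c30a, 0x504080cc514, 0xa011011c921,
    0x7fc000007, 0xa442441321, 0x1418281150a, 0x21223021914, 0x50212212264,
    0xa04060a2449, 0x10810a142852, 0x8108b0842a2, 0x10203250448c, 0x44046a04891,
    0x1ff000000007, 0x1109100a1291, 0x60a041414a2, 0x88c0821188c, 0x84884502314,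
    0x101828a02521, 0x4285108290a, 0x22c20814252, 0xc941024464, 0x11a80444849] i

/-- Collinearity of points (no point is collinear with itself). -/
def Adj (i j : Fin 45) : Prop := (adjMask i).testBit j.val = true

instance (i j : Fin 45) : Decidable (Adj i j) := inferInstanceAs (Decidable (_ = _))

theorem adj_symm : ∀ i j, Adj i j → Adj j i := by decide +kernel

theorem adj_irrefl : ∀ i, ¬ Adj i i := by decide +kernel

/-- Conjugates of `a` commuting with `a`, other than `a`. -/
def Perp {X : Type*} [Group X] (a : X) : Set X := {x | IsConj a x ∧ x ≠ a ∧ Commute x a}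

/-- The local data at `z`. -/
structure Loc {X : Type*} [Group X] (z : X) (pt : X → Fin 45) : Prop where
  sq : z * z = 1
  ne_one : z ≠ 1
  surj : ∀ p, ∃ x ∈ Perp z, pt x = p
  card_fibre : ∀ p, Set.ncard {x ∈ Perp z | pt x = p} = 4
  commute_iff : ∀ x ∈ Perp z, ∀ y ∈ Perp z, Commute x y ↔ pt x = pt y ∨ Adj (pt x) (pt y)
  braid : ∀ x ∈ Perp z, ∀ y ∈ Perp z, ¬ Commute x y → (x * y) ^ 3 = 1
  five : ∀ a ∈ Perp z, ∀ b ∈ Perp z, ∀ c ∈ Perp z, ∀ d ∈ Perp z, a ≠ b → a ≠ c → a ≠ d → b ≠ c →
    b ≠ d → c ≠ d → pt a = pt b → pt a = pt c → pt a = pt d → a * b * c * d = z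
  line_symm : ∀ x ∈ Perp z, ∀ y ∈ Perp z, x ≠ y → pt x = pt y → ∀ g : X, g * z * g⁻¹ = x →
    pt (g⁻¹ * z * g) = pt (g⁻¹ * y * g)
  mul_not_conj : ∀ x ∈ Perp z, ∀ y ∈ Perp z, Adj (pt x) (pt y) →
    ¬ IsConj z (x * y) ∧ ¬ IsConj z (x * y * z)
  card_centralizer : Nat.card (Subgroup.centralizer ({z} : Set X)) = 2 ^ 9 * 25920
  closure_perp : Subgroup.closure (Perp z) = Subgroup.centralizer ({z} : Set X)

end H16.U6
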