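import Cfsg.Agent.H16.Fi24.Stab2
import Cfsg.Agent.H16.Fi24.U6Loc

/-!
The 45 involutions of the stabiliser of `v2` that act as transvections on `v2⊥ / v2`.
-/

set_option autoImplicit false
set_option maxRecDepth 100000

namespace H16.Fi24

open H16.U6

/-- Representatives (in the orbit of singular vectors of the first kind) of the 45 points of
`v2⊥ / v2`, in the order of `H16.U6.adjMask`. -/
def pvec (i : Fin 45) : W :=
  ![![0, 0, 0, 0, (1, 0), (1, 0)],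
    ![0, 0, 0, 0, (1, 0), (0, 1)],
    ![0, 0, 0, 0, (1, 0), (1, 1)],
    ![0, 0, 0, (1, 0), 0, (1, 0)],
    ![0, 0, 0, (1, 0), 0, (0, 1)],
    ![0, 0, 0, (1, 0), 0, (1, 1)],
    ![0, 0, 0, (1, 0), (1, 0), 0],
    ![0, 0, 0, (1, 0), (0, 1), 0],
    ![0, 0, 0, (1, 0), (1, 1), 0],
    ![0, 0, (1, 0), 0, 0, (1, 0)],
    ![0, 0, (1, 0), 0, 0, (0, 1)],
    ![0, 0, (1, 0), 0, 0, (1, 1)],
    ![0, 0, (1, 0), 0, (1, 0), 0],
    ![0, 0, (1, 0), 0, (0, 1), 0],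
    ![0, 0, (1, 0), 0, (1, 1), 0],
    ![0, 0, (1, 0), (1, 0), 0, 0],
    ![(1, 0), (1, 0), (1, 0), (1, 0), (1, 0), (1, 0)],
    ![(0, 1), (0, 1), (1, 0), (1, 0), (1, 0), (0, 1)],
    ![(1, 1), (1, 1), (1, 0), (1, 0), (1, 0), (1, 1)],
    ![(0, 1), (0, 1), (1, 0), (1, 0), (0, 1), (1, 0)],
    ![(1, 1), (1, 1), (1, 0), (1, 0), (0, 1), (0, 1)],
    ![(1, 0), (1, 0), (1, 0), (1, 0), (0, 1), (1, 1)],
    ![(1, 1), (1, 1), (1, 0), (1, 0), (1, 1), (1, 0)],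
    ![(1, 0), (1, 0), (1, 0), (1, 0), (1, 1), (0, 1)],
    ![(0, 1), (0, 1), (1, 0), (1, 0), (1, 1), (1, 1)],
    ![0, 0, (1, 0), (0, 1), 0, 0],
    ![(0, 1), (0, 1), (1, 0), (0, 1), (1, 0), (1, 0)],
    ![(1, 1), (1, 1), (1, 0), (0, 1), (1, 0), (0, 1)],
    ![(1, 0), (1, 0), (1, 0), (0, 1), (1, 0), (1, 1)],
    ![(1, 1), (1, 1), (1, 0), (0, 1), (0, 1), (1, 0)],
    ![(1, 0), (1, 0), (1, 0), (0, 1), (0, 1), (0, 1)],
    ![(0, 1), (0, 1), (1, 0), (0, 1), (0, 1), (1, 1)],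
    ![(1, 0), (1, 0), (1, 0), (0, 1), (1, 1), (1, 0)],
    ![(0, 1), (0, 1), (1, 0), (0, 1), (1, 1), (0, 1)],
    ![(1, 1), (1, 1), (1, 0), (0, 1), (1, 1), (1, 1)],
    ![0, 0, (1, 0), (1, 1), 0, 0],
    ![(1, 1), (1, 1), (1, 0), (1, 1), (1, 0), (1, 0)],
    ![(1, 0), (1, 0), (1, 0), (1, 1), (1, 0), (0, 1)],
    ![(0, 1), (0, 1), (1, 0), (1, 1), (1, 0), (1, 1)],
    ![(1, 0), (1, 0), (1, 0), (1, 1), (0, 1), (1, 0)],
    ![(0, 1), (0, 1), (1, 0), (1, 1), (0, 1), (0, 1)],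
    ![(1, 1), (1, 1), (1, 0), (1, 1), (0, 1), (1, 1)],
    ![(0, 1), (0, 1), (1, 0), (1, 1), (1, 1), (1, 0)],
    ![(1, 1), (1, 1), (1, 0), (1, 1), (1, 1), (0, 1)],
    ![(1, 0), (1, 0), (1, 0), (1, 1), (1, 1), (1, 1)]] i

/-- The involution with centre the plane spanned by `v2` and `pvec i`. -/
def tvMap (i : Fin 45) (w : W) : W := w + sm (hf v2 w) v2 + sm (hf (pvec i) w) (pvec i)

theorem hf_self_pvec : ∀ i, hf (pvec i) (pvec i) = 0 ∧ hf v2 (pvec i) = 0 ∧ hf (pvec i) v2 = 0 ∧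
    hf v2 v2 = 0 ∧ lab (pvec i) = 2 ∧ lab (pvec i + v2) = 3 := by decide +kernel

theorem mu_add_left : ∀ a b c : F4, mu (a + b) c = mu a c + mu b c := by decide

theorem sm_add_left (a b : F4) (v : W) : sm (a + b) v = sm a v + sm b v :=
  funext fun j => mu_add_left a b (v j)

theorem hf_add (p u v : W) : hf p (u + v) = hf p u + hf p v := by
  simp only [hf, Pi.add_apply, mu_add, Finset.sum_add_distrib]

theorem hf_sm (p : W) (a : F4) (v : W) : hf p (sm a v) = mu a (hf p v) := by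
  have h : ∀ x y : F4, mu a (x + y) = mu a x + mu a y := mu_add a
  have h2 : ∀ x y : F4, mu x (mu a y) = mu a (mu x y) := fun x y => by
    rw [← mu_assoc, ← mu_assoc, mu_comm x a]
  simp only [hf, sm, Fin.sum_univ_six, h2, h]

theorem tvMap_invol (i : Fin 45) (w : W) : tvMap i (tvMap i w) = w := by
  obtain ⟨hpp, hvp, hpv, hvv, -, -⟩ := hf_self_pvec i
  have e1 : hf v2 (tvMap i w) = hf v2 w := by
    simp only [tvMap, hf_add, hf_sm, hvv, hvp, mu_zero, add_zero]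
  have e2 : hf (pvec i) (tvMap i w) = hf (pvec i) w := by
    simp only [tvMap, hf_add, hf_sm, hpv, hpp, mu_zero, add_zero]
  show tvMap i w + sm (hf v2 (tvMap i w)) v2 + sm (hf (pvec i) (tvMap i w)) (pvec i) = w
  rw [e1, e2]
  show w + sm (hf v2 w) v2 + sm (hf (pvec i) w) (pvec i) + sm (hf v2 w) v2 +
    sm (hf (pvec i) w) (pvec i) = w
  have hc : ∀ u : W, u + u = 0 := fun u => funext fun j => by
    have : ∀ a : F4, a + a = 0 := by decide
    exact this _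
  rw [show w + sm (hf v2 w) v2 + sm (hf (pvec i) w) (pvec i) + sm (hf v2 w) v2 +
      sm (hf (pvec i) w) (pvec i) = w + (sm (hf v2 w) v2 + sm (hf v2 w) v2) +
      (sm (hf (pvec i) w) (pvec i) + sm (hf (pvec i) w) (pvec i)) by abel, hc, hc, add_zero, add_zero]

/-- The involution as a permutation. -/
def tv (i : Fin 45) : Equiv.Perm W := ⟨tvMap i, tvMap i, tvMap_invol i, tvMap_invol i⟩

theorem tv_apply (i : Fin 45) (w : W) :
    tv i w = w + sm (hf v2 w) v2 + sm (hf (pvec i) w) (pvec i) := rfl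

end H16.Fi24
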