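import Cfsg.Agent.H16.Fi24.Anti
import Cfsg.Agent.H16.Fi24.U6Transv
import Cfsg.Agent.H7.U6Tv

/-!
A four-group of involutions of the first orbit in `Q` and its centraliser: first facts.
-/

set_option autoImplicit false
set_option maxRecDepth 100000

namespace H16.Fi24

open Cfsg

universe u

theorem Bf_v2 : ∀ y : W, Bf y v2 = (y 0).2 + (y 1).2 ∧ Bf y (wW v2) = (y 0).1 + (y 1).1 :=
  forall_W (by decide +kernel)

theorem v2_facts : lab v2 = 2 ∧ lab (wW v2) = 2 ∧ lab (wW (wW v2)) = 2 ∧ v2 + wW v2 = wW (wW v2) ∧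
    v2 ≠ 0 ∧ qf v2 = 0 ∧ qf (wW v2) = 0 := by decide +kernel

/-- A choice of two involutions of `Q` over `v2` and `wW v2`. -/
structure U6Ctx {G : Type u} [Group G] (z : G) (Q : Subgroup (Subgroup.centralizer ({z} : Set G)))
    [Q.Normal] where
  hF : IsOfLargeFischerTypeAt z Q
  D : Model z Q
  e : Subgroup.centralizer ({z} : Set G)
  f : Subgroup.centralizer ({z} : Set G)
  he : e ∈ Q
  hf' : f ∈ Q
  e_img : D.Φ e = v2
  f_img : D.Φ f = wW v2

variable {G : Type u} [Group G] [Finite G] {z : G}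
  {Q : Subgroup (Subgroup.centralizer ({z} : Set G))} [Q.Normal]

theorem nonempty_U6Ctx (hF : IsOfLargeFischerTypeAt z Q) : Nonempty (U6Ctx z Q) := by
  obtain ⟨D⟩ := nonempty_model hF
  obtain ⟨e, he, e1⟩ := D.surj v2
  obtain ⟨f, hf, e2⟩ := D.surj (wW v2)
  exact ⟨⟨hF, D, e, f, he, hf, e1, e2⟩⟩

namespace U6Ctx

variable (C : U6Ctx z Q)

/-- The four-group. -/
def four : Subgroup G := Subgroup.closure {(C.e : G), (C.f : G)}

/-- Its centraliser. -/
def cen : Subgroup G := Subgroup.centralizer (C.four : Set G)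

/-- The subgroup attached to a conjugate of `z`. -/
def F (_ : U6Ctx z Q) (u : G) : Subgroup G := H69.lxQ (up Q) z u

/-- The conjugates of `z` under the centraliser. -/
def dset : Set G := {u | ∃ g ∈ C.cen, g * z * g⁻¹ = u}

include C in
theorem hz : orderOf z = 2 := C.hF.1.1

include C in
theorem setting : H69.PreLarge (up Q) ∧
    (Subgroup.center (up Q)).map (up Q).subtype = Subgroup.zpowers z := by
  obtain ⟨⟨hz, hFit, hE, -, -⟩, -⟩ := C.hF
  have hEu : IsExtraspecial 2 ↥(up Q) := H68.isExtraspecial_of_equiv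
    (Subgroup.equivMapOfInjective Q _ (Subgroup.centralizer ({z} : Set G)).subtype_injective) hE
  obtain ⟨h1, h2, -⟩ := H69.fstar_setting hz (Subgroup.map_subtype_le _) (by rw [hFit]) hEu
  exact ⟨h1, h2⟩

theorem fam : H69.LXFam C.F z := H69.lxFam C.setting.1 C.setting.2 C.hz

theorem F_z : C.F z = up Q := H69.lxQ_base C.setting.1 C.setting.2

theorem F_conj (g : G) : C.F (g * z * g⁻¹) = (up Q).map (MulAut.conj g).toMonoidHom :=
  H69.lxQ_self C.setting.1 C.setting.2 g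

theorem mem_F_z {x : Subgroup.centralizer ({z} : Set G)} : (x : G) ∈ C.F z ↔ x ∈ Q := by
  rw [C.F_z]; exact mem_up

theorem sing_of_isConj {u : G} (h : IsConj z u) : H69.LXFam.Sing z u := isConj_iff.1 h

theorem sing_z : H69.LXFam.Sing z z := ⟨1, by group⟩

theorem Phi_e_f : C.D.Φ (C.e * C.f) = wW (wW v2) := by
  rw [C.D.map_mul _ C.he _ C.hf', C.e_img, C.f_img, v2_facts.2.2.2.1]

theorem commute_ef : Commute (C.e : G) (C.f : G) := by
  have h := (C.D.comm _ C.he _ C.hf').2 (by rw [C.e_img, C.f_img]; decide)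
  exact congrArg Subtype.val h

theorem ef_sq : (C.e : G) * C.e = 1 ∧ (C.f : G) * C.f = 1 := by
  refine ⟨congrArg Subtype.val ((C.D.sq _ C.he).2 ?_), congrArg Subtype.val ((C.D.sq _ C.hf').2 ?_)⟩
  · rw [C.e_img]; exact v2_facts.2.2.2.2.2.1
  · rw [C.f_img]; exact v2_facts.2.2.2.2.2.2

theorem mem_four {x : G} :
    x ∈ C.four ↔ x = 1 ∨ x = C.e ∨ x = C.f ∨ x = (C.e : G) * C.f := by
  have hc := C.commute_ef.eq
  obtain ⟨ee, ff⟩ := C.ef_sq
  refine ⟨fun hx => ?_, ?_⟩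
  · induction hx using Subgroup.closure_induction with
    | mem y hy => simp only [Set.mem_insert_iff, Set.mem_singleton_iff] at hy; tauto
    | one => exact Or.inl rfl
    | mul a b _ _ ha hb =>
      have e2 : ∀ y, (C.e : G) * (C.e * y) = y := fun y => by rw [← mul_assoc, ee, one_mul]
      have f2 : ∀ y, (C.f : G) * (C.f * y) = y := fun y => by rw [← mul_assoc, ff, one_mul]
      have c2 : ∀ y, (C.f : G) * (C.e * y) = C.e * (C.f * y) := fun y => by
        rw [← mul_assoc, ← hc, mul_assoc]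
      rcases ha with rfl | rfl | rfl | rfl <;> rcases hb with rfl | rfl | rfl | rfl <;>
        simp [mul_assoc, ee, ff, ← hc, e2, f2, c2]
    | inv a _ ha =>
      rcases ha with rfl | rfl | rfl | rfl
      · exact Or.inl inv_one
      · exact Or.inr (Or.inl (inv_eq_of_mul_eq_one_right ee))
      · exact Or.inr (Or.inr (Or.inl (inv_eq_of_mul_eq_one_right ff)))
      · refine Or.inr (Or.inr (Or.inr (inv_eq_of_mul_eq_one_right ?_)))
        rw [mul_assoc, ← mul_assoc (C.f : G), ← hc, mul_assoc, ff, mul_one, ee]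
  · rintro (rfl | rfl | rfl | rfl)
    · exact one_mem _
    · exact Subgroup.subset_closure (Or.inl rfl)
    · exact Subgroup.subset_closure (Or.inr rfl)
    · exact mul_mem (Subgroup.subset_closure (Or.inl rfl)) (Subgroup.subset_closure (Or.inr rfl))

theorem four_le_Q : C.four ≤ up Q := (Subgroup.closure_le _).2 (by
  rintro x (rfl | rfl)
  · exact mem_up.2 C.he
  · exact mem_up.2 C.hf')

theorem mem_cen {x : G} : x ∈ C.cen ↔ Commute x C.e ∧ Commute x C.f := by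
  rw [cen, four, Subgroup.centralizer_closure, Subgroup.mem_centralizer_iff]
  simp only [Set.mem_insert_iff, Set.mem_singleton_iff, forall_eq_or_imp, forall_eq]
  exact ⟨fun h => ⟨h.1.symm, h.2.symm⟩, fun h => ⟨h.1.eq.symm, h.2.eq.symm⟩⟩

theorem Q_mem_cen {x : Subgroup.centralizer ({z} : Set G)} (hx : x ∈ Q) :
    (x : G) ∈ C.cen ↔ Bf (C.D.Φ x) v2 = 0 ∧ Bf (C.D.Φ x) (wW v2) = 0 := by
  rw [C.mem_cen, ← C.f_img, ← C.e_img, ← C.D.comm x hx _ C.he, ← C.D.comm x hx _ C.hf']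
  exact ⟨fun h => ⟨Subtype.ext h.1.eq, Subtype.ext h.2.eq⟩,
    fun h => ⟨congrArg Subtype.val h.1, congrArg Subtype.val h.2⟩⟩

theorem z_mem_cen : z ∈ C.cen :=
  C.mem_cen.2 ⟨(C.fam.commute_of_mem (C.mem_F_z.2 C.he)).symm,
    (C.fam.commute_of_mem (C.mem_F_z.2 C.hf')).symm⟩

/-- Elements of the centraliser of the four-group commuting with `z`. -/
theorem rho_cen {h : Subgroup.centralizer ({z} : Set G)} (hh : (h : G) ∈ C.cen) :
    h ∈ C.D.M ∧ C.D.ρ h ∈ K0stab v2 := by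
  obtain ⟨he, hf⟩ := C.mem_cen.1 hh
  have fix : ∀ x : Subgroup.centralizer ({z} : Set G), x ∈ Q → Commute (h : G) x →
      C.D.ρ h (C.D.Φ x) = C.D.Φ x := fun x hx hc => by
    rw [C.D.conj h x hx]
    congr 1
    exact Subtype.ext (mul_inv_eq_of_eq_mul hc.eq)
  have h1 := fix _ C.he he
  have h2 := fix _ C.hf' hf
  rw [C.e_img] at h1
  rw [C.f_img] at h2
  have hM : h ∈ C.D.M := by
    by_contra hn
    have := anti C.hF C.D h hn v2
    rw [h1, h2] at this
    exact absurd this (by decide)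
  exact ⟨hM, C.D.rho_mem h hM, h1⟩

theorem exists_cen {g : Equiv.Perm W} (hg : g ∈ K0stab v2) :
    ∃ h : Subgroup.centralizer ({z} : Set G), (h : G) ∈ C.cen ∧ h ∈ C.D.M ∧ C.D.ρ h = g := by
  obtain ⟨k, hk, rfl⟩ := C.D.exists_rho hg.1
  have h1 : C.D.ρ k v2 = v2 := hg.2
  have h2 : C.D.ρ k (wW v2) = wW v2 := by rw [(isUni_K0 hg.1).wcomm, h1]
  -- corrections inside `Q`
  obtain ⟨r, hr, hr'⟩ := C.D.surj (Pi.single 0 (0, 1))
  obtain ⟨t, ht, ht'⟩ := C.D.surj (Pi.single 0 (1, 0))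
  have hzz : z * z = 1 := by
    have := pow_orderOf_eq_one z
    rwa [C.hz, pow_two] at this
  have key : ∀ x : Subgroup.centralizer ({z} : Set G), x ∈ Q → C.D.ρ k (C.D.Φ x) = C.D.Φ x →
      C.D.Φ x ≠ 0 → ∀ q ∈ Q, (Bf (C.D.Φ q) (C.D.Φ x) = 0 → (q : G) * x * (q : G)⁻¹ = x) ∧
      (Bf (C.D.Φ q) (C.D.Φ x) ≠ 0 → (q : G) * x * (q : G)⁻¹ = x * z) := by
    intro x hx _ hne q hq
    refine ⟨fun hb => mul_inv_eq_of_eq_mul (congrArg Subtype.val ((C.D.comm q hq x hx).2 hb)),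
      fun hb => ?_⟩
    have hq' : q * x * q⁻¹ ∈ Q := Subgroup.Normal.conj_mem inferInstance x hx q
    rcases C.D.eq_or_mul hq' hx (by rw [← C.D.conj q x hx, C.D.rho_Q hq]; rfl) with e | e
    · exact absurd ((C.D.comm q hq x hx).1 (mul_inv_eq_iff_eq_mul.1 (Subtype.ext e))) hb
    · exact e
  have hkx : ∀ x : Subgroup.centralizer ({z} : Set G), x ∈ Q → C.D.ρ k (C.D.Φ x) = C.D.Φ x →
      (k : G) * x * (k : G)⁻¹ = x ∨ (k : G) * x * (k : G)⁻¹ = x * z := fun x hx hf =>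
    C.D.eq_or_mul (Subgroup.Normal.conj_mem inferInstance x hx k) hx (by rw [← C.D.conj k x hx, hf])
  have hee := hkx _ C.he (by rw [C.e_img]; exact h1)
  have hff := hkx _ C.hf' (by rw [C.f_img]; exact h2)
  have hre := key _ C.he (by rw [C.e_img]; exact h1) (by rw [C.e_img]; decide)
  have hrf := key _ C.hf' (by rw [C.f_img]; exact h2) (by rw [C.f_img]; decide)
  rw [C.e_img] at hre
  rw [C.f_img] at hrf
  have rv : Bf (C.D.Φ r) v2 ≠ 0 ∧ Bf (C.D.Φ r) (wW v2) = 0 := by rw [hr']; decide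
  have tv' : Bf (C.D.Φ t) v2 = 0 ∧ Bf (C.D.Φ t) (wW v2) ≠ 0 := by rw [ht']; decide
  have hre1 := (hre r hr).2 rv.1
  have hrf0 := (hrf r hr).1 rv.2
  have hte0 := (hre t ht).1 tv'.1
  have htf1 := (hrf t ht).2 tv'.2
  have zc' : ∀ x : Subgroup.centralizer ({z} : Set G), (x : G) * z = z * x := fun x =>
    Subgroup.mem_centralizer_singleton_iff.1 x.2
  have flip : ∀ q : Subgroup.centralizer ({z} : Set G), ∀ x : G,
      (q : G) * x * (q : G)⁻¹ = x * z → (q : G) * (x * z) * (q : G)⁻¹ = x := fun q x e => by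
    calc (q : G) * (x * z) * (q : G)⁻¹ = ((q : G) * x * (q : G)⁻¹) * ((q : G) * z * (q : G)⁻¹) := by group
      _ = x := by rw [e, mul_inv_eq_of_eq_mul (zc' q), mul_assoc, hzz, mul_one]
  have stay : ∀ q : Subgroup.centralizer ({z} : Set G), ∀ x : G,
      (q : G) * x * (q : G)⁻¹ = x → (q : G) * (x * z) * (q : G)⁻¹ = x * z := fun q x e => by
    calc (q : G) * (x * z) * (q : G)⁻¹ = ((q : G) * x * (q : G)⁻¹) * ((q : G) * z * (q : G)⁻¹) := by group
      _ = x * z := by rw [e, mul_inv_eq_of_eq_mul (zc' q)]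
  have hq : ∀ q ∈ Q, (q : G) * ((k : G) * C.e * (k : G)⁻¹) * (q : G)⁻¹ = C.e →
      (q : G) * ((k : G) * C.f * (k : G)⁻¹) * (q : G)⁻¹ = C.f →
      ∃ h : Subgroup.centralizer ({z} : Set G), (h : G) ∈ C.cen ∧ h ∈ C.D.M ∧ C.D.ρ h = C.D.ρ k := by
    intro q hq e1 e2
    refine ⟨q * k, C.mem_cen.2 ⟨?_, ?_⟩, mul_mem (C.D.Q_le hq) hk, by
      rw [_root_.map_mul, C.D.rho_Q hq, one_mul]⟩
    · refine mul_inv_eq_iff_eq_mul.1 ?_
      rw [Subgroup.coe_mul, mul_inv_rev]
      simpa [mul_assoc] using e1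
    · refine mul_inv_eq_iff_eq_mul.1 ?_
      rw [Subgroup.coe_mul, mul_inv_rev]
      simpa [mul_assoc] using e2
  rcases hee with a | a <;> rcases hff with b | b
  · exact hq 1 (one_mem _) (by simp [a]) (by simp [b])
  · exact hq t ht (by rw [a]; exact hte0) (by rw [b]; exact flip t _ htf1)
  · exact hq r hr (by rw [a]; exact flip r _ hre1) (by rw [b]; exact hrf0)
  · refine hq (t * r) (mul_mem ht hr) ?_ ?_
    · rw [a, Subgroup.coe_mul, show (t : G) * r * (C.e * z) * ((t : G) * r)⁻¹ =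
        (t : G) * ((r : G) * (C.e * z) * (r : G)⁻¹) * (t : G)⁻¹ by group, flip r _ hre1]
      exact hte0
    · rw [b, Subgroup.coe_mul, show (t : G) * r * (C.f * z) * ((t : G) * r)⁻¹ =
        (t : G) * ((r : G) * (C.f * z) * (r : G)⁻¹) * (t : G)⁻¹ by group, stay r _ hrf0]
      exact flip t _ htf1

end U6Ctx

end H16.Fi24
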