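import Cfsg.Agent.H16.Fi24.U6Ctx

/-!
The local data at `z` inside the group: interface between the fusion and fibre analysis and the
recognition in the quotient by the four-group.
-/

set_option autoImplicit false

namespace H16.Fi24.U6Ctx

universe u

variable {G : Type u} [Group G] [Finite G] {z : G}
  {Q : Subgroup (Subgroup.centralizer ({z} : Set G))} [Q.Normal] (C : U6Ctx z Q)

/-- Members of the class in the centraliser of the four-group commuting with `z`, other than `z`. -/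
def gperp : Set G := {u | u ∈ C.dset ∧ u ≠ z ∧ Commute u z}

/-- The local data. -/
structure GLoc (pt : G → Fin 45) : Prop where
  z_not_four : z ∉ C.four
  unique : ∀ u ∈ C.dset, ∀ e' ∈ C.four, u * e' ∈ C.dset → e' = 1
  surj : ∀ p, ∃ u ∈ C.gperp, pt u = p
  card_fibre : ∀ p, Set.ncard {u | u ∈ C.gperp ∧ pt u = p} = 4
  commute_iff : ∀ x ∈ C.gperp, ∀ y ∈ C.gperp,
    Commute x y ↔ pt x = pt y ∨ H16.U6.Adj (pt x) (pt y)
  braid : ∀ x ∈ C.gperp, ∀ y ∈ C.gperp, ¬ Commute x y → (x * y) ^ 3 ∈ C.four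
  five : ∀ a ∈ C.gperp, ∀ b ∈ C.gperp, ∀ c ∈ C.gperp, ∀ d ∈ C.gperp, a ≠ b → a ≠ c → a ≠ d →
    b ≠ c → b ≠ d → c ≠ d → pt a = pt b → pt a = pt c → pt a = pt d →
    ∃ e' ∈ C.four, a * b * c * d = z * e'
  line_symm : ∀ x ∈ C.gperp, ∀ y ∈ C.gperp, x ≠ y → pt x = pt y → ∀ g ∈ C.cen, g * z * g⁻¹ = x →
    pt (g⁻¹ * z * g) = pt (g⁻¹ * y * g)
  mul_not : ∀ x ∈ C.gperp, ∀ y ∈ C.gperp, H16.U6.Adj (pt x) (pt y) → ∀ e' ∈ C.four,
    x * y * e' ∉ C.dset ∧ x * y * z * e' ∉ C.dset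
  generated : C.cen ⊓ Subgroup.centralizer ({z} : Set G) ≤ Subgroup.closure C.gperp ⊔ C.four
  card_local : Nat.card ↥(C.cen ⊓ Subgroup.centralizer ({z} : Set G)) = 2 ^ 11 * 25920
  four_le_derived : C.four ≤ ⁅C.cen, C.cen⁆

end H16.Fi24.U6Ctx
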