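import Cfsg.Agent.H16.Fi24.U6Core
import Cfsg.Agent.H16.Fi24.U6Cert

/-!
A conjugate `s` of `z` in standard position and the coordinates at `g⁻¹ z g`.
-/

set_option autoImplicit false
set_option maxRecDepth 100000

namespace H16.Fi24

open Cfsg

universe u

namespace U6Ctx

variable {G : Type u} [Group G] [Finite G] {z : G}
  {Q : Subgroup (Subgroup.centralizer ({z} : Set G))} [Q.Normal] (C : U6Ctx z Q)

/-- The pair of orthogonal conjugates given by a member of `Q`. -/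
theorem pair_of_Q {s : Subgroup.centralizer ({z} : Set G)} (hs : s ∈ Q) {g : G}
    (hg : g * z * g⁻¹ = (s : G)) (hs1 : (s : G) ≠ z) : H69.Pair C.F z z (s : G) := by
  have := H69.pair_of_preLarge C.setting.1 C.setting.2 C.hz g (fun h => hs1 (by
    rw [← hg, Subgroup.mem_centralizer_singleton_iff.1 h, mul_inv_cancel_right]))
    (by rw [hg]; exact mem_up.2 hs)
  rwa [hg] at this

/-- A conjugate `s` of `z` in standard position, with the images of `wW v2` under the attached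
group. -/
structure Std (s : Subgroup.centralizer ({z} : Set G)) (g : G) : Prop where
  hs : s ∈ Q
  hsv : C.D.Φ s = v3
  hs1 : (s : G) ≠ z
  hg : g * z * g⁻¹ = (s : G)
  e_mem : (C.e : G) ∈ C.F s
  f_comm : Commute (C.f : G) s
  att_mem : ∀ y ∈ att Q g, (y : G) ∈ C.F s
  values : ∀ y ∈ att Q g, C.D.ρ y (wW v2) = wW v2 ∨ C.D.ρ y (wW v2) = wW v2 + wW v3 ∨
    C.D.ρ y (wW v2) = wW (wW v2) ∨ C.D.ρ y (wW v2) = wW (wW v2) + wW (wW v3)
  mover : ∃ y ∈ att Q g, C.D.ρ y (wW v2) = wW (wW v2)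

theorem exists_std : ∃ s g, C.Std s g := by
  classical
  -- a conjugate in standard position
  obtain ⟨s, hs, hsv⟩ := C.D.surj v3
  have hs1 : (s : G) ≠ z := fun e => by
    have := (C.D.eq_zero s hs).2 (Or.inr e)
    rw [hsv] at this
    exact absurd this (by decide)
  obtain ⟨g, hg⟩ := exists_g_of_isConj ((isConj_iff_lab C.hF C.D hs hs1).2 (by rw [hsv]; exact v3_lab))
  have hA := fused C.hF hs hg hs1
  have hP := C.pair_of_Q hs hg hs1
  have hF2 : C.F s = (up Q).map (MulAut.conj g).toMonoidHom := by rw [← hg]; exact C.F_conj g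
  have hzs : z ∈ C.F (s : G) := hP.vu
  have hsing : H69.LXFam.Sing z (s : G) := ⟨g, hg⟩
  -- `e` lies in the attached subgroup
  have heS : (C.e : G) ∈ C.F s := by
    obtain ⟨x, hx, hxs, hxe⟩ := (hA.inS_iff C.D hs hsv C.F_z hF2 hP v2).1 inS_v2.1
    rcases C.D.eq_or_mul C.he hx (C.e_img.trans hxe.symm) with h | h
    · rw [h]; exact hxs
    · rw [h]; exact mul_mem hxs hzs
  have hcs : ∀ q : Subgroup.centralizer ({z} : Set G), q ∈ Q → Bf (C.D.Φ q) v3 = 0 → Commute (q : G) s :=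
    fun q hq h => congrArg Subtype.val ((C.D.comm q hq s hs).2 (by rw [hsv]; exact h))
  have hes : Commute (C.e : G) s := hcs _ C.he (by rw [C.e_img]; decide)
  have hfs : Commute (C.f : G) s := hcs _ C.hf' (by rw [C.f_img]; decide)
  -- the images of `wW v2` under the attached group
  have attF : ∀ y ∈ att Q g, (y : G) ∈ C.F s := fun y hy => by
    rw [hF2]; exact (Subgroup.mem_inf.1 (Subgroup.mem_subgroupOf.1 hy)).1
  have hv2 : ∀ y ∈ att Q g, C.D.ρ y v2 = v2 ∨ C.D.ρ y v2 = v2 + v3 := by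
    intro y hy
    rw [← C.e_img, C.D.conj y _ C.he]
    rcases C.fam.comm_cases hsing (attF y hy) heS with h | h
    · left; congr 1; exact Subtype.ext h
    · right
      rw [← hsv, ← C.D.map_mul _ C.he s hs]
      congr 1; exact Subtype.ext h
  have hlin : ∀ y ∈ C.D.M, ∀ v, C.D.ρ y (wW v) = wW (C.D.ρ y v) := fun y hy =>
    (isUni_K0 (C.D.rho_mem y hy)).wcomm
  have hT : ∀ y ∈ att Q g, C.D.ρ y (wW v2) = wW v2 ∨ C.D.ρ y (wW v2) = wW v2 + wW v3 ∨
      C.D.ρ y (wW v2) = wW (wW v2) ∨ C.D.ρ y (wW v2) = wW (wW v2) + wW (wW v3) := by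
    intro y hy
    by_cases hM : y ∈ C.D.M
    · rw [hlin y hM]
      rcases hv2 y hy with h | h <;> rw [h]
      · exact Or.inl rfl
      · exact Or.inr (Or.inl (wW_add _ _))
    · rw [anti C.hF C.D y hM]
      rcases hv2 y hy with h | h <;> rw [h]
      · exact Or.inr (Or.inr (Or.inl rfl))
      · exact Or.inr (Or.inr (Or.inr (by rw [wW_add, wW_add])))
  obtain ⟨y, hy, hyf⟩ : ∃ y ∈ att Q g, C.D.ρ y (wW v2) = wW (wW v2) := by
    obtain ⟨e1, he1, hel⟩ := SetLike.not_le_iff_exists.1 (hA.image_struct C.D hs hsv).2.2.2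
    obtain ⟨y0, hy0, rfl⟩ := he1
    have hM : y0 ∉ C.D.M := fun h => hel fun v => hlin y0 h v
    rcases hv2 y0 hy0 with h | h
    · exact ⟨y0, hy0, by rw [anti C.hF C.D y0 hM, h]⟩
    · obtain ⟨⟨l, hl, hlB⟩, hlK⟩ := hA.lin4_mem C.D hs hsv 1
      have hl' : C.D.ρ l = swB := hlB
      refine ⟨y0 * l, mul_mem hy0 hl, ?_⟩
      have hswB : swB (wW v2) = wW v2 + wW v3 := by decide +kernel
      have hfix3 : C.D.ρ y0 (wW v3) = wW (wW v3) := by
        rw [anti C.hF C.D y0 hM, ← hsv, hA.image_fix C.D hs _ ⟨y0, hy0, rfl⟩]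
      rw [_root_.map_mul, Equiv.Perm.mul_apply, hl', hswB, C.D.rho_add, anti C.hF C.D y0 hM, h,
        hfix3, wW_add, wW_add, add_assoc, add_self_W, add_zero]
  exact ⟨s, g, hs, hsv, hs1, hg, heS, hfs, attF, hT, y, hy, hyf⟩

/-- The elements corresponding to `z`, `e`, `f` and coordinates in which the first two are in standard
position. -/
theorem exists_side {s : Subgroup.centralizer ({z} : Set G)} {g : G} (hS : C.Std s g) :
    ∃ (z' e' f' : Subgroup.centralizer ({z} : Set G)) (D2 : Model z Q),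
      (z' : G) = g⁻¹ * z * g ∧ (e' : G) = g⁻¹ * C.e * g ∧ (f' : G) = g⁻¹ * C.f * g ∧
      z' ∈ Q ∧ e' ∈ Q ∧ f' ∈ att Q g⁻¹ ∧ Fused z Q z' g⁻¹ ∧ D2.Φ z' = v3 ∧ D2.Φ e' = v2 := by
  classical
  obtain ⟨hs, hsv, hs1, hg, heS, hfs, -, -, -⟩ := hS
  have hzs : z ∈ C.F (s : G) := (C.pair_of_Q hs hg hs1).vu
  -- transport to `z'`
  have hzg : g⁻¹ * z * g ∈ C.F z := C.fam.mem_Q_conj' g (by rw [hg]; exact hzs)
  have hz'C : g⁻¹ * z * g ∈ Subgroup.centralizer ({z} : Set G) := by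
    rw [C.F_z] at hzg; exact Subgroup.map_subtype_le Q hzg
  set z' : Subgroup.centralizer ({z} : Set G) := ⟨g⁻¹ * z * g, hz'C⟩ with hz'def
  have hz'Q : z' ∈ Q := C.mem_F_z.1 hzg
  have hz'1 : (z' : G) ≠ z := fun e => hs1 (by
    rw [← hg]
    calc g * z * g⁻¹ = g * (g⁻¹ * z * g) * g⁻¹ := by rw [show g⁻¹ * z * g = z from e]
      _ = z := by group)
  have hg' : g⁻¹ * z * g⁻¹⁻¹ = (z' : G) := by rw [inv_inv]
  have hA' := fused C.hF hz'Q hg' hz'1
  have hP' := C.pair_of_Q hz'Q hg' hz'1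
  have hF2' : C.F z' = (up Q).map (MulAut.conj g⁻¹).toMonoidHom := by rw [← hg']; exact C.F_conj g⁻¹
  have back : ∀ x : G, x ∈ C.F s → g⁻¹ * x * g ∈ C.F z := fun x hx => by
    have := C.fam.mem_Q_conj' g (x := z) (a := x) (by rw [hg]; exact hx)
    exact this
  have he'C : g⁻¹ * (C.e : G) * g ∈ Subgroup.centralizer ({z} : Set G) := by
    have h := back _ heS; rw [C.F_z] at h; exact Subgroup.map_subtype_le Q h
  set e' : Subgroup.centralizer ({z} : Set G) := ⟨g⁻¹ * C.e * g, he'C⟩ with he'def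
  have he'Q : e' ∈ Q := C.mem_F_z.1 (back _ heS)
  have he'F : (e' : G) ∈ C.F (z' : G) := by
    have := C.fam.mem_Q_conj g⁻¹ (C.mem_F_z.2 C.he)
    rw [hg', inv_inv] at this
    exact this
  have hf'C : g⁻¹ * (C.f : G) * g ∈ Subgroup.centralizer ({z} : Set G) := by
    rw [Subgroup.mem_centralizer_singleton_iff]
    calc g⁻¹ * (C.f : G) * g * z = g⁻¹ * ((C.f : G) * (g * z * g⁻¹)) * g := by group
      _ = g⁻¹ * ((g * z * g⁻¹) * (C.f : G)) * g := by rw [hg, hfs.eq]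
      _ = z * (g⁻¹ * (C.f : G) * g) := by group
  set f' : Subgroup.centralizer ({z} : Set G) := ⟨g⁻¹ * C.f * g, hf'C⟩ with hf'def
  -- coordinates at `z'`
  obtain ⟨k0, hk0, hv0⟩ := C.D.exists_twist_apply hz'Q (lab_of_isConj C.hF C.D hz'Q
    (isConj_iff.2 ⟨g⁻¹, hg'⟩) hz'1)
  set D1 := C.D.twist k0 hk0
  have he'S : inS (D1.Φ e') := (hA'.inS_iff D1 hz'Q hv0 C.F_z hF2' hP' _).2 ⟨e', he'Q, he'F, rfl⟩
  have he'l : lab (D1.Φ e') = 2 := by
    have hne : (e' : G) ≠ z := fun h => by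
      have h' : (C.e : G) = g * z * g⁻¹ := by
        calc (C.e : G) = g * (g⁻¹ * (C.e : G) * g) * g⁻¹ := by group
          _ = g * z * g⁻¹ := by rw [show g⁻¹ * (C.e : G) * g = z from h]
      have h2 := lab_of_isConj C.hF C.D C.he (isConj_iff.2 ⟨g, h'.symm⟩) (fun h3 => by
        have := (C.D.eq_zero _ C.he).2 (Or.inr h3)
        rw [C.e_img] at this
        exact absurd this (by decide))
      rw [C.e_img] at h2
      exact absurd h2 (by decide)
    have h2o : orderOf e' = 2 := by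
      refine orderOf_eq_prime ?_ fun h => ?_
      · rw [pow_two]
        refine Subtype.ext ?_
        show g⁻¹ * (C.e : G) * g * (g⁻¹ * (C.e : G) * g) = 1
        calc _ = g⁻¹ * ((C.e : G) * C.e) * g := by group
          _ = 1 := by rw [C.ef_sq.1]; group
      · have h' : (C.e : G) = 1 := by
          calc (C.e : G) = g * (g⁻¹ * (C.e : G) * g) * g⁻¹ := by group
            _ = 1 := by rw [show g⁻¹ * (C.e : G) * g = 1 from congrArg Subtype.val h]; group
        have := (C.D.eq_zero _ C.he).2 (Or.inl h')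
        rw [C.e_img] at this
        exact absurd this (by decide)
    have h1 := D1.lab_involution he'Q h2o hne
    have h3 := (lab_cases (D1.Φ e')).2.1
    by_contra hl
    have hc := (isConj_iff_lab C.hF D1 he'Q hne).2 (by omega)
    have hce : IsConj z (C.e : G) := hc.trans (isConj_iff.2 ⟨g, by
      show g * (g⁻¹ * (C.e : G) * g) * g⁻¹ = _; group⟩)
    have h2 := lab_of_isConj C.hF C.D C.he hce (fun h3 => by
      have := (C.D.eq_zero _ C.he).2 (Or.inr h3)
      rw [C.e_img] at this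
      exact absurd this (by decide))
    rw [C.e_img] at h2
    exact absurd h2 (by decide)
  obtain ⟨g0, hg0, hg0v, hg0e⟩ := exists_to_v2 he'S he'l
  obtain ⟨k1, hk1, hk1g⟩ := D1.exists_rho hg0
  set D2 := D1.twist k1 hk1
  have hD2 : ∀ x ∈ Q, D2.Φ x = g0 (D1.Φ x) := fun x hx => by
    rw [← hk1g, D1.conj k1 x hx]; rfl
  have hv : D2.Φ z' = v3 := by rw [hD2 _ hz'Q, hv0, hg0v]
  have hev : D2.Φ e' = v2 := by rw [hD2 _ he'Q, hg0e]
  refine ⟨z', e', f', D2, rfl, rfl, rfl, hz'Q, he'Q, Subgroup.mem_subgroupOf.2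
    ⟨⟨C.f, mem_up.2 C.hf', by show g⁻¹ * (C.f : G) * g⁻¹⁻¹ = _; rw [inv_inv]⟩, hf'C⟩, hA', hv, hev⟩

end U6Ctx

end H16.Fi24
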