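import Cfsg.Agent.H16.Fi24.Stabilizer
import Cfsg.Agent.H16.Fi24.Anti

/-!
The intersection of `Q` with the subgroup attached to a conjugate of `z` in standard position, and
the linear part of the attached group, explicitly.
-/

set_option autoImplicit false
set_option maxRecDepth 100000

namespace H16.Fi24

open Cfsg

universe u

/-- Exchanges the first two and the next two coordinates. -/
def swA : Equiv.Perm W := mono (Equiv.swap 0 1 * Equiv.swap 2 3) 0

/-- Exchanges the first pair of coordinates with the second pair. -/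
def swB : Equiv.Perm W := mono (Equiv.swap 0 2 * Equiv.swap 1 3) 0

theorem swA_mem : swA ∈ K0 := by
  have e : swA = (([9, 9, 0, 6, 4, 4, 0, 6, 0] : List (Fin 10)).map gen).prod := by
    refine Equiv.ext (congrFun ((isUni_mono _ _).ext_basis
      (isUni_K0 (list_prod_mem (S := K0) fun g hg => ?_)) ?_))
    · obtain ⟨k, -, rfl⟩ := List.mem_map.1 hg; exact gen_mem k
    · decide +kernel
  rw [e]; exact list_prod_mem fun g hg => by obtain ⟨k, -, rfl⟩ := List.mem_map.1 hg; exact gen_mem k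

theorem swB_mem : swB ∈ K0 := by
  have e : swB = (([9, 9, 0, 7, 4, 4, 0, 7, 0] : List (Fin 10)).map gen).prod := by
    refine Equiv.ext (congrFun ((isUni_mono _ _).ext_basis
      (isUni_K0 (list_prod_mem (S := K0) fun g hg => ?_)) ?_))
    · obtain ⟨k, -, rfl⟩ := List.mem_map.1 hg; exact gen_mem k
    · decide +kernel
  rw [e]; exact list_prod_mem fun g hg => by obtain ⟨k, -, rfl⟩ := List.mem_map.1 hg; exact gen_mem k

theorem sw_fix : swA v3 = v3 ∧ swB v3 = v3 := by decide +kernel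

theorem sw_cls : ∀ k, (swA (cls k) = cls k ∨ swA (cls k) = cls k + v3) ∧
    (swB (cls k) = cls k ∨ swB (cls k) = cls k + v3) := by decide +kernel

/-- Four elements spanning the linear part of the attached group. -/
def lin4 : Fin 4 → Equiv.Perm W :=
  ![swA, swB, gen3 0 * swA * (gen3 0)⁻¹, gen3 1 * swB * (gen3 1)⁻¹]

/-- The linear part. -/
def lin16 (b : Fin 4 → Bool) : Equiv.Perm W :=
  (cond (b 0) (lin4 0) 1) * (cond (b 1) (lin4 1) 1) * (cond (b 2) (lin4 2) 1) *
    (cond (b 3) (lin4 3) 1)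

theorem lin16_inj : ∀ b c, lin16 b (cls 0) = lin16 c (cls 0) → lin16 b (cls 1) = lin16 c (cls 1) →
    lin16 b (cls 12) = lin16 c (cls 12) → lin16 b (cls 13) = lin16 c (cls 13) → b = c := by
  decide +kernel

/-- The image of the intersection of `Q` with the attached subgroup. -/
def inS (y : W) : Prop := y 5 = cj (y 4) ∧ (y 1).2 = (y 0).2 ∧ (y 2).2 = (y 0).2 ∧
  (y 3).2 = (y 0).2 ∧ (y 0).1 + (y 1).1 + (y 2).1 + (y 3).1 = 0

instance : DecidablePred inS := fun _ => inferInstanceAs (Decidable (_ ∧ _))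

theorem card_inS : (Finset.univ.filter inS).card = 64 := by decide +kernel

theorem inS_v2 : inS v2 ∧ inS v3 ∧ inS (wW v3) ∧ ¬ inS (wW v2) := by decide +kernel

theorem inS_of_lin : ∀ y : W, Bf y v3 = 0 → (∀ k, lin4 k y = y ∨ lin4 k y = y + v3) → inS y :=
  forall_W (by decide +kernel)

/-- Words in the stabiliser moving `v2` to the thirty points of the intersection in its orbit. -/
def word30 : Fin 30 → List (Fin 3) := ![[], [2], [0], [2, 2], [0, 2], [2, 0], [0, 0], [1, 0, 0], [2, 0, 2], [1, 2, 0], [1, 0, 2], [2, 0, 0], [0, 0, 2], [0, 2, 0], [1, 0, 0, 2], [2, 1, 0, 2], [1, 0, 2, 0], [0, 1, 2, 0], [1, 2, 0, 2], [2, 0, 0, 2], [0, 2, 0, 0], [2, 0, 2, 0], [0, 1, 0, 2], [2, 0, 1, 2, 0], [1, 0, 2, 0, 0], [2, 0, 2, 0, 0], [0, 1, 0, 2, 0], [0, 0, 1, 2, 0], [1, 2, 0, 2, 0, 0], [2, 1, 0, 2, 0, 0]]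

theorem word30_ok : ∀ y : W, inS y → lab y = 2 → ∃ k, (((word30 k).map gen3).prod : Equiv.Perm W) v2 = y :=
  forall_W (by decide +kernel)

theorem exists_to_v2 {y : W} (hy : inS y) (hl : lab y = 2) :
    ∃ g ∈ K0, g v3 = v3 ∧ g y = v2 := by
  obtain ⟨k, hk⟩ := word30_ok y hy hl
  have hm : ((word30 k).map gen3).prod ∈ K0stab v3 := list_prod_mem (S := K0stab v3) fun g hg => by
    obtain ⟨n, -, rfl⟩ := List.mem_map.1 hg
    exact ⟨gen3_mem n, gen3_fix n⟩
  refine ⟨_, (inv_mem hm).1, (inv_mem hm).2, ?_⟩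
  rw [← hk]; exact (Equiv.Perm.inv_eq_iff_eq).2 rfl

variable {G : Type u} [Group G] [Finite G] {z : G}
  {Q : Subgroup (Subgroup.centralizer ({z} : Set G))} [Q.Normal]
  {s : Subgroup.centralizer ({z} : Set G)} {g : G}

/-- A stabiliser element fixing all classes lies in the attached group. -/
theorem Fused.mem_image_of_cls (hA : Fused z Q s g) (D : Model z Q) (hs : s ∈ Q) (hv : D.Φ s = v3)
    {e : Equiv.Perm W} (he : e ∈ K0) (hfix : e v3 = v3) (hc : ∀ k, mem3 k (e (cls k))) :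
    e ∈ (att Q g).map D.ρ := by
  have he' : e ∈ D.stab3 := by
    obtain ⟨m, -, e'⟩ := D.exists_rho he
    exact ⟨⟨m, e'⟩, hfix⟩
  have hsym := D.stab3_le he'
  have h : (⟨e, he'⟩ : D.stab3) ∈ ((att Q g).map D.ρ).subgroupOf D.stab3 := by
    rw [← (hA.stab_struct D hs hv).1, MonoidHom.mem_ker]
    refine Equiv.ext fun i => ?_
    show IsSym3.letMap (g := e) hsym i = i
    refine IsSym3.letMap_unique hsym fun k hk => ?_
    rwa [IsSym3.pairMap_unique hsym (hc k)]
  exact h

theorem Fused.lin4_mem (hA : Fused z Q s g) (D : Model z Q) (hs : s ∈ Q) (hv : D.Φ s = v3) (k : Fin 4) :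
    lin4 k ∈ (att Q g).map D.ρ ⊓ K0 := by
  have hA' : swA ∈ (att Q g).map D.ρ :=
    hA.mem_image_of_cls D hs hv swA_mem sw_fix.1 fun k => (sw_cls k).1
  have hB' : swB ∈ (att Q g).map D.ρ :=
    hA.mem_image_of_cls D hs hv swB_mem sw_fix.2 fun k => (sw_cls k).2
  have hr : ∀ n, gen3 n ∈ D.ρ.range := fun n => by
    obtain ⟨m, -, e'⟩ := D.exists_rho (gen3_mem n)
    exact ⟨m, e'⟩
  have hc : ∀ n x, x ∈ (att Q g).map D.ρ → x ∈ K0 → gen3 n * x * (gen3 n)⁻¹ ∈ (att Q g).map D.ρ ⊓ K0 :=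
    fun n x hx hx' => ⟨hA.image_norm D hs (by rw [hv]; decide) (hr n) (hv ▸ gen3_fix n) hx,
      K0.mul_mem (K0.mul_mem (gen3_mem n) hx') (K0.inv_mem (gen3_mem n))⟩
  fin_cases k
  exacts [⟨hA', swA_mem⟩, ⟨hB', swB_mem⟩, hc 0 _ hA' swA_mem, hc 1 _ hB' swB_mem]

/-- The linear part of the attached group. -/
theorem Fused.lin_part (hA : Fused z Q s g) (D : Model z Q) (hs : s ∈ Q) (hv : D.Φ s = v3)
    (e : Equiv.Perm W) : e ∈ (att Q g).map D.ρ ⊓ K0 ↔ ∃ b, lin16 b = e := by
  classical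
  set L := (att Q g).map D.ρ ⊓ K0 with hL
  have hm : ∀ b, lin16 b ∈ L := fun b => by
    have h : ∀ k, cond (b k) (lin4 k) 1 ∈ L := fun k => by
      cases b k
      · exact one_mem _
      · exact hA.lin4_mem D hs hv k
    exact mul_mem (mul_mem (mul_mem (h 0) (h 1)) (h 2)) (h 3)
  refine ⟨fun he => ?_, fun ⟨b, h⟩ => h ▸ hm b⟩
  let f : (Fin 4 → Bool) → L := fun b => ⟨lin16 b, hm b⟩
  have hf : Function.Injective f := fun b c h => by
    have h' : lin16 b = lin16 c := congrArg Subtype.val h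
    exact lin16_inj b c (by rw [h']) (by rw [h']) (by rw [h']) (by rw [h'])
  have hsurj : Function.Surjective f := ((Nat.bijective_iff_injective_and_card f).2 ⟨hf, by
    rw [(hA.image_struct D hs hv).2.1]; simp [Nat.card_eq_fintype_card]⟩).2
  obtain ⟨b, hb⟩ := hsurj ⟨e, he⟩
  exact ⟨b, congrArg Subtype.val hb⟩

/-- Elements of both subgroups have image in `inS`, and conversely. -/
theorem Fused.inS_iff (hA : Fused z Q s g) (D : Model z Q) (hs : s ∈ Q) (hv : D.Φ s = v3)
    {F : G → Subgroup G} (hF1 : F z = up Q) (hF2 : F s = (up Q).map (MulAut.conj g).toMonoidHom)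
    (hL : H69.Pair F z z (s : G)) (y : W) :
    inS y ↔ ∃ x ∈ Q, (x : G) ∈ F s ∧ D.Φ x = y := by
  classical
  have hto : ∀ x ∈ Q, (x : G) ∈ F s → inS (D.Φ x) := by
    intro x hx hxs
    refine inS_of_lin _ (hv ▸ (D.comm x hx s hs).1 (Subtype.ext ?_)) fun k => ?_
    · exact (hL.L.commute_of_mem hxs).eq
    obtain ⟨⟨a, ha, hak⟩, -⟩ := hA.lin4_mem D hs hv k
    rw [← hak, D.conj a x hx]
    have ha' : (a : G) ∈ F s := by
      rw [hF2]; exact (Subgroup.mem_inf.1 (Subgroup.mem_subgroupOf.1 ha)).1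
    have hax : a * x * a⁻¹ ∈ Q := Subgroup.Normal.conj_mem inferInstance x hx a
    rcases hL.symm.cm ha' hxs with h | h
    · left
      congr 1
      exact Subtype.ext (mul_inv_eq_of_eq_mul h)
    · right
      have e : a * x * a⁻¹ = s * x := Subtype.ext (by
        show (a : G) * x * (a : G)⁻¹ = s * x
        rw [h]; group)
      rw [e, D.map_mul s hs x hx, hv, add_comm]
  refine ⟨fun hy => ?_, fun ⟨x, hx, hxs, e⟩ => e ▸ hto x hx hxs⟩
  have hzQ : zc z ∈ Q := D.zc_mem
  set I := up Q ⊓ F (s : G) with hI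
  have hcI : Nat.card I = 2 ^ 7 := by
    rw [hI, hF2]; exact (hA.image_struct D hs hv).2.2.1
  let : Fintype I := Fintype.ofFinite I
  let φ : I → W := fun x => D.Φ ⟨x.1, Subgroup.map_subtype_le Q x.2.1⟩
  have hmem : ∀ x : I, (⟨x.1, Subgroup.map_subtype_le Q x.2.1⟩ : Subgroup.centralizer ({z} : Set G)) ∈ Q :=
    fun x => mem_up.1 x.2.1
  have himg : (Finset.univ.image φ) = Finset.univ.filter inS := by
    refine Finset.eq_of_subset_of_card_le (fun w hw => ?_) ?_
    · obtain ⟨x, -, rfl⟩ := Finset.mem_image.1 hw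
      exact Finset.mem_filter.2 ⟨Finset.mem_univ _, hto _ (hmem x) x.2.2⟩
    · rw [card_inS]
      have h2 : (Finset.univ : Finset I).card ≤ 2 * (Finset.univ.image φ).card := by
        refine Finset.card_le_mul_card_image _ 2 fun w hw => ?_
        obtain ⟨x0, -, hx0⟩ := Finset.mem_image.1 hw
        refine le_trans (Finset.card_le_card_of_injOn (fun x : I => (x : G))
          (t := {(x0 : G), (x0 : G) * z}) (fun x hx => ?_) Subtype.val_injective.injOn) Finset.card_le_two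
        have := D.eq_or_mul (hmem x) (hmem x0) ((Finset.mem_filter.1 hx).2.trans hx0.symm)
        simpa using this
      rw [Finset.card_univ, ← Nat.card_eq_fintype_card, hcI] at h2
      omega
  have : y ∈ Finset.univ.image φ := himg ▸ Finset.mem_filter.2 ⟨Finset.mem_univ _, hy⟩
  obtain ⟨x, -, hx⟩ := Finset.mem_image.1 this
  exact ⟨_, hmem x, x.2.2, hx⟩

end H16.Fi24
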